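import Groth.Agent.QCohLib.AbPush
import Groth.Prelude.Def_CohTop
import Mathlib.Topology.Sheaves.Over
import Mathlib.CategoryTheory.Sites.Pullback
import Mathlib.Algebra.Category.Grp.FilteredColimits

/-!
# Basic properties of cohomology of abelian sheaves on topological spaces
-/

universe u
open CategoryTheory CategoryTheory.Limits TopologicalSpace Opposite CategoryTheory.Abelian

namespace CohTopLib

open QCohLib

variable {X Y : TopCat.{u}}

/-- An exact functor carrying injectives to flasque sheaves and commuting with sections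
commutes with cohomology. -/
theorem nonempty_HU_equiv (G : AbSh X ⥤ AbSh Y) [G.Additive]
    (U : Opens X) (V : Opens Y)
    (e : ∀ F : AbSh X, F.obj.obj (op U) ≃+ (G.obj F).obj.obj (op V))
    (he : ∀ {F F' : AbSh X} (φ : F ⟶ F') (s : F.obj.obj (op U)),
      e F' (φ.hom.app (op U) s) = (G.map φ).hom.app (op V) (e F s))
    (hI : ∀ I : AbSh X, Injective I →
      TopCat.Sheaf.IsFlasque (G.obj I : TopCat.Sheaf AddCommGrpCat Y))
    (hG : ∀ S : ShortComplex (AbSh X), S.ShortExact → (S.map G).ShortExact)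
    (n : ℕ) (F : AbSh X) : Nonempty (HU (G.obj F) n V ≃+ HU F n U) := by
  induction n using Nat.strong_induction_on generalizing F with
  | _ n ih =>
    let S := injSeq F
    have hS : S.ShortExact := injSeq_shortExact F
    have hT : (S.map G).ShortExact := hG S hS
    haveI := hI S.X₂ inferInstance
    match n, ih with
    | 0, _ => exact ⟨(h0 (F := G.obj F) (U := V)).trans ((e F).symm.trans (h0 (F := F) (U := U)).symm)⟩
    | 1, _ =>
      have : Subsingleton (HU (S.map G).X₂ 1 V) := subsingleton_of_isFlasque 0 (G.obj S.X₂) V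
      have hk : ((delta0 hT V).comp (e S.X₃).toAddMonoidHom).ker = (delta0 hS U).ker := by
        ext q
        change delta0 hT V (e S.X₃ q) = 0 ↔ delta0 hS U q = 0
        rw [delta0_eq_zero_iff, delta0_eq_zero_iff]
        constructor
        · rintro ⟨t, ht⟩
          obtain ⟨s, rfl⟩ := (e S.X₂).surjective t
          exact ⟨s, (e S.X₃).injective ((he S.g s).trans ht)⟩
        · rintro ⟨t, rfl⟩
          exact ⟨e S.X₂ t, (he S.g t).symm⟩
      exact nonempty_addEquiv_of_ker_eq ((delta0 hT V).comp (e S.X₃).toAddMonoidHom) (delta0 hS U)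
        (fun y => by
          obtain ⟨x, hx⟩ := delta0_surjective hT V y
          exact ⟨(e S.X₃).symm x, (congrArg (delta0 hT V) ((e S.X₃).apply_symm_apply x)).trans hx⟩) (delta0_surjective hS U) hk
    | m + 2, ih =>
      have : Subsingleton (HU (S.map G).X₂ (m + 1) V) := subsingleton_of_isFlasque m (G.obj S.X₂) V
      have : Subsingleton (HU (S.map G).X₂ (m + 2) V) :=
        subsingleton_of_isFlasque (m + 1) (G.obj S.X₂) V
      obtain ⟨e'⟩ := ih (m + 1) (by omega) S.X₃
      exact ⟨(deltaEquiv hT m V).symm.trans (e'.trans (deltaEquiv hS m U))⟩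

/-! ### Closed embeddings -/

/-- Direct image along an inducing map with closed range preserves epimorphisms. -/
theorem pf_epi_of_isClosedEmbedding (f : X ⟶ Y) (hf : Topology.IsClosedEmbedding f)
    {S : ShortComplex (AbSh X)} (hS : S.ShortExact) : Epi ((pf f).map S.g) := by
  refine (Sheaf.isLocallySurjective_iff_epi' (φ := (pf f).map S.g)).mp
    ((TopCat.Presheaf.isLocallySurjective_iff _).mpr ?_)
  intro V s p hp
  by_cases hpr : p ∈ Set.range f
  · obtain ⟨q, rfl⟩ := hpr
    obtain ⟨W, hW, ⟨t, ht⟩, hqW⟩ :=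
      (TopCat.Presheaf.isLocallySurjective_iff S.g.hom).mp
        ((Sheaf.isLocallySurjective_iff_epi' (φ := S.g)).mpr hS.epi_g) (pre f V) s q hp
    obtain ⟨W', hW'o, hW'⟩ := hf.isInducing.isOpen_iff.mp W.isOpen
    let V' : Opens Y := ⟨W', hW'o⟩ ⊓ V
    have hle : pre f V' ≤ W := fun x hx => by
      have h1 : x ∈ f ⁻¹' W' := hx.1
      rwa [hW'] at h1
    refine ⟨V', inf_le_right, ⟨S.X₂.obj.map (homOfLE hle).op t, ?_⟩,
      ⟨show q ∈ f ⁻¹' W' by rw [hW']; exact hqW, hp⟩⟩
    change S.g.hom.app (op (pre f V')) (S.X₂.obj.map (homOfLE hle).op t) =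
      S.X₃.obj.map ((Opens.map f).map (homOfLE inf_le_right : V' ⟶ V)).op s
    rw [NatTrans.naturality_apply]
    refine (congrArg (S.X₃.obj.map (homOfLE hle).op) ht).trans ?_
    exact (congr($(S.X₃.obj.map_comp (homOfLE hW).op (homOfLE hle).op) s)).symm
  · let W : Opens Y := ⟨(Set.range f)ᶜ, hf.isClosed_range.isOpen_compl⟩ ⊓ V
    refine ⟨W, inf_le_right, ⟨0, ?_⟩, ⟨hpr, hp⟩⟩
    have hbot : pre f W = ⊥ := eq_bot_iff.mpr fun x hx => hx.1 ⟨x, rfl⟩
    have : Subsingleton (S.X₃.obj.obj (op (pre f W))) := by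
      rw [hbot]
      exact AddCommGrpCat.subsingleton_of_isZero
        (IsTerminal.isZero (TopCat.Sheaf.isTerminalOfEmpty S.X₃))
    exact @Subsingleton.elim _ this _ _

theorem pf_shortExact_of_isClosedEmbedding (f : X ⟶ Y) (hf : Topology.IsClosedEmbedding f)
    {S : ShortComplex (AbSh X)} (hS : S.ShortExact) : (S.map (pf f)).ShortExact :=
  { exact := (pf_exact_and_mono hS.exact hS.mono_f).1
    mono_f := (pf_exact_and_mono hS.exact hS.mono_f).2
    epi_g := pf_epi_of_isClosedEmbedding f hf hS }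

/-- Cohomology of a direct image along a closed embedding, on every open. -/
theorem nonempty_HU_pf_equiv (f : X ⟶ Y) (hf : Topology.IsClosedEmbedding f)
    (n : ℕ) (F : AbSh X) (V : Opens Y) :
    Nonempty (HU ((pf f).obj F) n V ≃+ HU F n (pre f V)) :=
  nonempty_HU_equiv (pf f) (pre f V) V (fun _ => AddEquiv.refl _) (fun _ _ => rfl)
    (fun I _ => isFlasque_pf I) (fun _ hS => pf_shortExact_of_isClosedEmbedding f hf hS) n F

/-- Cohomology of a direct image along a closed embedding. -/
theorem nonempty_H_push_equiv (f : X ⟶ Y) (hf : Topology.IsClosedEmbedding f)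
    (n : ℕ) (F : AbSh X) :
    Nonempty (CategoryTheory.Sheaf.H F n ≃+ CategoryTheory.Sheaf.H ((pf f).obj F) n) := by
  obtain ⟨e⟩ := nonempty_HU_pf_equiv f hf n F ⊤
  exact ⟨(hEquiv F n).trans (e.symm.trans (hEquiv ((pf f).obj F) n).symm)⟩

/-! ### Restriction to an open -/

variable (U : Opens X)

/-- The open image of an open of an open subspace. -/
abbrev img (W : Opens (TopCat.of U)) : Opens X :=
  U.isOpenEmbedding.isOpenMap.functor.obj W

theorem restr_epi {F G : AbSh X} (g : F ⟶ G) [Epi g] : Epi ((CohTop.restrFunctor U).map g) := by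
  refine (Sheaf.isLocallySurjective_iff_epi' (φ := (CohTop.restrFunctor U).map g)).mp
    ((TopCat.Presheaf.isLocallySurjective_iff _).mpr ?_)
  intro V s p hp
  obtain ⟨W, hW, ⟨t, ht⟩, hpW⟩ := (TopCat.Presheaf.isLocallySurjective_iff g.hom).mp
    ((Sheaf.isLocallySurjective_iff_epi' (φ := g)).mpr inferInstance)
    (img U V) s p.1 ⟨p, hp, rfl⟩
  let W' : Opens (TopCat.of U) := ⟨Subtype.val ⁻¹' (W : Set X), W.isOpen.preimage continuous_subtype_val⟩
  have hle : W' ≤ V := fun x hx => by
    obtain ⟨y, hy, e⟩ := hW hx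
    rwa [← Subtype.ext e]
  have himg : img U W' ≤ W := by
    rintro _ ⟨x, hx, rfl⟩
    exact hx
  refine ⟨W', hle, ⟨F.obj.map (homOfLE himg).op t, ?_⟩, hpW⟩
  change g.hom.app (op (img U W')) (F.obj.map (homOfLE himg).op t) =
    G.obj.map (U.isOpenEmbedding.isOpenMap.functor.map (homOfLE hle)).op s
  rw [NatTrans.naturality_apply]
  refine (congrArg (G.obj.map (homOfLE himg).op) ht).trans ?_
  exact (congr($(G.obj.map_comp (homOfLE hW).op (homOfLE himg).op) s)).symm

instance preservesFiniteLimits_restr : PreservesFiniteLimits (CohTop.restrFunctor U) := by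
  haveI : PreservesFiniteLimits (CohTop.restrFunctor U ⋙ sheafToPresheaf _ _) := by
    change PreservesFiniteLimits (sheafToPresheaf _ _ ⋙
      (Functor.whiskeringLeft _ _ _).obj U.isOpenEmbedding.isOpenMap.functor.op)
    infer_instance
  exact preservesFiniteLimits_of_reflects_of_preserves _ (sheafToPresheaf _ _)

theorem restr_shortExact {S : ShortComplex (AbSh X)} (hS : S.ShortExact) :
    (S.map (CohTop.restrFunctor U)).ShortExact := by
  haveI := hS.epi_g
  obtain ⟨h1, h2⟩ := ((Functor.preservesFiniteLimits_tfae (CohTop.restrFunctor U)).out 1 3 rfl rfl).mpr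
    inferInstance S ⟨hS.exact, hS.mono_f⟩
  exact { exact := h1, mono_f := h2, epi_g := restr_epi U S.g }

theorem isFlasque_restr (F : AbSh X) [TopCat.Sheaf.IsFlasque (F : TopCat.Sheaf AddCommGrpCat X)] :
    TopCat.Sheaf.IsFlasque ((CohTop.restrFunctor U).obj F :
      TopCat.Sheaf AddCommGrpCat (TopCat.of U)) where
  epi i := TopCat.Presheaf.IsFlasque.epi (F := (F : TopCat.Sheaf AddCommGrpCat X).obj)
    (U.isOpenEmbedding.isOpenMap.functor.map i.unop).op

theorem img_top : img U ⊤ = U := Opens.ext (Set.ext fun x =>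
  ⟨fun ⟨y, _, e⟩ => e ▸ y.2, fun h => ⟨⟨x, h⟩, trivial, rfl⟩⟩)

/-- `H^n(U, F)` is the cohomology of the restriction to `U`. -/
theorem nonempty_HU_restr_equiv (n : ℕ) (F : AbSh X) :
    Nonempty (HU F n U ≃+ CategoryTheory.Sheaf.H (CohTop.restr F U) n) := by
  let i : U ⟶ img U ⊤ := eqToHom (img_top U).symm
  have h := nonempty_HU_equiv (CohTop.restrFunctor U) (img U ⊤) (⊤ : Opens (TopCat.of U))
    (fun _ => AddEquiv.refl _) (fun _ _ => rfl)
    (fun I _ => isFlasque_restr U I) (fun _ hS => restr_shortExact U hS) n F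
  rw [img_top U] at h
  obtain ⟨e⟩ := h
  exact ⟨e.symm.trans (hEquiv _ n).symm⟩

/-! ### Direct images of injectives -/

instance preservesFiniteLimits_pull (f : X ⟶ Y) :
    PreservesFiniteLimits (TopCat.Sheaf.pullback AddCommGrpCat.{u} f) :=
  Functor.SmallCategories.instPreservesFiniteLimitsSheafSheafPullbackOfRepresentablyFlat _ _ _ _

instance preservesMonomorphisms_pull (f : X ⟶ Y) :
    (TopCat.Sheaf.pullback AddCommGrpCat.{u} f).PreservesMonomorphisms :=
  preservesMonomorphisms_of_preservesLimitsOfShape _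

theorem injective_pf (f : X ⟶ Y) (I : AbSh X) [hI : Injective I] : Injective ((pf f).obj I) :=
  @Injective.injective_of_adjoint (AbSh Y) _ (AbSh X) _ (TopCat.Sheaf.pullback AddCommGrpCat.{u} f)
    (pf f) (preservesMonomorphisms_pull f)
    (TopCat.Sheaf.pullbackPushforwardAdjunction AddCommGrpCat.{u} f) I hI

theorem isZero_Rpush_of_isFlasque (f : X ⟶ Y) (F : AbSh X)
    [TopCat.Sheaf.IsFlasque (F : TopCat.Sheaf AddCommGrpCat X)] (q : ℕ) :
    IsZero ((CohTop.Rpush f (q + 1)).obj F) :=
  isZero_rightDerived (B := Set.univ) (Opens.isBasis_iff_nbhd.mpr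
    fun {V x} hx => ⟨V, trivial, hx, le_rfl⟩)
    (fun V _ n _ => subsingleton_of_isFlasque n F (pre f V)) (Nat.succ_pos q)

end CohTopLib
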