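import Groth.Agent.CohTopLib.Basic

/-!
# Degenerate Leray for a push-forward without higher direct images
-/

universe u
open CategoryTheory CategoryTheory.Limits TopologicalSpace Opposite CategoryTheory.Abelian

namespace CohTopLib

open QCohLib

/-- `Ext` along an isomorphism in the second variable. -/
noncomputable def extCongrRight {X : TopCat.{u}} {A F G : AbSh X} (e : F ≅ G) (n : ℕ) :
    Ext A F n ≃+ Ext A G n :=
  AddEquiv.mk
    { toFun := fun x => x.comp (Ext.mk₀ e.hom) (add_zero n)
      invFun := fun x => x.comp (Ext.mk₀ e.inv) (add_zero n)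
      left_inv := fun x => by simp
      right_inv := fun x => by simp }
    (fun x y => Ext.add_comp _ _ _ (add_zero n))

variable {X Y : TopCat.{u}} (f : X ⟶ Y) {F : AbSh X} (I : InjectiveResolution F)

theorem epi_pf_cycleSeq (k : ℕ) (h : IsZero (((pf f).rightDerived (k + 1)).obj F)) :
    Epi ((pf f).map (cycleSeq I k).g) := by
  let K := ((pf f).mapHomologicalComplex _).obj I.cocomplex
  have hK : IsZero (K.homology (k + 1)) := h.of_iso (I.isoRightDerivedObj (pf f) (k + 1)).symm
  rw [← HomologicalComplex.exactAt_iff_isZero_homology,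
    K.exactAt_iff' k (k + 1) (k + 2) (by simp) (by simp [CochainComplex.next]),
    ShortComplex.exact_iff_epi_kernel_lift] at hK
  have hm : Mono ((pf f).map (kernel.ι (I.cocomplex.d (k + 1) (k + 2)))) :=
    (pf_exact_and_mono (f := f) (cycleSeq_shortExact I (k + 1)).exact
      (cycleSeq_shortExact I (k + 1)).mono_f).2
  have : PreservesLimitsOfSize.{u, u} (pf f) :=
    (TopCat.Sheaf.pullbackPushforwardAdjunction AddCommGrpCat.{u} f).rightAdjoint_preservesLimits
  let e := PreservesKernel.iso (pf f) (I.cocomplex.d (k + 1) (k + 2))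
  have hlift : kernel.lift ((pf f).map (I.cocomplex.d (k + 1) (k + 2)))
      ((pf f).map (I.cocomplex.d k (k + 1))) (by rw [← Functor.map_comp, I.cocomplex.d_comp_d, Functor.map_zero]) =
      (pf f).map (cycleSeq I k).g ≫ e.hom := by
    rw [← cancel_mono (kernel.ι _), kernel.lift_ι, Category.assoc]
    simp only [e, PreservesKernel.iso_hom, kernelComparison_comp_ι]
    rw [← Functor.map_comp, kernel.lift_ι]
  have h2 : Epi ((pf f).map (cycleSeq I k).g ≫ e.hom) := Eq.mp (congrArg Epi hlift) hK
  have : (pf f).map (cycleSeq I k).g = ((pf f).map (cycleSeq I k).g ≫ e.hom) ≫ e.inv := by simp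
  rw [this]
  exact @epi_comp _ _ _ _ _ _ h2 e.inv inferInstance

theorem nonempty_HU_cycle_equiv (h : ∀ q : ℕ, IsZero (((pf f).rightDerived (q + 1)).obj F))
    (n : ℕ) (k : ℕ) (V : Opens Y) :
    Nonempty (HU ((pf f).obj (kernel (I.cocomplex.d k (k + 1)))) n V ≃+
      HU (kernel (I.cocomplex.d k (k + 1))) n (pre f V)) := by
  induction n using Nat.strong_induction_on generalizing k with
  | _ n ih =>
    let S := cycleSeq I k
    have hS : S.ShortExact := cycleSeq_shortExact I k
    have hT : (S.map (pf f)).ShortExact :=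
      { exact := (pf_exact_and_mono hS.exact hS.mono_f).1
        mono_f := (pf_exact_and_mono hS.exact hS.mono_f).2
        epi_g := epi_pf_cycleSeq f I k (h k) }
    haveI : Injective S.X₂ := I.injective k
    match n, ih with
    | 0, _ => exact ⟨(h0 (F := (pf f).obj S.X₁) (U := V)).trans (h0 (F := S.X₁) (U := pre f V)).symm⟩
    | 1, _ =>
      have : Subsingleton (HU (S.map (pf f)).X₂ 1 V) := subsingleton_pf_injective S.X₂ 0 V
      have hk : (delta0 hT V).ker = (delta0 hS (pre f V)).ker := by
        ext q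
        exact (delta0_eq_zero_iff hT V q).trans (delta0_eq_zero_iff hS (pre f V) q).symm
      exact nonempty_addEquiv_of_ker_eq _ _ (delta0_surjective hT V) (delta0_surjective hS (pre f V)) hk
    | m + 2, ih =>
      have : Subsingleton (HU (S.map (pf f)).X₂ (m + 1) V) := subsingleton_pf_injective S.X₂ m V
      have : Subsingleton (HU (S.map (pf f)).X₂ (m + 2) V) :=
        subsingleton_pf_injective S.X₂ (m + 1) V
      obtain ⟨e⟩ := ih (m + 1) (by omega) (k + 1)
      exact ⟨(deltaEquiv hT m V).symm.trans (e.trans (deltaEquiv hS m (pre f V)))⟩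

/-- `H^n(X, F) = H^n(Y, f_* F)` when all higher direct images vanish. -/
theorem nonempty_H_equiv_of_isZero_Rpush (F : AbSh X)
    (h : ∀ q : ℕ, IsZero (((pf f).rightDerived (q + 1)).obj F)) (n : ℕ) :
    Nonempty (CategoryTheory.Sheaf.H F n ≃+ CategoryTheory.Sheaf.H ((pf f).obj F) n) := by
  let I : InjectiveResolution F := Classical.choice ((HasInjectiveResolutions.out F).out)
  obtain ⟨e⟩ := nonempty_HU_cycle_equiv f I h n 0 ⊤
  have : Mono (I.ι.f 0) := inferInstance
  let i : kernel (I.cocomplex.d 0 1) ≅ F :=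
    ((I.exact₀.fIsKernel).conePointUniqueUpToIso (limit.isLimit _)).symm
  have hX : HU (kernel (I.cocomplex.d 0 1)) n (pre f ⊤) ≃+ HU F n (⊤ : Opens X) :=
    extCongrRight i n
  exact ⟨(hEquiv F n).trans (hX.symm.trans (e.symm.trans
    ((extCongrRight ((pf f).mapIso i) n).trans (hEquiv ((pf f).obj F) n).symm)))⟩

end CohTopLib
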