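import Groth.Agent.CohTopLib.ColimSect
import Groth.Agent.CechLib.Cartan
import Mathlib.Topology.Spectral.Prespectral
import Mathlib.Algebra.Category.Grp.FilteredColimits

/-!
# Cohomology over compact opens commutes with filtered colimits (coherent spaces)
-/

set_option linter.unusedSectionVars false
set_option linter.style.haveILetI false
set_option backward.isDefEq.respectTransparency false

universe u
open CategoryTheory CategoryTheory.Limits TopologicalSpace Opposite CategoryTheory.Abelian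

namespace CohTopLib.ColimCoh

variable {X : TopCat.{u}}

/-- Stalkwise map of discontinuous sections. -/
noncomputable def gdMap {F G : QCohLib.AbSh X} (f : F ⟶ G) : CechLib.gd F ⟶ CechLib.gd G :=
  ⟨{ app := fun U => AddCommGrpCat.ofHom
      (AddMonoidHom.pi fun x : U.unop =>
        ((TopCat.Presheaf.stalkFunctor AddCommGrpCat.{u} x.1).map f.hom).hom.comp
          (Pi.evalAddMonoidHom (fun y : U.unop => (CechLib.pre F).stalk y.1) x))
     naturality := fun _ _ _ => rfl }⟩

/-- Discontinuous sections as a functor. -/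
noncomputable def gdFun : QCohLib.AbSh X ⥤ QCohLib.AbSh X where
  obj F := CechLib.gd F
  map f := gdMap f
  map_id F := by
    refine ObjectProperty.hom_ext _ (NatTrans.ext (funext fun U => ?_))
    ext s
    funext x
    exact ConcreteCategory.congr_hom
      ((TopCat.Presheaf.stalkFunctor AddCommGrpCat.{u} x.1).map_id F.obj) (s x)
  map_comp f g := by
    refine ObjectProperty.hom_ext _ (NatTrans.ext (funext fun U => ?_))
    ext s
    funext x
    exact ConcreteCategory.congr_hom
      ((TopCat.Presheaf.stalkFunctor AddCommGrpCat.{u} x.1).map_comp f.hom g.hom) (s x)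

/-- The natural germ map. -/
noncomputable def gdιNat : 𝟭 (QCohLib.AbSh X) ⟶ gdFun where
  app F := CechLib.gdι F
  naturality F G f := by
    refine ObjectProperty.hom_ext _ (NatTrans.ext (funext fun U => ?_))
    ext s
    funext x
    exact (TopCat.Presheaf.stalkFunctor_map_germ_apply U.unop x.1 x.2 f.hom s).symm

theorem sub_comp {A : Type*} [Category A] [Abelian A] [HasExt A] {P Q R : A} {a b : ℕ} (x x' : Ext P Q a)
    (y : Ext Q R b) {n : ℕ} (h : a + b = n) : (x - x').comp y h = x.comp y h - x'.comp y h := by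
  rw [sub_eq_add_neg, sub_eq_add_neg, Ext.add_comp, Ext.neg_comp]

theorem isCompact_cap [QuasiSeparatedSpace X] {ι : Type u} (U : ι → Opens X)
    (hU : ∀ i, IsCompact (U i : Set X)) : ∀ {n : ℕ} (J : Fin (n + 1) → ι),
    IsCompact (CechLib.cap U J : Set X) := by
  intro n
  induction n with
  | zero =>
    intro J
    have h : CechLib.cap U J = U (J 0) := le_antisymm (CechLib.cap_le U J 0)
      ((CechLib.le_cap_iff U).mpr fun a => by rw [Fin.fin_one_eq_zero a])
    rw [h]; exact hU _
  | succ n ih =>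
    intro J
    have h : CechLib.cap U J = U (J 0) ⊓ CechLib.cap U (fun a => J a.succ) :=
      le_antisymm (le_inf (CechLib.cap_le U J 0) ((CechLib.le_cap_iff U).mpr fun a => CechLib.cap_le U J a.succ))
        ((CechLib.le_cap_iff U).mpr fun a => by
          cases a using Fin.cases with
          | zero => exact inf_le_left
          | succ a => exact inf_le_right.trans (CechLib.cap_le U (fun b => J b.succ) a))
    rw [h]
    exact QuasiSeparatedSpace.inter_isCompact _ _ (U (J 0)).2 (hU _) (CechLib.cap U _).2 (ih _)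

theorem qs_inf [QuasiSeparatedSpace X] (V W : Opens X) (hV : IsCompact (V : Set X))
    (hW : IsCompact (W : Set X)) : IsCompact ((V ⊓ W : Opens X) : Set X) :=
  QuasiSeparatedSpace.inter_isCompact _ _ V.2 hV W.2 hW

theorem isBasis_compact [PrespectralSpace X] : Opens.IsBasis {V : Opens X | IsCompact (V : Set X)} :=
  PrespectralSpace.isBasis_opens X

variable [PrespectralSpace X] [QuasiSeparatedSpace X]
variable {J : Type u} [SmallCategory J] [IsFiltered J]

/-- Colimits of Čech acyclic sheaves are acyclic over compact opens. -/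
theorem subsingleton_HU_colim {D : J ⥤ QCohLib.AbSh X} {c : Cocone D} (hc : IsColimit c)
    (hD : ∀ (i : J) (ι : Type u) (V : ι → Opens X) (n : ℕ) (z : CechLib.Cochain V (D.obj i).obj (n + 1)),
      CechLib.dd V (D.obj i).obj (n + 1) z = 0 → ∃ b, CechLib.dd V (D.obj i).obj n b = z)
    (q : ℕ) (U : Opens X) (hU : IsCompact (U : Set X)) : Subsingleton (QCohLib.HU c.pt (q + 1) U) := by
  classical
  refine CechLib.subsingleton_HU_of_cartan {V : Opens X | IsCompact (V : Set X)}
    (fun ι V => Finite ι ∧ ∀ i, IsCompact (V i : Set X)) (fun ι V hV p a => isCompact_cap V hV.2 a)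
    (fun U hU κ W hW => ?_) c.pt (fun ι V hV p => ?_) q U hU
  · have hloc : ∀ y : (U : Set X), ∃ V : Opens X, IsCompact (V : Set X) ∧ y.1 ∈ V ∧ V ≤ U ∧ ∃ k, V ≤ W k := by
      rintro ⟨y, hy⟩
      obtain ⟨k, hk⟩ := Opens.mem_iSup.mp (hW.symm ▸ hy : y ∈ iSup W)
      obtain ⟨V, hV, hyV, hle⟩ := Opens.isBasis_iff_nbhd.mp (isBasis_compact (X := X)) hk
      exact ⟨V, hV, hyV, hle.trans (hW ▸ le_iSup W k), k, hle⟩
    choose V hV hyV hVU k hk using hloc
    obtain ⟨t, ht⟩ := hU.elim_finite_subcover (fun y => (V y : Set X)) (fun y => (V y).2)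
      (fun y hy => Set.mem_iUnion.mpr ⟨⟨y, hy⟩, hyV ⟨y, hy⟩⟩)
    refine ⟨t, fun y => V y.1, ⟨inferInstance, fun y => hV y.1⟩, le_antisymm (iSup_le fun y => hVU y.1) ?_,
      fun y => ⟨k y.1, hk y.1⟩⟩
    intro x hx
    obtain ⟨y, hy, hxy⟩ := Set.mem_iUnion₂.mp (ht hx)
    exact Opens.mem_iSup.mpr ⟨⟨y, hy⟩, hxy⟩
  · rw [CechLib.isZero_homology_succ_iff]
    intro z hz
    haveI := hV.1
    haveI : Fintype ι := Fintype.ofFinite ι
    have hsurj : ∀ a : Fin (p + 2) → ι, ∃ (k : J) (s : (D.obj k).obj.obj (op (CechLib.cap V a))),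
        (c.ι.app k).hom.app (op _) s = z a := fun a =>
      exists_stage_section hc qs_inf isBasis_compact _ (isCompact_cap V hV.2 a) (z a)
    choose k s hs using hsurj
    obtain ⟨K₀, hK₀⟩ := IsFiltered.sup_objs_exists (Finset.univ.image k)
    let e : ∀ a, k a ⟶ K₀ := fun a => (hK₀ (Finset.mem_image_of_mem k (Finset.mem_univ a))).some
    let z₀ : CechLib.Cochain V (D.obj K₀).obj (p + 1) := fun a => (D.map (e a)).hom.app (op _) (s a)
    have hz₀ : ∀ a, (c.ι.app K₀).hom.app (op _) (z₀ a) = z a := fun a =>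
      (app_w _ (e a) (s a)).trans (hs a)
    have hdd : ∀ {F G : QCohLib.AbSh X} (φ : F ⟶ G) (n : ℕ) (w : CechLib.Cochain V F.obj n)
        (a : Fin (n + 2) → ι),
        φ.hom.app (op _) (CechLib.dd V F.obj n w a) =
          CechLib.dd V G.obj n (fun b => φ.hom.app (op _) (w b)) a := by
      intro F G φ n w a
      rw [CechLib.dd_apply, CechLib.dd_apply, map_sum]
      refine Finset.sum_congr rfl fun j _ => ?_
      rw [map_zsmul]
      exact congrArg _ (CechLib.app_rs φ _ _)
    have heq : ∀ a : Fin (p + 3) → ι, ∃ (l : J) (f : K₀ ⟶ l),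
        (D.map f).hom.app (op _) (CechLib.dd V (D.obj K₀).obj (p + 1) z₀ a) = 0 := fun a => by
      obtain ⟨l, f, hf⟩ := exists_stage_eq hc _ (isCompact_cap V hV.2 a)
        (CechLib.dd V (D.obj K₀).obj (p + 1) z₀ a) 0 (by
          rw [map_zero, hdd]
          exact (congrArg (fun w => CechLib.dd V c.pt.obj (p + 1) w a) (funext hz₀)).trans (congrFun hz a))
      exact ⟨l, f, hf.trans (map_zero _)⟩
    choose l f hf using heq
    obtain ⟨K, g, hg⟩ := exists_common (Finset.univ : Finset (Fin (p + 3) → ι)) f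
    let z₁ : CechLib.Cochain V (D.obj K).obj (p + 1) := fun a => (D.map g).hom.app (op _) (z₀ a)
    obtain ⟨b, hb⟩ := hD K ι V p z₁ (funext fun a => by
      obtain ⟨g', hg'⟩ := hg a (Finset.mem_univ a)
      refine (hdd (D.map g) (p + 1) z₀ a).symm.trans ?_
      rw [← hg', app_map_comp, hf]
      exact map_zero _)
    refine ⟨fun a => (c.ι.app K).hom.app (op _) (b a), funext fun a => ?_⟩
    refine (hdd (c.ι.app K) p b a).symm.trans ?_
    rw [hb]
    exact (app_w _ g (z₀ a)).trans (hz₀ a)

section Main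

variable (U : Opens X) (hU : IsCompact (U : Set X))

/-- Classes of a colimit come from stages and are detected at stages. -/
def Prop₁ (q : ℕ) : Prop :=
  ∀ (D : J ⥤ QCohLib.AbSh X) (c : Cocone D), IsColimit c →
    (∀ x : QCohLib.HU c.pt q U, ∃ (i : J) (y : QCohLib.HU (D.obj i) q U),
      y.comp (Ext.mk₀ (c.ι.app i)) (add_zero q) = x) ∧
    (∀ (i : J) (y : QCohLib.HU (D.obj i) q U), y.comp (Ext.mk₀ (c.ι.app i)) (add_zero q) = 0 →
      ∃ (k : J) (a : i ⟶ k), y.comp (Ext.mk₀ (D.map a)) (add_zero q) = 0)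

include hU

theorem prop₁_zero : Prop₁ (J := J) U 0 := by
  intro D c hc
  refine ⟨fun x => ?_, fun i y hy => ?_⟩
  · obtain ⟨i, s, hs⟩ := exists_stage_section hc qs_inf isBasis_compact U hU (QCohLib.h0 x)
    refine ⟨i, QCohLib.h0.symm s, QCohLib.h0.injective ?_⟩
    rw [QCohLib.h0_comp, AddEquiv.apply_symm_apply]
    exact hs
  · obtain ⟨k, a, ha⟩ := exists_stage_eq hc U hU (QCohLib.h0 y) 0 (by
      rw [← QCohLib.h0_comp, hy, map_zero, map_zero])
    refine ⟨k, a, QCohLib.h0.injective ?_⟩
    rw [QCohLib.h0_comp, ha, map_zero, map_zero]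

set_option maxHeartbeats 1000000 in
theorem prop₁ : ∀ q : ℕ, Prop₁ (J := J) U q
  | 0 => prop₁_zero U hU
  | q + 1 => by
    have ih := prop₁ q
    intro D c hc
    haveI : IsGrothendieckAbelian.{u} (QCohLib.AbSh X) := QCohLib.isGrothendieckAbelian_abSh
    let ιD : D ⟶ D ⋙ gdFun := Functor.whiskerLeft D gdιNat
    haveI : ∀ j, Mono (ιD.app j) := fun j => CechLib.mono_gdι _
    haveI : Mono ιD := NatTrans.mono_of_mono_app _
    let S : ShortComplex (J ⥤ QCohLib.AbSh X) :=
      ShortComplex.mk ιD (cokernel.π ιD) (cokernel.condition _)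
    have hS : S.ShortExact :=
      { exact := ShortComplex.exact_of_g_is_cokernel _ (cokernelIsCokernel _)
        mono_f := inferInstanceAs (Mono ιD)
        epi_g := inferInstanceAs (Epi (cokernel.π ιD)) }
    let Sj := fun j => S.map ((evaluation J (QCohLib.AbSh X)).obj j)
    have hSj : ∀ j, (Sj j).ShortExact := fun j => hS.map_of_exact _
    haveI : PreservesFiniteLimits (colim : (J ⥤ QCohLib.AbSh X) ⥤ QCohLib.AbSh X) :=
      HasExactColimitsOfShape.preservesFiniteLimits
    let S' := S.map (colim : (J ⥤ QCohLib.AbSh X) ⥤ QCohLib.AbSh X)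
    have hS' : S'.ShortExact := hS.map_of_exact _
    let φ : ∀ j, Sj j ⟶ S' := fun j =>
      { τ₁ := colimit.ι S.X₁ j
        τ₂ := colimit.ι S.X₂ j
        τ₃ := colimit.ι S.X₃ j
        comm₁₂ := colimit.ι_map S.f j
        comm₂₃ := colimit.ι_map S.g j }
    let φm : ∀ {i k : J}, (i ⟶ k) → (Sj i ⟶ Sj k) := fun a =>
      { τ₁ := S.X₁.map a
        τ₂ := S.X₂.map a
        τ₃ := S.X₃.map a
        comm₁₂ := S.f.naturality a
        comm₂₃ := S.g.naturality a }
    haveI hflj : ∀ j, Subsingleton (QCohLib.HU (Sj j).X₂ (q + 1) U) := fun j =>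
      haveI : TopCat.Sheaf.IsFlasque ((Sj j).X₂ : TopCat.Sheaf AddCommGrpCat X) := CechLib.isFlasque_gd _
      QCohLib.subsingleton_of_isFlasque q _ U
    haveI hfl : Subsingleton (QCohLib.HU S'.X₂ (q + 1) U) :=
      subsingleton_HU_colim (colimit.isColimit S.X₂) (fun i ι V n z hz => CechLib.gd_cech (D.obj i) V n z hz) q U hU
    obtain ⟨h3s, h3i⟩ := ih S.X₃ (colimit.cocone _) (colimit.isColimit _)
    obtain ⟨h2s, -⟩ := ih S.X₂ (colimit.cocone _) (colimit.isColimit _)
    have main : (∀ x : QCohLib.HU S'.X₁ (q + 1) U, ∃ (i : J) (y : QCohLib.HU (D.obj i) (q + 1) U),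
          y.comp (Ext.mk₀ (colimit.ι D i)) (add_zero _) = x) ∧
        (∀ (i : J) (y : QCohLib.HU (D.obj i) (q + 1) U), y.comp (Ext.mk₀ (colimit.ι D i)) (add_zero _) = 0 →
          ∃ (k : J) (a : i ⟶ k), y.comp (Ext.mk₀ (D.map a)) (add_zero _) = 0) := by
      refine ⟨fun x => ?_, fun i x hx => ?_⟩
      · obtain ⟨y, rfl⟩ := QCohLib.exists_eq_comp_extClass hS' x
        obtain ⟨i, z, rfl⟩ := h3s y
        refine ⟨i, z.comp (hSj i).extClass rfl, ?_⟩
        refine (Ext.comp_assoc_of_third_deg_zero _ _ _ _).trans ?_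
        refine (congrArg (fun w => z.comp w rfl) (ShortComplex.ShortExact.extClass_naturality (hSj i) hS' (φ i))).trans ?_
        exact (Ext.comp_assoc_of_second_deg_zero _ _ _ _).symm
      · obtain ⟨z, rfl⟩ := QCohLib.exists_eq_comp_extClass (hSj i) x
        have h0 : (z.comp (Ext.mk₀ (colimit.ι S.X₃ i)) (add_zero q)).comp hS'.extClass rfl = 0 := by
          refine Eq.trans ?_ hx
          refine Eq.trans ?_ (Ext.comp_assoc_of_third_deg_zero _ _ _ _).symm
          refine (Ext.comp_assoc_of_second_deg_zero _ _ _ _).trans ?_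
          exact (congrArg (fun w => z.comp w rfl) (ShortComplex.ShortExact.extClass_naturality (hSj i) hS' (φ i))).symm
        obtain ⟨w, hw⟩ := Ext.covariant_sequence_exact₃ _ hS' _ rfl h0
        obtain ⟨k, t, rfl⟩ := h2s w
        let l := IsFiltered.max i k
        let a : i ⟶ l := IsFiltered.leftToMax i k
        let b : k ⟶ l := IsFiltered.rightToMax i k
        let diff : QCohLib.HU (S.X₃.obj l) q U := z.comp (Ext.mk₀ (S.X₃.map a)) (add_zero q) -
          (t.comp (Ext.mk₀ (S.X₂.map b)) (add_zero q)).comp (Ext.mk₀ (S.g.app l)) (add_zero q)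
        have hd : diff.comp (Ext.mk₀ (colimit.ι S.X₃ l)) (add_zero q) = 0 := by
          simp only [diff, sub_comp, Ext.comp_assoc_of_third_deg_zero, Ext.mk₀_comp_mk₀, colimit.w]
          rw [sub_eq_zero]
          refine hw.symm.trans ?_
          refine (Ext.comp_assoc_of_third_deg_zero _ _ _ _).trans ?_
          rw [Ext.mk₀_comp_mk₀]
          refine congrArg (fun f => t.comp (Ext.mk₀ f) (add_zero q)) ?_
          exact ((colimit.w S.X₂ b).symm =≫ S'.g).trans ((Category.assoc _ _ _).trans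
            ((whisker_eq (S.X₂.map b) (φ l).comm₂₃).trans (Category.assoc _ _ _).symm))
        obtain ⟨m, d, hm⟩ := h3i l diff hd
        refine ⟨m, a ≫ d, ?_⟩
        have hz : z.comp (Ext.mk₀ (S.X₃.map (a ≫ d))) (add_zero q) =
            (t.comp (Ext.mk₀ (S.X₂.map (b ≫ d))) (add_zero q)).comp (Ext.mk₀ (Sj m).g) (add_zero q) := by
          simp only [diff, sub_comp, Ext.comp_assoc_of_third_deg_zero, Ext.mk₀_comp_mk₀, sub_eq_zero] at hm
          simp only [Ext.comp_assoc_of_third_deg_zero, Ext.mk₀_comp_mk₀, Functor.map_comp]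
          refine hm.trans (congrArg (fun f => t.comp (Ext.mk₀ f) (add_zero q)) ?_)
          exact (whisker_eq (S.X₂.map b) (φm d).comm₂₃.symm).trans (Category.assoc _ _ _).symm
        refine (Ext.comp_assoc_of_third_deg_zero _ _ _ _).trans ?_
        refine (congrArg (fun w => z.comp w rfl)
          (ShortComplex.ShortExact.extClass_naturality (hSj i) (hSj m) (φm (a ≫ d)))).trans ?_
        refine (Ext.comp_assoc_of_second_deg_zero _ _ _ _).symm.trans ?_
        refine (congrArg (fun w => Ext.comp w (hSj m).extClass rfl) hz).trans ?_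
        rw [Ext.comp_assoc_of_second_deg_zero, ShortComplex.ShortExact.comp_extClass, Ext.comp_zero]
    have e := (colimit.isColimit D).coconePointUniqueUpToIso hc
    have he : ∀ i, colimit.ι D i ≫ ((colimit.isColimit D).coconePointUniqueUpToIso hc).hom = c.ι.app i :=
      fun i => IsColimit.comp_coconePointUniqueUpToIso_hom _ _ _
    refine ⟨fun x => ?_, fun i y hy => main.2 i y ?_⟩
    · obtain ⟨i, y, hy⟩ := main.1 (x.comp (Ext.mk₀ ((colimit.isColimit D).coconePointUniqueUpToIso hc).inv) (add_zero _))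
      refine ⟨i, y, ?_⟩
      have h2 := congrArg (fun w => Ext.comp w (Ext.mk₀ ((colimit.isColimit D).coconePointUniqueUpToIso hc).hom) (add_zero _)) hy
      simp only [Ext.comp_assoc_of_third_deg_zero, Ext.mk₀_comp_mk₀, Iso.inv_hom_id, Ext.comp_mk₀_id] at h2
      rw [← he i]
      exact h2
    · have h2 := congrArg (fun w => Ext.comp w (Ext.mk₀ ((colimit.isColimit D).coconePointUniqueUpToIso hc).inv) (add_zero _)) hy
      simp only [Ext.comp_assoc_of_third_deg_zero, Ext.mk₀_comp_mk₀, Ext.zero_comp, ← he i, Category.assoc,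
        Iso.hom_inv_id, Category.comp_id] at h2
      exact h2

theorem preservesColimit_cohomology (D : J ⥤ QCohLib.AbSh X) (q : ℕ) :
    PreservesColimit D ((Sheaf.cohomologyPresheafFunctor (Opens.grothendieckTopology X) q).flip.obj (op U) :
      CohTop.Ab X ⥤ AddCommGrpCat.{u}) := by
  refine ⟨fun {c} hc => ⟨?_⟩⟩
  obtain ⟨hs, hi⟩ := prop₁ U hU q D c hc
  let H := ((Sheaf.cohomologyPresheafFunctor (Opens.grothendieckTopology X) q).flip.obj (op U) :
      CohTop.Ab X ⥤ AddCommGrpCat.{u})
  haveI : ReflectsColimitsOfShape J (forget AddCommGrpCat.{u}) :=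
    reflectsColimitsOfShape_of_reflectsIsomorphisms
  refine isColimitOfReflects (forget AddCommGrpCat.{u}) ?_
  refine Types.FilteredColimit.isColimitOf _ _ (fun x => ?_) (fun i j x y hxy => ?_)
  · obtain ⟨i, y, hy⟩ := hs x
    exact ⟨i, y, hy.symm⟩
  · let l := IsFiltered.max i j
    let a : i ⟶ l := IsFiltered.leftToMax i j
    let b : j ⟶ l := IsFiltered.rightToMax i j
    obtain ⟨m, d, hd⟩ := hi l (Ext.comp (x : QCohLib.HU (D.obj i) q U) (Ext.mk₀ (D.map a)) (add_zero q) -
        Ext.comp (y : QCohLib.HU (D.obj j) q U) (Ext.mk₀ (D.map b)) (add_zero q)) (by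
      simp only [sub_comp, Ext.comp_assoc_of_third_deg_zero, Ext.mk₀_comp_mk₀, Cocone.w, sub_eq_zero]
      exact hxy)
    refine ⟨m, a ≫ d, b ≫ d, ?_⟩
    simp only [sub_comp, Ext.comp_assoc_of_third_deg_zero, Ext.mk₀_comp_mk₀, ← Functor.map_comp,
      sub_eq_zero] at hd
    exact hd

end Main

end CohTopLib.ColimCoh
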