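import Mathlib.Algebra.Homology.Embedding.HomEquiv
import Mathlib.Algebra.Homology.Embedding.ExtendHomotopy
import Mathlib.Algebra.Homology.Embedding.StupidTrunc

/-!
# Homotopy equivalences between strictly supported complexes
-/

open CategoryTheory CategoryTheory.Limits HomologicalComplex

namespace CohTopLib

variable {ι ι' : Type*} {c : ComplexShape ι} {c' : ComplexShape ι'} (e : c.Embedding c') [e.IsRelIff]
variable {C : Type*} [Category C] [Preadditive C] [HasZeroObject C]

theorem hasLift_of_isStrictlySupported {K : HomologicalComplex C c'} [K.IsStrictlySupported e]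
    {L : HomologicalComplex C c} (φ : K.restriction e ⟶ L) : e.HasLift φ := fun j hj i' hi' =>
  (K.isZero_X_of_isStrictlySupported e i' (fun i => hj.notMem hi' i)).eq_of_src _ _

/-- A strictly supported complex is the extension of its restriction. -/
noncomputable def toStupid (K : HomologicalComplex C c') [K.IsStrictlySupported e] :
    K ⟶ (K.restriction e).extend e :=
  e.liftExtend (𝟙 (K.restriction e)) (hasLift_of_isStrictlySupported e _)

theorem isIso_toStupid (K : HomologicalComplex C c') [K.IsStrictlySupported e] :
    IsIso (toStupid e K) := by
  have : ∀ i', IsIso ((toStupid e K).f i') := fun i' => by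
    by_cases h : ∃ i, e.f i = i'
    · obtain ⟨i, hi⟩ := h
      rw [toStupid, ComplexShape.Embedding.isIso_liftExtend_f_iff _ _ _ hi]
      infer_instance
    · exact isIso_of_source_target_iso_zero _
        (K.isZero_X_of_isStrictlySupported e i' (fun i hi => h ⟨i, hi⟩)).isoZero
        ((K.restriction e).isZero_extend_X e i' (fun i hi => h ⟨i, hi⟩)).isoZero
  exact HomologicalComplex.Hom.isIso_of_components _

theorem toStupid_natural {K L : HomologicalComplex C c'} [K.IsStrictlySupported e]
    [L.IsStrictlySupported e] (f : K ⟶ L) :
    f ≫ toStupid e L = toStupid e K ≫ extendMap (restrictionMap f e) e := by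
  refine HomologicalComplex.hom_ext _ _ fun i' => ?_
  by_cases h : ∃ i, e.f i = i'
  · obtain ⟨i, rfl⟩ := h
    rw [HomologicalComplex.comp_f, HomologicalComplex.comp_f, toStupid, toStupid,
      ComplexShape.Embedding.liftExtend_f _ _ _ rfl, ComplexShape.Embedding.liftExtend_f _ _ _ rfl,
      extendMap_f _ e rfl, restrictionMap_f' f e rfl]
    simp
  · exact (K.isZero_X_of_isStrictlySupported e i' (fun i hi => h ⟨i, hi⟩)).eq_of_src _ _

/-- A map of strictly supported complexes is a homotopy equivalence if its restriction is one. -/
theorem homotopyEquivalences_of_restriction {K L : HomologicalComplex C c'} [K.IsStrictlySupported e]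
    [L.IsStrictlySupported e] (f : K ⟶ L)
    (h : homotopyEquivalences C c (restrictionMap f e)) : homotopyEquivalences C c' f := by
  have := isIso_toStupid e K
  have := isIso_toStupid e L
  rw [← HomotopyCategory.inverseImage_quotient_isomorphisms, MorphismProperty.inverseImage_iff,
    MorphismProperty.isomorphisms.iff] at h ⊢
  have : IsIso ((HomotopyCategory.quotient C c').map (extendMap (restrictionMap f e) e)) := by
    change IsIso ((e.extendFunctor C ⋙ HomotopyCategory.quotient C c').map (restrictionMap f e))
    rw [← NatIso.isIso_map_iff (e.extendHomotopyFunctorFactors C)]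
    change IsIso ((e.extendHomotopyFunctor C).map ((HomotopyCategory.quotient C c).map (restrictionMap f e)))
    infer_instance
  have hf : f = toStupid e K ≫ extendMap (restrictionMap f e) e ≫ inv (toStupid e L) := by
    rw [← Category.assoc, ← toStupid_natural, Category.assoc, IsIso.hom_inv_id, Category.comp_id]
  rw [hf, Functor.map_comp, Functor.map_comp]
  infer_instance

end CohTopLib
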