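import Groth.Agent.CohTopLib.ConeRes
import Groth.Agent.CohTopLib.ExtendHtpy
import Groth.Agent.CechLib.Godement
import Groth.Prelude.Def_CohCx
import Mathlib.Topology.Sheaves.Skyscraper
import Mathlib.Algebra.Homology.Embedding.CochainComplex
import Mathlib.Algebra.Category.Grp.FilteredColimits
import Groth.Agent.CohTopLib.Basic

/-!
# Flasque resolutions of bounded below complexes of abelian sheaves
-/

universe u
open CategoryTheory CategoryTheory.Limits TopologicalSpace Opposite HomologicalComplex

namespace CohTopLib.FlasqueRes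

variable {X : TopCat.{u}}

/-- The stalk functor on abelian sheaves. -/
noncomputable abbrev stk (x : X) : CohTop.Ab X ⥤ AddCommGrpCat.{u} :=
  sheafToPresheaf (Opens.grothendieckTopology X) AddCommGrpCat.{u} ⋙
    TopCat.Presheaf.stalkFunctor AddCommGrpCat.{u} x

instance isLeftAdjoint_stk (x : X) : (stk x).IsLeftAdjoint := by
  classical
  exact (stalkSkyscraperSheafAdjunction (C := AddCommGrpCat.{u}) x).isLeftAdjoint

instance additive_stk (x : X) : (stk x).Additive := by
  have := preservesBinaryBiproducts_of_preservesBinaryCoproducts (stk x)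
  exact Functor.additive_of_preservesBinaryBiproducts _

instance preservesFiniteLimits_stk (x : X) : PreservesFiniteLimits (stk x) := by
  have : PreservesFiniteLimits (TopCat.Presheaf.stalkFunctor AddCommGrpCat.{u} x) :=
    comp_preservesFiniteLimits ((Functor.whiskeringLeft _ _ AddCommGrpCat.{u}).obj (OpenNhds.inclusion x).op)
      colim
  exact comp_preservesFiniteLimits (sheafToPresheaf _ _) _

/-- Evaluation at the point, on the stalk of discontinuous sections. -/
noncomputable def evalPt (D : CohTop.Ab X) (x : X) : (stk x).obj (CechLib.gd D) ⟶ (stk x).obj D :=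
  colimit.desc _
    { pt := TopCat.Presheaf.stalk (CechLib.pre D) x
      ι :=
        { app := fun U => AddCommGrpCat.ofHom
            (Pi.evalAddMonoidHom (fun y : U.unop.1 => (CechLib.pre D).stalk y.1) ⟨x, U.unop.2⟩)
          naturality := fun U V i => rfl } }

theorem gdι_evalPt (D : CohTop.Ab X) (x : X) :
    (stk x).map (CechLib.gdι D) ≫ evalPt D x = 𝟙 _ := by
  refine TopCat.Presheaf.stalk_hom_ext (CechLib.pre D) fun U hx => ?_
  change _ ≫ (TopCat.Presheaf.stalkFunctor AddCommGrpCat.{u} x).map (CechLib.gdι D).hom ≫ _ = _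
  erw [TopCat.Presheaf.stalkFunctor_map_germ_assoc, colimit.ι_desc, Category.comp_id]
  rfl

theorem isFlasque_of_isZero (G : CohTop.Ab X) (h : IsZero G) :
    TopCat.Sheaf.IsFlasque (G : TopCat.Sheaf AddCommGrpCat X) :=
  ⟨fun {_ V} _ => ⟨fun _ _ _ =>
    ((sheafToPresheaf _ AddCommGrpCat.{u}).map_isZero h |>.obj V).eq_of_src _ _⟩⟩

variable (F : CochainComplex (CohTop.Ab X) ℤ) (a : ℤ)

/-- The restriction to degrees `≥ a`. -/
noncomputable abbrev F₀ : CochainComplex (CohTop.Ab X) ℕ :=
  F.restriction (ComplexShape.embeddingUpIntGE a)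

/-- The resolution in degrees `≥ a`. -/
noncomputable abbrev res₀ : CochainComplex (CohTop.Ab X) ℕ :=
  ConeRes.res CechLib.gd.{u} CechLib.gdι.{u} (F₀ F a)

/-- The resolution. -/
noncomputable abbrev res : CochainComplex (CohTop.Ab X) ℤ :=
  (res₀ F a).extend (ComplexShape.embeddingUpIntGE a)

theorem isFlasque_res (n : ℤ) : TopCat.Sheaf.IsFlasque ((res F a).X n : TopCat.Sheaf AddCommGrpCat X) := by
  by_cases h : ∃ k, (ComplexShape.embeddingUpIntGE a).f k = n
  · obtain ⟨k, hk⟩ := h
    have e := (res₀ F a).extendXIso (ComplexShape.embeddingUpIntGE a) hk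
    refine ⟨fun {U V} i => ?_⟩
    have hfl := (CechLib.isFlasque_gd.{u} (ConeRes.st CechLib.gd.{u} CechLib.gdι.{u} (F₀ F a) k).D).epi i
    have h2 : ((sheafToPresheaf _ _).obj ((res F a).X n)).map i = ((sheafToPresheaf _ _).map e.hom).app U ≫
        ((sheafToPresheaf _ _).obj ((res₀ F a).X k)).map i ≫ ((sheafToPresheaf _ _).map e.inv).app V := by
      rw [NatTrans.naturality, ← Category.assoc, ← NatTrans.comp_app, ← Functor.map_comp,
        e.hom_inv_id, CategoryTheory.Functor.map_id]
      exact (Category.id_comp _).symm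
    change Epi (((sheafToPresheaf _ _).obj ((res F a).X n)).map i)
    rw [h2]
    have : Epi (((sheafToPresheaf _ _).obj ((res₀ F a).X k)).map i) := hfl
    infer_instance
  · exact isFlasque_of_isZero _ ((res₀ F a).isZero_extend_X _ n (fun k hk => h ⟨k, hk⟩))

variable [F.IsStrictlyGE a]

/-- The map to the resolution. -/
noncomputable def toRes : F ⟶ res F a :=
  (ComplexShape.embeddingUpIntGE a).liftExtend (ConeRes.toRes CechLib.gd.{u} CechLib.gdι.{u} (F₀ F a))
    (hasLift_of_isStrictlySupported _ _)

theorem homotopyEquivalences_toRes (x : X) :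
    homotopyEquivalences AddCommGrpCat.{u} (ComplexShape.up ℤ)
      (((stk x).mapHomologicalComplex (ComplexShape.up ℤ)).map (toRes F a)) := by
  let e := ComplexShape.embeddingUpIntGE a
  let Φ := (stk x).mapHomologicalComplex (ComplexShape.up ℕ)
  refine homotopyEquivalences_of_restriction e _ ?_
  let j : (res F a).restriction e ≅ res₀ F a :=
    Hom.isoOfComponents (fun k => (res₀ F a).extendXIso e rfl) (fun k l _ => by
      change _ ≫ (res₀ F a).d k l = (res F a).d _ _ ≫ _
      rw [(res₀ F a).extend_d_eq e rfl rfl]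
      simp)
  have hj : restrictionMap (toRes F a) e ≫ j.hom = ConeRes.toRes CechLib.gd.{u} CechLib.gdι.{u} (F₀ F a) := by
    refine HomologicalComplex.hom_ext _ _ fun k => ?_
    change (toRes F a).f (e.f k) ≫ ((res₀ F a).extendXIso e rfl).hom = _
    rw [toRes, ComplexShape.Embedding.liftExtend_f _ _ _ rfl]
    simp
    rfl
  have h0 : homotopyEquivalences AddCommGrpCat.{u} (ComplexShape.up ℕ)
      (Φ.map (restrictionMap (toRes F a) e) ≫ Φ.map j.hom) := by
    rw [← Functor.map_comp, hj]
    exact ⟨ConeRes.homotopyEquiv CechLib.gd.{u} CechLib.gdι.{u} (F₀ F a) (stk x) (fun D => evalPt D x)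
      (fun D => gdι_evalPt D x), rfl⟩
  rw [← HomotopyCategory.inverseImage_quotient_isomorphisms, MorphismProperty.inverseImage_iff,
    MorphismProperty.isomorphisms.iff] at h0 ⊢
  rw [Functor.map_comp] at h0
  exact IsIso.of_isIso_comp_right ((HomotopyCategory.quotient _ _).map (Φ.map (restrictionMap (toRes F a) e)))
    ((HomotopyCategory.quotient _ _).map (Φ.map j.hom))

theorem quasiIso_toRes : QuasiIso (toRes F a) where
  quasiIsoAt i := by
    rw [quasiIsoAt_iff_isIso_homologyMap]
    have : ∀ x : X, IsIso ((TopCat.Presheaf.stalkFunctor AddCommGrpCat.{u} x).map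
        (homologyMap (toRes F a) i).hom) := by
      intro x
      obtain ⟨h, hh⟩ := homotopyEquivalences_toRes F a x
      have : IsIso (homologyMap (((stk x).mapHomologicalComplex (ComplexShape.up ℤ)).map (toRes F a)) i) := by
        rw [← hh]
        exact inferInstanceAs (IsIso (h.toHomologyIso i).hom)
      change IsIso ((stk x).map (ShortComplex.homologyMap ((shortComplexFunctor _ _ i).map (toRes F a))))
      have hn := ShortComplex.mapHomologyIso_hom_naturality
        ((shortComplexFunctor _ _ i).map (toRes F a)) (stk x)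
      have h' : IsIso (ShortComplex.homologyMap ((stk x).mapShortComplex.map
          ((shortComplexFunctor _ _ i).map (toRes F a)))) := this
      rw [← IsIso.inv_comp_eq] at hn
      rw [← hn]
      exact IsIso.comp_isIso' inferInstance (IsIso.comp_isIso' h' inferInstance)
    exact (TopCat.Presheaf.isIso_iff_stalkFunctor_map_iso (F := (F.homology i : TopCat.Sheaf AddCommGrpCat X))
      (G := ((res F a).homology i : TopCat.Sheaf AddCommGrpCat X)) (homologyMap (toRes F a) i)).mpr this

/-- A bounded below complex has a flasque resolution which is a homotopy equivalence at stalks. -/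
theorem exists_flasque_resolution :
    ∃ (G : CochainComplex (CohTop.Ab X) ℤ) (φ : F ⟶ G), G.IsStrictlyGE a ∧ QuasiIso φ ∧
      (∀ n : ℤ, TopCat.Sheaf.IsFlasque (G.X n : TopCat.Sheaf AddCommGrpCat X)) ∧
      ∀ x : X, ∃ e : HomotopyEquiv ((CohCx.stalkCx x).obj F) ((CohCx.stalkCx x).obj G),
        e.hom = (CohCx.stalkCx x).map φ :=
  ⟨res F a, toRes F a, inferInstance, quasiIso_toRes F a, isFlasque_res F a,
    homotopyEquivalences_toRes F a⟩

end CohTopLib.FlasqueRes
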