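import Groth.Agent.CohTopLib.Basic
import Groth.Agent.CohTopLib.FlasqueRes
import Mathlib.CategoryTheory.Adjunction.FullyFaithful

/-!
# Direct image along a closed embedding
-/

universe u
open CategoryTheory CategoryTheory.Limits TopologicalSpace Opposite

namespace CohTopLib

open QCohLib FlasqueRes

variable {Z X : TopCat.{u}} (i : Z ⟶ X) (hi : Topology.IsClosedEmbedding i)

include hi in
/-- Every open of the subspace is a preimage. -/
theorem exists_pre_eq (W : Opens Z) : ∃ V : Opens X, pre i V = W := by
  obtain ⟨V, hVo, hV⟩ := hi.isInducing.isOpen_iff.mp W.isOpen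
  exact ⟨⟨V, hVo⟩, Opens.ext hV⟩

include hi in
theorem push_faithful : (CohTop.push i).Faithful where
  map_injective {F G} f g h := by
    refine CategoryTheory.Sheaf.hom_ext (NatTrans.ext (funext fun W => ?_))
    obtain ⟨V, hV⟩ := exists_pre_eq i hi W.unop
    have e : ((CohTop.push i).map f).hom.app (op V) = ((CohTop.push i).map g).hom.app (op V) := by rw [h]
    obtain rfl : op (pre i V) = W := congrArg op hV
    exact e

include hi in
theorem push_full : (CohTop.push i).Full where
  map_surjective {F G} φ := by
    choose E hE using fun W : (Opens Z)ᵒᵖ => exists_pre_eq i hi W.unop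
    have nat : ∀ (V : Opens X) (W : (Opens Z)ᵒᵖ) (h : W.unop ≤ pre i V) (s : F.obj.obj (op (pre i V))),
        φ.hom.app (op (E W)) (F.obj.map (homOfLE ((hE W).le.trans h)).op s) =
          G.obj.map (homOfLE ((hE W).le.trans h)).op (φ.hom.app (op V) s) := by
      intro V W h s
      let V' : Opens X := E W ⊓ V
      have e' : pre i V' = pre i (E W) := le_antisymm (fun x hx => hx.1)
        fun x hx => ⟨hx, ((hE W).le.trans h) hx⟩
      have n1 := ConcreteCategory.congr_hom (φ.hom.naturality (homOfLE (inf_le_right : V' ≤ V)).op) s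
      have n2 := ConcreteCategory.congr_hom (φ.hom.naturality (homOfLE (inf_le_left : V' ≤ E W)).op)
        (F.obj.map (homOfLE ((hE W).le.trans h)).op s)
      have eF : F.obj.map ((Opens.map i).map (homOfLE (inf_le_left : V' ≤ E W))).op
          (F.obj.map (homOfLE ((hE W).le.trans h)).op s) =
          F.obj.map ((Opens.map i).map (homOfLE (inf_le_right : V' ≤ V))).op s := by
        rw [← ConcreteCategory.comp_apply, ← Functor.map_comp]
        rfl
      have inj : Function.Injective (G.obj.map ((Opens.map i).map (homOfLE (inf_le_left : V' ≤ E W))).op) := by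
        have : IsIso ((Opens.map i).map (homOfLE (inf_le_left : V' ≤ E W))) :=
          ⟨⟨homOfLE e'.ge, Subsingleton.elim _ _, Subsingleton.elim _ _⟩⟩
        exact (ConcreteCategory.bijective_of_isIso _).1
      refine inj (n2.symm.trans (((congrArg (φ.hom.app (op V')) eF).trans n1).trans ?_))
      exact ConcreteCategory.congr_hom (G.obj.map_comp (homOfLE ((hE W).le.trans h)).op
        ((Opens.map i).map (homOfLE (inf_le_left : V' ≤ E W))).op) _
    have mmG : ∀ {A B C : Opens Z} (a : B ⟶ A) (b : C ⟶ B) (c : C ⟶ A) (z : G.obj.obj (op A)),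
        G.obj.map b.op (G.obj.map a.op z) = G.obj.map c.op z := fun a b c z => by
      rw [← ConcreteCategory.comp_apply, ← Functor.map_comp, ← op_comp, Subsingleton.elim (b ≫ a) c]
    let ψ : F ⟶ G := ⟨
      { app := fun W => AddCommGrpCat.ofHom
          ((G.obj.map (homOfLE (hE W).ge).op).hom.comp ((φ.hom.app (op (E W))).hom.comp
            (F.obj.map (homOfLE (hE W).le).op).hom))
        naturality := fun W W' j => by
          ext s
          change G.obj.map _ (φ.hom.app (op (E W')) (F.obj.map _ (F.obj.map j s))) =
            G.obj.map j (G.obj.map _ (φ.hom.app (op (E W)) (F.obj.map _ s)))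
          have hle : W'.unop ≤ pre i (E W) := (leOfHom j.unop).trans (hE W).ge
          have h1 : F.obj.map (homOfLE (hE W').le).op (F.obj.map j s) =
              F.obj.map (homOfLE ((hE W').le.trans hle)).op (F.obj.map (homOfLE (hE W).le).op s) := by
            rw [← ConcreteCategory.comp_apply, ← ConcreteCategory.comp_apply, ← Functor.map_comp,
              ← Functor.map_comp]
            rfl
          refine ((congrArg (fun t => G.obj.map _ (φ.hom.app (op (E W')) t)) h1).trans
            (congrArg (G.obj.map _) (nat (E W) W' hle _))).trans ?_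
          refine (mmG _ _ (homOfLE hle) _).trans ?_
          exact (mmG (homOfLE (hE W).ge) j.unop _ _).symm }⟩
    refine ⟨ψ, CategoryTheory.Sheaf.hom_ext (NatTrans.ext (funext fun V => ?_))⟩
    ext s
    change G.obj.map _ (φ.hom.app (op (E (op (pre i V.unop)))) (F.obj.map _ s)) = φ.hom.app V s
    refine (congrArg (G.obj.map _) (nat V.unop (op (pre i V.unop)) le_rfl s)).trans ?_
    refine (mmG _ _ (𝟙 _) _).trans ?_
    exact ConcreteCategory.congr_hom (G.obj.map_id (op (pre i V.unop))) _

include hi in
theorem push_preservesFiniteColimits : PreservesFiniteColimits (CohTop.push i) :=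
  ((Functor.preservesFiniteColimits_tfae (CohTop.push i)).out 0 3 rfl rfl).mp fun S hS =>
    let h := pf_shortExact_of_isClosedEmbedding i hi hS
    ⟨h.exact, h.epi_g⟩

include hi in
/-- Outside the range the direct image has no stalk. -/
theorem isZero_stk_push (G : CohTop.Ab Z) (x : X) (hx : x ∉ Set.range i) :
    IsZero ((stk x).obj ((CohTop.push i).obj G)) := by
  refine @AddCommGrpCat.isZero_of_subsingleton _ (subsingleton_of_forall_eq 0 fun t => ?_)
  obtain ⟨V, hxV, s, rfl⟩ := TopCat.Presheaf.germ_exist (x := x) ((CohTop.push i).obj G).obj t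
  let W : Opens X := ⟨(Set.range i)ᶜ, hi.isClosed_range.isOpen_compl⟩ ⊓ V
  have hz : Subsingleton (G.obj.obj (op (pre i W))) := by
    rw [show pre i W = ⊥ from eq_bot_iff.mpr fun z hz => hz.1 ⟨z, rfl⟩]
    exact AddCommGrpCat.subsingleton_of_isZero
      (IsTerminal.isZero (TopCat.Sheaf.isTerminalOfEmpty G))
  rw [← TopCat.Presheaf.germ_res_apply ((CohTop.push i).obj G).obj (homOfLE (inf_le_right : W ≤ V)) x
    ⟨hx, hxV⟩ s]
  exact (congrArg _ (hz.elim _ 0)).trans (map_zero _)

/-- A sheaf whose pullback and outside stalks vanish is zero. -/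
theorem isZero_of_pull (K : CohTop.Ab X) (hp : IsZero ((CohTop.pull i).obj K))
    (ho : ∀ x, x ∉ Set.range i → IsZero ((stk x).obj K)) : IsZero K := by
  classical
  have h : ∀ x, IsZero ((stk x).obj K) := fun x => by
    by_cases hx : x ∈ Set.range i
    · obtain ⟨z, rfl⟩ := hx
      rw [IsZero.iff_id_eq_zero]
      let A := (stk (i z)).obj K
      let S : CohTop.Ab X := skyscraperSheaf (i z) A
      let S' : CohTop.Ab Z := skyscraperSheaf z A
      let q : K ⟶ S :=
        (stalkSkyscraperSheafAdjunction (C := AddCommGrpCat.{u}) (i z)).homEquiv _ _ (𝟙 A)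
      let q' : (CohTop.pull i).obj K ⟶ S' :=
        ((TopCat.Sheaf.pullbackPushforwardAdjunction AddCommGrpCat.{u} i).homEquiv _ _).symm q
      have : (TopCat.Sheaf.pushforward AddCommGrpCat.{u} i).Additive := pf_additive
      have : (TopCat.Sheaf.pullback AddCommGrpCat.{u} i).Additive :=
        (TopCat.Sheaf.pullbackPushforwardAdjunction AddCommGrpCat.{u} i).left_adjoint_additive
      have : q = 0 := by
        have e : q = (TopCat.Sheaf.pullbackPushforwardAdjunction AddCommGrpCat.{u} i).homEquiv _ _ q' :=
          (Equiv.apply_symm_apply _ q).symm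
        rw [e, hp.eq_of_src q' 0]
        exact ((TopCat.Sheaf.pullbackPushforwardAdjunction AddCommGrpCat.{u} i).homAddEquiv _ _).map_zero
      exact ((stalkSkyscraperSheafAdjunction (C := AddCommGrpCat.{u}) (i z)).homEquiv _ _).injective
        (this.trans (((stalkSkyscraperSheafAdjunction (C := AddCommGrpCat.{u}) (i z)).homAddEquiv _ _).map_zero).symm)
    · exact ho x hx
  rw [IsZero.iff_id_eq_zero]
  refine CategoryTheory.Sheaf.hom_ext (NatTrans.ext (funext fun U => ?_))
  ext s
  exact TopCat.Presheaf.section_ext (K : TopCat.Sheaf AddCommGrpCat X) U.unop _ _ fun x _ =>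
    (AddCommGrpCat.subsingleton_of_isZero (h x)).elim _ _

include hi in
/-- The essential image of the direct image. -/
theorem push_essImage (F : CohTop.Ab X) :
    (CohTop.push i).essImage F ↔ ∀ x : X, x ∉ Set.range i → IsZero (CohTop.stalk F x) := by
  constructor
  · rintro ⟨G, ⟨e⟩⟩ x hx
    exact (isZero_stk_push i hi G x hx).of_iso ((stk x).mapIso e).symm
  · intro h
    have : (TopCat.Sheaf.pushforward AddCommGrpCat.{u} i).Full := push_full i hi
    have : (TopCat.Sheaf.pushforward AddCommGrpCat.{u} i).Faithful := push_faithful i hi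
    have : (CohTop.pull i).IsLeftAdjoint :=
      (TopCat.Sheaf.pullbackPushforwardAdjunction AddCommGrpCat.{u} i).isLeftAdjoint
    have : (TopCat.Sheaf.pushforward AddCommGrpCat.{u} i).Additive := pf_additive
    have : (CohTop.pull i).Additive :=
      (TopCat.Sheaf.pullbackPushforwardAdjunction AddCommGrpCat.{u} i).left_adjoint_additive
    have : PreservesFiniteLimits (CohTop.pull i) := preservesFiniteLimits_pull i
    let adj := TopCat.Sheaf.pullbackPushforwardAdjunction AddCommGrpCat.{u} i
    let η := adj.unit.app F
    have hη : IsIso ((CohTop.pull i).map η) := by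
      have := adj.left_triangle_components F
      have hci : IsIso adj.counit := @Adjunction.counit_isIso_of_R_fully_faithful _ _ _ _ _ _ adj (push_full i hi) (push_faithful i hi)
      have : IsIso (adj.counit.app ((TopCat.Sheaf.pullback AddCommGrpCat.{u} i).obj F)) :=
        @NatIso.isIso_app_of_isIso _ _ _ _ _ _ adj.counit hci _
      exact @IsIso.of_isIso_fac_right _ _ _ _ _ _ _ _ this (Iso.refl _).isIso_hom (adj.left_triangle_components F)
    have hstk : ∀ x, x ∉ Set.range i → IsIso ((stk x).map η) := fun x hx =>
      isIso_of_source_target_iso_zero _ (h x hx).isoZero (isZero_stk_push i hi _ x hx).isoZero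
    have hk : IsZero (kernel η) := isZero_of_pull i _
      ((isZero_kernel_of_mono ((CohTop.pull i).map η)).of_iso (PreservesKernel.iso (CohTop.pull i) η))
      fun x hx => by
        have := hstk x hx
        exact (isZero_kernel_of_mono ((stk x).map η)).of_iso (PreservesKernel.iso (stk x) η)
    have hc : IsZero (cokernel η) := isZero_of_pull i _
      ((isZero_cokernel_of_epi ((CohTop.pull i).map η)).of_iso (PreservesCokernel.iso (CohTop.pull i) η))
      fun x hx => by
        have := hstk x hx
        exact (isZero_cokernel_of_epi ((stk x).map η)).of_iso (PreservesCokernel.iso (stk x) η)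
    have : Mono η := Preadditive.mono_of_isZero_kernel η hk
    have : Epi η := Preadditive.epi_of_isZero_cokernel η hc
    have : IsIso η := isIso_of_mono_of_epi η
    exact ⟨(CohTop.pull i).obj F, ⟨(asIso η).symm⟩⟩

include hi in
theorem push_pull_iso : Nonempty (CohTop.push i ⋙ CohTop.pull i ≅ 𝟭 (CohTop.Ab Z)) := by
  have : (TopCat.Sheaf.pushforward AddCommGrpCat.{u} i).Full := push_full i hi
  have : (TopCat.Sheaf.pushforward AddCommGrpCat.{u} i).Faithful := push_faithful i hi
  let adj := TopCat.Sheaf.pullbackPushforwardAdjunction AddCommGrpCat.{u} i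
  have hci : IsIso adj.counit :=
    @Adjunction.counit_isIso_of_R_fully_faithful _ _ _ _ _ _ adj (push_full i hi) (push_faithful i hi)
  exact ⟨@asIso _ _ _ _ adj.counit hci⟩

end CohTopLib
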