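import Groth.Agent.CohTopLib.LocConstSub
import Groth.Agent.CohTopLib.ColimCoh
import Mathlib.CategoryTheory.Subobject.Lattice
import Mathlib.CategoryTheory.Limits.Connected
import Mathlib.CategoryTheory.Filtered.Connected
import Mathlib.CategoryTheory.Limits.Types.Filtered

/-!
# Vanishing is tested on extensions by zero of the constant sheaf (coherent spaces)
-/

set_option linter.unusedSectionVars false
set_option linter.style.haveILetI false
set_option backward.isDefEq.respectTransparency false

universe u
open CategoryTheory CategoryTheory.Limits TopologicalSpace Opposite CategoryTheory.Abelian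

namespace CohTopLib.GenTest

open LocConstSub

variable {X : TopCat.{u}}

/-- No cohomology above `d` on the whole space. -/
def Good (d : ℕ) (F : QCohLib.AbSh X) : Prop := ∀ p, d < p → Subsingleton (QCohLib.HU F p ⊤)

variable {d : ℕ}

theorem Good.of_isZero {F : QCohLib.AbSh X} (h : IsZero F) : Good d F := fun p _ =>
  subsingleton_of_forall_eq 0 fun x => by
    rw [← Ext.comp_mk₀_id x, h.eq_of_src (𝟙 F) 0, Ext.mk₀_zero, Ext.comp_zero]

theorem Good.of_iso {F G : QCohLib.AbSh X} (e : F ≅ G) (h : Good d G) : Good d F := fun p hp =>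
  subsingleton_of_forall_eq 0 fun x => by
    haveI := h p hp
    rw [← Ext.comp_mk₀_id x, ← e.hom_inv_id, ← Ext.mk₀_comp_mk₀, ← Ext.comp_assoc_of_second_deg_zero,
      Subsingleton.elim (x.comp (Ext.mk₀ e.hom) (add_zero p)) 0, Ext.zero_comp]

theorem Good.middle {S : ShortComplex (QCohLib.AbSh X)} (hS : S.ShortExact) (h1 : Good d S.X₁)
    (h3 : Good d S.X₃) : Good d S.X₂ := fun p hp =>
  subsingleton_of_forall_eq 0 fun x => by
    haveI := h1 p hp
    haveI := h3 p hp
    obtain ⟨y, rfl⟩ := Ext.covariant_sequence_exact₂ _ hS x (Subsingleton.elim _ _)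
    rw [Subsingleton.elim y 0, Ext.zero_comp]

theorem Good.right {S : ShortComplex (QCohLib.AbSh X)} (hS : S.ShortExact) (h1 : Good d S.X₁)
    (h2 : Good d S.X₂) : Good d S.X₃ := fun p hp =>
  subsingleton_of_forall_eq 0 fun x => by
    haveI := h1 (p + 1) (by omega)
    haveI := h2 p hp
    obtain ⟨y, rfl⟩ := Ext.covariant_sequence_exact₃ _ hS x rfl (Subsingleton.elim _ _)
    rw [Subsingleton.elim y 0, Ext.zero_comp]

theorem mono_colimit_desc {J : Type u} [SmallCategory J] [IsFiltered J] {D : J ⥤ QCohLib.AbSh X}
    (c : Cocone D) (hc : ∀ j, Mono (c.ι.app j)) : Mono (colimit.desc D c) := by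
  haveI : IsGrothendieckAbelian.{u} (QCohLib.AbSh X) := QCohLib.isGrothendieckAbelian_abSh
  haveI : PreservesFiniteLimits (colim : (J ⥤ QCohLib.AbSh X) ⥤ QCohLib.AbSh X) :=
    HasExactColimitsOfShape.preservesFiniteLimits
  haveI : IsConnected J := IsFiltered.isConnected J
  haveI : Mono c.ι := NatTrans.mono_of_mono_app _
  haveI : Mono (colim.map c.ι) := inferInstance
  let e := IsColimit.coconePointUniqueUpToIso (colimit.isColimit ((Functor.const J).obj c.pt))
    (isColimitConstCocone J c.pt)
  have : colimit.desc D c = colim.map c.ι ≫ e.hom := by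
    refine colimit.hom_ext fun j => ?_
    rw [colimit.ι_desc]
    refine Eq.trans ?_ (colimit.ι_map_assoc c.ι j e.hom).symm
    have h : colimit.ι ((Functor.const J).obj c.pt) j ≫ e.hom = 𝟙 c.pt :=
      IsColimit.comp_coconePointUniqueUpToIso_hom _ _ j
    exact ((congrArg (c.ι.app j ≫ ·) h).trans (Category.comp_id _)).symm
  rw [this]
  infer_instance

variable [PrespectralSpace X] [QuasiSeparatedSpace X] [CompactSpace X]

theorem Good.colimit {J : Type u} [SmallCategory J] [IsFiltered J] {D : J ⥤ QCohLib.AbSh X}
    {c : Cocone D} (hc : IsColimit c) (h : ∀ j, Good d (D.obj j)) : Good d c.pt := fun p hp =>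
  subsingleton_of_forall_eq 0 fun x => by
    obtain ⟨i, y, rfl⟩ := (ColimCoh.prop₁ (⊤ : Opens X) isCompact_univ p D c hc).1 x
    haveI := h i p hp
    rw [Subsingleton.elim y 0, Ext.zero_comp]

theorem Good.of_cocone {J : Type u} [SmallCategory J] [IsFiltered J] {D : J ⥤ QCohLib.AbSh X}
    (c : Cocone D) (hm : ∀ j, Mono (c.ι.app j)) [Epi (colimit.desc D c)] (h : ∀ j, Good d (D.obj j)) :
    Good d c.pt := by
  haveI := mono_colimit_desc c hm
  haveI : IsIso (colimit.desc D c) := isIso_of_mono_of_epi _
  exact Good.of_iso (asIso (colimit.desc D c)).symm (Good.colimit (colimit.isColimit D) h)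

section Families

variable (d) (hgen : ∀ V : Opens X, IsCompact (V : Set X) → Good d (QCohLib.zsh V))

/-- Index of the elementary families. -/
abbrev Idx (X : TopCat.{u}) : Type u := ℤ × {V : Opens X // IsCompact (V : Set X)}

/-- Joins of finitely many elementary families. -/
noncomputable def fam : List (Idx X) → X → AddSubgroup ℤ
  | [] => ⊥
  | a :: t => single a.1 a.2.1 ⊔ fam t

theorem isOpenFam_fam : ∀ t : List (Idx X), IsOpenFam (fam t)
  | [] => isOpenFam_bot
  | a :: t => (isOpenFam_single a.1 a.2.1).sup (isOpenFam_fam t)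

theorem single_inf_fam (a : Idx X) : ∀ t : List (Idx X), ∃ t' : List (Idx X),
    t'.length = t.length ∧ single a.1 a.2.1 ⊓ fam t = fam t'
  | [] => ⟨[], rfl, inf_bot_eq _⟩
  | b :: t => by
    obtain ⟨t', hl, ht'⟩ := single_inf_fam a t
    refine ⟨(((Nat.lcm a.1.natAbs b.1.natAbs : ℕ) : ℤ),
      ⟨a.2.1 ⊓ b.2.1, ColimCoh.qs_inf _ _ a.2.2 b.2.2⟩) :: t', by simp [hl], ?_⟩
    funext x
    simp only [fam, Pi.inf_apply, Pi.sup_apply]
    rw [inf_sup_subgroup, ← congrFun ht' x, ← congrFun (single_inf a.1 b.1 a.2.1 b.2.1) x]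
    rfl

/-- The second isomorphism theorem for these subsheaves. -/
theorem good_sup {S T : X → AddSubgroup ℤ} (hS : IsOpenFam S) (hT : IsOpenFam T)
    (h1 : Good d (L (S ⊓ T))) (h2 : Good d (L S)) (h3 : Good d (L T)) : Good d (L (S ⊔ T)) := by
  let i := incl (le_sup_left : S ≤ S ⊔ T)
  let i' := incl (le_sup_right : T ≤ S ⊔ T)
  haveI : Mono i := mono_incl _
  let S₁ : ShortComplex (QCohLib.AbSh X) := ShortComplex.mk i (cokernel.π i) (cokernel.condition i)
  have hS₁ : S₁.ShortExact :=
    { exact := ShortComplex.exact_of_g_is_cokernel _ (cokernelIsCokernel _)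
      mono_f := inferInstanceAs (Mono i)
      epi_g := inferInstanceAs (Epi (cokernel.π i)) }
  let j := incl (inf_le_right : S ⊓ T ≤ T)
  let q := i' ≫ cokernel.π i
  have hjq : j ≫ q = 0 := by
    have e : j ≫ i' = incl (inf_le_left : S ⊓ T ≤ S) ≫ i := rfl
    rw [← Category.assoc, e, Category.assoc, cokernel.condition, comp_zero]
  haveI : Mono j := mono_incl _
  have hq : Epi q := by
    refine ⟨fun {Z} u v huv => ?_⟩
    rw [← cancel_epi (cokernel.π i)]
    refine Sheaf.hom_ext (NatTrans.ext (funext fun U => ?_))
    ext f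
    refine TopCat.Sheaf.eq_of_locally_eq' (Z : TopCat.Sheaf AddCommGrpCat X)
      (fun W : {W : Opens X // ∃ hW : W ≤ U.unop, ∃ (a : sec S W) (b : sec T W), ∀ y : W,
        a.1 y + b.1 y = (show sec (S ⊔ T) U.unop from f).1 ⟨y.1, hW y.2⟩} => W.1) U.unop
      (fun W => homOfLE W.2.fst) (fun x hx => ?_) _ _ fun W => ?_
    · have hv := (show sec (S ⊔ T) U.unop from f).2.2 ⟨x, hx⟩
      rw [Pi.sup_apply, AddSubgroup.mem_sup] at hv
      obtain ⟨a, ha, b, hb, hab⟩ := hv
      obtain ⟨W, hxW, hW⟩ := exists_opens
        ((exists_const (show sec (S ⊔ T) U.unop from f) hx).and ((hS a x ha).and (hT b x hb)))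
      exact Opens.mem_iSup.mpr ⟨⟨W, fun y hy => (hW y hy).1.1, const S W a fun y hy => (hW y hy).2.1,
        const T W b fun y hy => (hW y hy).2.2, fun y => (hab.trans ((hW y.1 y.2).1.2).symm)⟩, hxW⟩
    · obtain ⟨W, hWU, a, b, hab⟩ := W
      let a' : (L S).obj.obj (op W) := a
      let b' : (L T).obj.obj (op W) := b
      have e : (L (S ⊔ T)).obj.map (homOfLE hWU).op f = i.hom.app (op W) a' + i'.hom.app (op W) b' :=
        Subtype.ext (funext fun y => (hab y).symm)
      have key : ∀ w : cokernel i ⟶ Z, Z.obj.map (homOfLE hWU).op ((cokernel.π i ≫ w).hom.app U f) =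
          (q ≫ w).hom.app (op W) b' := by
        intro w
        refine (ConcreteCategory.congr_hom ((cokernel.π i ≫ w).hom.naturality (homOfLE hWU).op) f).symm.trans ?_
        refine (congrArg ((cokernel.π i ≫ w).hom.app (op W)) e).trans ?_
        rw [map_add]
        have : (cokernel.π i ≫ w).hom.app (op W) (i.hom.app (op W) a') = 0 := by
          have h0 : i ≫ cokernel.π i ≫ w = 0 := by rw [cokernel.condition_assoc, zero_comp]
          exact ConcreteCategory.congr_hom (congrArg (fun φ => φ.hom.app (op W)) h0) a'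
        rw [this, zero_add]
        rfl
      exact (key u).trans ((ConcreteCategory.congr_hom (congrArg (fun φ : L T ⟶ Z => φ.hom.app (op W)) huv) b').trans
        (key v).symm)
  let S₂ : ShortComplex (QCohLib.AbSh X) := ShortComplex.mk j q hjq
  have hS₂ : S₂.ShortExact :=
    { exact := ShortComplex.exact_of_f_is_kernel _ <| KernelFork.IsLimit.ofι' _ _ fun {A} g hg => by
        let k := hS₁.fIsKernel.lift (KernelFork.ofι (g ≫ i') ((Category.assoc _ _ _).trans hg))
        have hk : k ≫ i = g ≫ i' := Fork.IsLimit.lift_ι hS₁.fIsKernel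
        have hmem : ∀ (U : Opens X) (s : A.obj.obj (op U)) (x : U),
            (show sec T U from g.hom.app (op U) s).1 x ∈ S x.1 := fun U s x => by
          have h := congrFun (congrArg Subtype.val
            (show (show sec (S ⊔ T) U from (k ≫ i).hom.app (op U) s) = (g ≫ i').hom.app (op U) s from
              ConcreteCategory.congr_hom (congrArg (fun φ => φ.hom.app (op U)) hk) s)) x
          exact (show (show sec S U from k.hom.app (op U) s).1 x = (show sec T U from g.hom.app (op U) s).1 x
            from h) ▸ (show sec S U from k.hom.app (op U) s).2.2 x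
        let l : A ⟶ L (S ⊓ T) := ⟨{
          app := fun U => AddCommGrpCat.ofHom
            (AddMonoidHom.mk' (fun s => (⟨(show sec T U.unop from g.hom.app U s).1,
                (show sec T U.unop from g.hom.app U s).2.1,
                fun x => ⟨hmem U.unop s x, (show sec T U.unop from g.hom.app U s).2.2 x⟩⟩ : sec (S ⊓ T) U.unop))
              fun a b => Subtype.ext (congrArg (fun w : sec T U.unop => w.1) (map_add (g.hom.app U).hom a b)))
          naturality := fun U V r => by
            ext s
            exact Subtype.ext (congrArg (fun w : sec T V.unop => w.1)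
              (ConcreteCategory.congr_hom (g.hom.naturality r) s)) }⟩
        refine ⟨l, ?_⟩
        refine Sheaf.hom_ext (NatTrans.ext (funext fun U => ?_))
        ext s
        rfl
      mono_f := inferInstanceAs (Mono j)
      epi_g := hq }
  have hQ : Good d S₂.X₃ := Good.right hS₂ h1 h3
  exact Good.middle hS₁ h2 hQ

include hgen in
theorem good_single (a : Idx X) : Good d (L (single a.1 a.2.1)) := by
  by_cases h : a.1 = 0
  · rw [h, single_zero]
    exact Good.of_isZero isZero_L_bot
  · haveI := isIso_singleMap h a.2.1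
    exact Good.of_iso (asIso (singleMap a.1 a.2.1)).symm (hgen _ a.2.2)

include hgen in
theorem good_fam (t : List (Idx X)) : Good d (L (fam t)) := by
  induction hn : t.length generalizing t with
  | zero =>
    obtain rfl := List.length_eq_zero_iff.mp hn
    exact Good.of_isZero isZero_L_bot
  | succ n ih =>
    obtain ⟨a, t, rfl⟩ := List.exists_cons_of_length_eq_add_one hn
    obtain ⟨t', hl, ht'⟩ := single_inf_fam a t
    refine good_sup d (isOpenFam_single _ _) (isOpenFam_fam t) (ht' ▸ ih t' ?_) (good_single d hgen a)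
      (ih t (by simpa using hn))
    simpa [hl] using hn

end Families

section Quotient

variable (hgen : ∀ V : Opens X, IsCompact (V : Set X) → Good d (QCohLib.zsh V))

include hgen in
/-- Quotients of the free sheaf on a compact open are good. -/
theorem good_quotient (U : Opens X) (hU : IsCompact (U : Set X)) {Q : QCohLib.AbSh X}
    (g : QCohLib.zsh U ⟶ Q) [Epi g] : Good d Q := by
  classical
  haveI := isIso_singleMap one_ne_zero U
  let T : X → AddSubgroup ℤ := single 1 U
  let g' : L T ⟶ Q := inv (singleMap 1 U) ≫ g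
  let Ker : Set (Idx X) := {a | ∃ h : ∀ y ∈ a.2.1, a.1 ∈ T y,
    g'.hom.app (op a.2.1) (const T a.2.1 a.1 h) = 0}
  have hfam : ∀ t : Finset Ker, fam (t.toList.map Subtype.val) ≤ T := by
    intro t
    suffices ∀ l : List Ker, fam (l.map Subtype.val) ≤ T from this _
    intro l
    induction l with
    | nil => exact bot_le
    | cons a l ih =>
      refine sup_le (fun y => ?_) ih
      by_cases hy : y ∈ a.1.2.1
      · rw [single_of_mem hy, AddSubgroup.zmultiples_le]; exact a.2.1 y hy
      · rw [single_of_not_mem hy]; exact bot_le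
  have hkill : ∀ (l : List Ker) (W : Opens X) (n : ℤ) (x : X), x ∈ W → n ∈ fam (l.map Subtype.val) x →
      ∃ (W' : Opens X) (h' : ∀ y ∈ W', n ∈ T y), x ∈ W' ∧ W' ≤ W ∧
        g'.hom.app (op W') (const T W' n h') = 0 := by
    intro l
    induction l with
    | nil =>
      intro W n x hx hn
      obtain rfl := AddSubgroup.mem_bot.mp hn
      refine ⟨W, fun y _ => zero_mem _, hx, le_rfl, ?_⟩
      exact (congrArg _ (show const T W 0 _ = (0 : sec T W) from rfl)).trans (map_zero _)
    | cons a l ih =>
      intro W n x hx hn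
      simp only [List.map_cons, fam, Pi.sup_apply, AddSubgroup.mem_sup] at hn
      obtain ⟨m, hm, r, hr, rfl⟩ := hn
      obtain ⟨W₁, h₁, hxW₁, hW₁, e₁⟩ := ih W r x hx hr
      by_cases hxa : x ∈ a.1.2.1
      · rw [single_of_mem hxa, AddSubgroup.mem_zmultiples_iff] at hm
        obtain ⟨k, rfl⟩ := hm
        obtain ⟨ha, ea⟩ := a.2
        refine ⟨W₁ ⊓ a.1.2.1, fun y hy => add_mem (zsmul_mem (ha y hy.2) k) (h₁ y hy.1), ⟨hxW₁, hxa⟩,
          inf_le_left.trans hW₁, ?_⟩
        have e : const T (W₁ ⊓ a.1.2.1) (k • a.1.1 + r) (fun y hy => add_mem (zsmul_mem (ha y hy.2) k) (h₁ y hy.1)) =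
            k • secRes T inf_le_right (const T a.1.2.1 a.1.1 ha) + secRes T inf_le_left (const T W₁ r h₁) := rfl
        rw [e]
        refine (map_add (g'.hom.app (op (W₁ ⊓ a.1.2.1))).hom _ _).trans ?_
        have e2 : ∀ {V V' : Opens X} (hle : V' ≤ V) (s : sec T V), g'.hom.app (op V) s = 0 →
            g'.hom.app (op V') (secRes T hle s) = 0 := fun hle s hs =>
          (ConcreteCategory.congr_hom (g'.hom.naturality (homOfLE hle).op) s).trans
            ((congrArg (Q.obj.map (homOfLE hle).op) hs).trans (map_zero (Q.obj.map (homOfLE hle).op).hom))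
        rw [show (g'.hom.app (op (W₁ ⊓ a.1.2.1))).hom (k • secRes T inf_le_right (const T a.1.2.1 a.1.1 ha)) =
          k • g'.hom.app (op (W₁ ⊓ a.1.2.1)) (secRes T inf_le_right (const T a.1.2.1 a.1.1 ha)) from map_zsmul _ _ _]
        exact (congrArg₂ (· + ·) ((congrArg (k • ·) (e2 inf_le_right _ ea)).trans (smul_zero k))
          (e2 inf_le_left _ e₁)).trans (add_zero _)
      · rw [single_of_not_mem hxa, AddSubgroup.mem_bot] at hm
        subst hm
        simp only [zero_add]
        exact ⟨W₁, h₁, hxW₁, hW₁, e₁⟩
  -- the kernel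
  let S : X → AddSubgroup ℤ := fun x => ⨆ t : Finset Ker, fam (t.toList.map Subtype.val) x
  have hmono : ∀ {t t' : Finset Ker}, t ≤ t' → fam (t.toList.map Subtype.val) ≤ fam (t'.toList.map Subtype.val) := by
    intro t t' h
    have hle : ∀ (l : List Ker), (∀ a ∈ l, a ∈ t') → fam (l.map Subtype.val) ≤ fam (t'.toList.map Subtype.val) := by
      intro l
      induction l with
      | nil => exact fun _ => bot_le
      | cons a l ih =>
        intro hl
        refine sup_le ?_ (ih fun b hb => hl b (List.mem_cons_of_mem _ hb))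
        have : ∀ (l' : List Ker), a ∈ l' → single a.1.1 a.1.2.1 ≤ fam (l'.map Subtype.val) := by
          intro l'
          induction l' with
          | nil => intro h; simp at h
          | cons b l' ih' =>
            intro h
            rcases List.mem_cons.mp h with rfl | h
            · exact le_sup_left
            · exact (ih' h).trans le_sup_right
        exact this _ (Finset.mem_toList.mpr (hl a List.mem_cons_self))
    exact hle _ fun a ha => h (Finset.mem_toList.mp ha)
  have hdir : ∀ x, Directed (· ≤ ·) fun t : Finset Ker => fam (t.toList.map Subtype.val) x := fun x t t' =>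
    ⟨t ∪ t', hmono Finset.subset_union_left x, hmono Finset.subset_union_right x⟩
  have hST : S ≤ T := fun x => iSup_le fun t => hfam t x
  have hSg : incl hST ≫ g' = 0 := by
    refine Sheaf.hom_ext (NatTrans.ext (funext fun U₀ => ?_))
    ext f
    change g'.hom.app U₀ ((incl hST).hom.app U₀ f) = 0
    refine TopCat.Sheaf.eq_of_locally_eq' (Q : TopCat.Sheaf AddCommGrpCat X)
      (fun W : {W : Opens X // ∃ hW : W ≤ U₀.unop,
        Q.obj.map (homOfLE hW).op (g'.hom.app U₀ ((incl hST).hom.app U₀ f)) = 0} => W.1) U₀.unop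
      (fun W => homOfLE W.2.1) (fun x hx => ?_) _ _ fun W => ?_
    · obtain ⟨W₀, hxW₀, hW₀⟩ := exists_opens (exists_const (show sec S U₀.unop from f) hx)
      obtain ⟨t, ht⟩ := (AddSubgroup.mem_iSup_of_directed (hdir x)).mp ((show sec S U₀.unop from f).2.2 ⟨x, hx⟩)
      obtain ⟨W', h', hxW', hW'le, e'⟩ := hkill t.toList W₀ _ x hxW₀ ht
      have hle : W' ≤ U₀.unop := fun y hy => (hW₀ y (hW'le hy)).1
      refine Opens.mem_iSup.mpr ⟨⟨W', hle, ?_⟩, hxW'⟩
      refine (ConcreteCategory.congr_hom (g'.hom.naturality (homOfLE hle).op) _).symm.trans ?_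
      refine Eq.trans (congrArg (g'.hom.app (op W')) ?_) e'
      exact Subtype.ext (funext fun y => (hW₀ y.1 (hW'le y.2)).2)
    · exact W.2.2.trans (map_zero _).symm
  let S₁ : ShortComplex (QCohLib.AbSh X) := ShortComplex.mk (incl hST) g' hSg
  haveI : Mono S₁.f := mono_incl hST
  have hS₁ : S₁.ShortExact :=
    { exact := ShortComplex.exact_of_f_is_kernel _ <| KernelFork.IsLimit.ofι' _ _ fun {A} w hw => by
        have hm : ∀ (U₀ : Opens X) (s : A.obj.obj (op U₀)) (x : U₀),
            (show sec T U₀ from w.hom.app (op U₀) s).1 x ∈ S x.1 := fun U₀ s x => by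
          obtain ⟨W₀, hxW₀, hW₀⟩ := exists_opens (exists_const (show sec T U₀ from w.hom.app (op U₀) s) x.2)
          obtain ⟨W, hWc, hxW, hWle⟩ := Opens.isBasis_iff_nbhd.mp (ColimCoh.isBasis_compact (X := X)) hxW₀
          have hle : W ≤ U₀ := fun y hy => (hW₀ y (hWle hy)).1
          let n := (show sec T U₀ from w.hom.app (op U₀) s).1 x
          have hn : ∀ y ∈ W, n ∈ T y := fun y hy => by
            have h2 := (show sec T U₀ from w.hom.app (op U₀) s).2.2 ⟨y, hle hy⟩
            rw [(hW₀ y (hWle hy)).2] at h2
            exact h2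
          have hker : ((n, ⟨W, hWc⟩) : Idx X) ∈ Ker := ⟨hn, by
            have e : const T W n hn = (L T).obj.map (homOfLE hle).op (w.hom.app (op U₀) s) :=
              Subtype.ext (funext fun y => ((hW₀ y.1 (hWle y.2)).2).symm)
            refine (congrArg _ e).trans ?_
            refine (ConcreteCategory.congr_hom (g'.hom.naturality (homOfLE hle).op) _).trans ?_
            exact (congrArg (Q.obj.map (homOfLE hle).op)
              (ConcreteCategory.congr_hom (congrArg (fun φ => φ.hom.app (op U₀)) hw) s)).trans
                (map_zero (Q.obj.map (homOfLE hle).op).hom)⟩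
          refine AddSubgroup.mem_iSup_of_mem ({⟨_, hker⟩} : Finset Ker) ?_
          rw [Finset.toList_singleton]
          refine AddSubgroup.mem_sup_left ?_
          rw [single_of_mem hxW]
          exact AddSubgroup.mem_zmultiples _
        let l : A ⟶ L S := ⟨{
          app := fun V => AddCommGrpCat.ofHom
            (AddMonoidHom.mk' (fun s => (⟨(show sec T V.unop from w.hom.app V s).1,
                (show sec T V.unop from w.hom.app V s).2.1, hm V.unop s⟩ : sec S V.unop))
              fun a b => Subtype.ext (congrArg (fun z : sec T V.unop => z.1) (map_add (w.hom.app V).hom a b)))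
          naturality := fun V V' r => by
            ext s
            exact Subtype.ext (congrArg (fun z : sec T V'.unop => z.1)
              (ConcreteCategory.congr_hom (w.hom.naturality r) s)) }⟩
        refine ⟨l, ?_⟩
        refine Sheaf.hom_ext (NatTrans.ext (funext fun V => ?_))
        ext s
        rfl
      mono_f := mono_incl hST
      epi_g := inferInstanceAs (Epi (inv (singleMap 1 U) ≫ g)) }
  refine Good.right hS₁ ?_ (Good.of_iso (asIso (singleMap 1 U)).symm (hgen U hU))
  -- the kernel is a colimit
  let D : Finset Ker ⥤ QCohLib.AbSh X :=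
    { obj := fun t => L (fam (t.toList.map Subtype.val))
      map := fun h => incl (hmono (leOfHom h))
      map_id := fun _ => rfl
      map_comp := fun _ _ => rfl }
  let c : Cocone D :=
    { pt := L S
      ι := { app := fun t => incl (fun x => le_iSup (fun t : Finset Ker => fam (t.toList.map Subtype.val) x) t)
             naturality := fun _ _ _ => rfl } }
  haveI : Epi (colimit.desc D c) := by
    refine ⟨fun {Z} u v huv => ?_⟩
    refine Sheaf.hom_ext (NatTrans.ext (funext fun U₀ => ?_))
    ext f
    refine TopCat.Sheaf.eq_of_locally_eq' (Z : TopCat.Sheaf AddCommGrpCat X)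
      (fun W : {W : Opens X // ∃ (hW : W ≤ U₀.unop) (t : Finset Ker) (s : (D.obj t).obj.obj (op W)),
        (c.ι.app t).hom.app (op W) s = (L S).obj.map (homOfLE hW).op f} => W.1) U₀.unop
      (fun W => homOfLE W.2.1) (fun x hx => ?_) _ _ fun W => ?_
    · obtain ⟨t, ht⟩ := (AddSubgroup.mem_iSup_of_directed (hdir x)).mp ((show sec S U₀.unop from f).2.2 ⟨x, hx⟩)
      obtain ⟨W, hxW, hW⟩ := exists_opens
        ((exists_const (show sec S U₀.unop from f) hx).and (isOpenFam_fam _ _ _ ht))
      refine Opens.mem_iSup.mpr ⟨⟨W, fun y hy => (hW y hy).1.1, t,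
        const (fam (t.toList.map Subtype.val)) W ((show sec S U₀.unop from f).1 ⟨x, hx⟩)
          (fun y hy => (hW y hy).2), ?_⟩, hxW⟩
      exact Subtype.ext (funext fun y => ((hW y.1 y.2).1.2).symm)
    · obtain ⟨W, hW, t, s, hs⟩ := W
      have key : ∀ w : L S ⟶ Z, Z.obj.map (homOfLE hW).op (w.hom.app U₀ f) =
          (colimit.ι D t ≫ colimit.desc D c ≫ w).hom.app (op W) s := by
        intro w
        refine (ConcreteCategory.congr_hom (w.hom.naturality (homOfLE hW).op) f).symm.trans ?_
        rw [colimit.ι_desc_assoc]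
        exact (congrArg (w.hom.app (op W)) hs).symm
      exact (key u).trans ((congrArg (fun ψ : colimit D ⟶ Z => (colimit.ι D t ≫ ψ).hom.app (op W) s) huv).trans
        (key v).symm)
  exact Good.of_cocone c (fun t => mono_incl (fun x =>
    le_iSup (fun t : Finset Ker => fam (t.toList.map Subtype.val) x) t)) fun t => good_fam d hgen _

end Quotient

section General

variable (hgen : ∀ V : Opens X, IsCompact (V : Set X) → Good d (QCohLib.zsh V))

include hgen in
theorem good_all (F : QCohLib.AbSh X) : Good d F := by
  classical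
  haveI : HasColimitsOfSize.{u, u} (QCohLib.AbSh X) :=
    haveI : IsGrothendieckAbelian.{u} (QCohLib.AbSh X) := QCohLib.isGrothendieckAbelian_abSh
    inferInstance
  let A := Σ V : {V : Opens X // IsCompact (V : Set X)}, F.obj.obj (op V.1)
  let φ : ∀ a : A, QCohLib.zsh a.1.1 ⟶ F := fun a => QCohLib.zEquiv.symm a.2
  let G : Finset A → Subobject F := fun t => t.sup fun a => imageSubobject (φ a)
  have hG : ∀ t, Good d ((G t : Subobject F) : QCohLib.AbSh X) := by
    intro t
    induction t using Finset.induction with
    | empty =>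
      refine Good.of_isZero ?_
      simp only [G, Finset.sup_empty]
      exact IsZero.of_iso (isZero_zero _) Subobject.botCoeIsoZero
    | insert a t _ ih =>
      let G₀ := G t
      let G₁ := imageSubobject (φ a) ⊔ G₀
      have e : G (insert a t) = G₁ := Finset.sup_insert
      rw [e]
      let j := Subobject.ofLE G₀ G₁ le_sup_right
      let i := Subobject.ofLE (imageSubobject (φ a)) G₁ le_sup_left
      let S₁ : ShortComplex (QCohLib.AbSh X) := ShortComplex.mk j (cokernel.π j) (cokernel.condition j)
      have hS₁ : S₁.ShortExact :=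
        { exact := ShortComplex.exact_of_g_is_cokernel _ (cokernelIsCokernel _)
          mono_f := inferInstanceAs (Mono j)
          epi_g := inferInstanceAs (Epi (cokernel.π j)) }
      haveI : Epi (i ≫ cokernel.π j) := by
        refine Preadditive.epi_of_cancel_zero _ fun {Z} h hh => ?_
        let w := cokernel.π j ≫ h
        suffices w = 0 from (cancel_epi (cokernel.π j)).mp (this.trans comp_zero.symm)
        let M : Subobject F := Subobject.mk ((kernelSubobject w).arrow ≫ G₁.arrow)
        have hM0 : G₀ ≤ M := Subobject.le_mk_of_comm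
          (factorThruKernelSubobject w j (by simp only [w, cokernel.condition_assoc, zero_comp]))
          (by rw [← Category.assoc, factorThruKernelSubobject_comp_arrow, Subobject.ofLE_arrow])
        have hMa : imageSubobject (φ a) ≤ M := Subobject.le_mk_of_comm
          (factorThruKernelSubobject w i (by simpa [w, Category.assoc] using hh))
          (by rw [← Category.assoc, factorThruKernelSubobject_comp_arrow, Subobject.ofLE_arrow])
        have hM : G₁ ≤ M := sup_le hMa hM0
        obtain ⟨k, hk⟩ : ∃ k, k ≫ (kernelSubobject w).arrow ≫ G₁.arrow = G₁.arrow :=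
          ⟨Subobject.ofLE G₁ M hM ≫ (Subobject.underlyingIso _).hom, by
            rw [Category.assoc, Subobject.underlyingIso_hom_comp_eq_mk, Subobject.ofLE_arrow]⟩
        have hk' : k ≫ (kernelSubobject w).arrow = 𝟙 _ := by
          rw [← cancel_mono G₁.arrow, Category.assoc, hk, Category.id_comp]
        calc w = (k ≫ (kernelSubobject w).arrow) ≫ w := by rw [hk', Category.id_comp]
          _ = 0 := by rw [Category.assoc, kernelSubobject_arrow_comp, comp_zero]
      exact Good.middle hS₁ ih (good_quotient hgen a.1.1 a.1.2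
        (factorThruImageSubobject (φ a) ≫ i ≫ cokernel.π j))
  haveI : HasColimitsOfShape (Finset A) (QCohLib.AbSh X) := HasColimitsOfSize.has_colimits_of_shape _
  let D : Finset A ⥤ QCohLib.AbSh X :=
    (Monotone.functor (fun _ _ h => Finset.sup_mono h : Monotone G)) ⋙ Subobject.underlying
  let c : Cocone D :=
    { pt := F
      ι := { app := fun t => (G t).arrow
             naturality := fun t t' h => by
              refine (Subobject.underlying_arrow _).trans (Category.comp_id _).symm } }
  haveI : HasColimit D := HasColimitsOfShape.has_colimit D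
  haveI : Epi (colimit.desc D c) := by
    refine ⟨fun {Z} u v huv => ?_⟩
    have hsec : ∀ (W : Opens X) (hW : IsCompact (W : Set X)) (s : F.obj.obj (op W)),
        u.hom.app (op W) s = v.hom.app (op W) s := by
      intro W hW s
      let a : A := ⟨⟨W, hW⟩, s⟩
      have hle : imageSubobject (φ a) ≤ G {a} := by simp only [G, Finset.sup_singleton]; exact le_rfl
      have hf : φ a = factorThruImageSubobject (φ a) ≫ Subobject.ofLE _ _ hle ≫ colimit.ι D {a} ≫ colimit.desc D c := by
        rw [colimit.ι_desc]
        exact ((congrArg (factorThruImageSubobject (φ a) ≫ ·) (Subobject.ofLE_arrow hle)).trans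
          (imageSubobject_arrow_comp (φ a))).symm
      have h2 : φ a ≫ u = φ a ≫ v := by
        rw [hf]; simp only [Category.assoc, huv]
      have h3 := congrArg QCohLib.zEquiv h2
      rwa [QCohLib.zEquiv_comp, QCohLib.zEquiv_comp, AddEquiv.apply_symm_apply] at h3
    refine Sheaf.hom_ext (NatTrans.ext (funext fun U₀ => ?_))
    ext f
    refine TopCat.Sheaf.eq_of_locally_eq' (Z : TopCat.Sheaf AddCommGrpCat X)
      (fun W : {W : Opens X // IsCompact (W : Set X) ∧ W ≤ U₀.unop} => W.1) U₀.unop
      (fun W => homOfLE W.2.2) (fun x hx => ?_) _ _ fun W => ?_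
    · obtain ⟨W, hW, hxW, hle⟩ := Opens.isBasis_iff_nbhd.mp (ColimCoh.isBasis_compact (X := X)) hx
      exact Opens.mem_iSup.mpr ⟨⟨W, hW, hle⟩, hxW⟩
    · exact (ConcreteCategory.congr_hom (u.hom.naturality (homOfLE W.2.2).op) f).symm.trans
        ((hsec W.1 W.2.1 _).trans (ConcreteCategory.congr_hom (v.hom.naturality (homOfLE W.2.2).op) f))
  exact Good.of_cocone c (fun t => inferInstanceAs (Mono (G t).arrow)) hG

end General

end CohTopLib.GenTest
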