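import Groth.Agent.CohTopLib.ConsLoc
import Groth.Agent.CohTopLib.GenTest
import Groth.Agent.CohTopLib.ClosedPush
import Groth.Agent.SpecProdLib.Basic

/-!
# Cohomological dimension of spectral spaces
-/

set_option autoImplicit false
set_option linter.unusedSectionVars false
set_option linter.style.haveILetI false
set_option backward.isDefEq.respectTransparency false
set_option backward.isDefEq.respectTransparency.types false

universe u
open CategoryTheory CategoryTheory.Limits TopologicalSpace Opposite CategoryTheory.Abelian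
open Topology

namespace CohTopLib.SpecVanish

open GermFam ConsLoc

variable {X : TopCat.{u}}

theorem subsingleton_HU_of_isZero {F : QCohLib.AbSh X} (h : IsZero F) (p : ℕ) (U : Opens X) :
    Subsingleton (QCohLib.HU F p U) :=
  subsingleton_of_forall_eq 0 fun x => by
    rw [← Ext.comp_mk₀_id x, h.eq_of_src (𝟙 F) 0, Ext.mk₀_zero, Ext.comp_zero]

section Subspace

variable {Z : TopCat.{u}} (i : Z ⟶ X) (hi : IsClosedEmbedding i)

include hi in
/-- Surjectivity of restriction passes to direct images along closed embeddings. -/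
theorem surjective_res_pf (U : Opens X) : ∀ (n : ℕ) (G : QCohLib.AbSh Z),
    Function.Surjective (QCohLib.res (F := G) (n := n) (homOfLE (le_top : QCohLib.pre i U ≤ ⊤))) →
    Function.Surjective (QCohLib.res (F := (QCohLib.pf i).obj G) (n := n) (homOfLE (le_top : U ≤ ⊤)))
  | 0, G, h, x => by
    obtain ⟨y, hy⟩ := h ((QCohLib.h0 (F := G) (U := QCohLib.pre i U)).symm
      (QCohLib.h0 (F := (QCohLib.pf i).obj G) (U := U) x))
    refine ⟨(QCohLib.h0 (F := (QCohLib.pf i).obj G) (U := ⊤)).symm (QCohLib.h0 (F := G) (U := ⊤) y),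
      (QCohLib.h0 (F := (QCohLib.pf i).obj G) (U := U)).injective ?_⟩
    rw [QCohLib.h0_res, AddEquiv.apply_symm_apply]
    have h1 := congrArg QCohLib.h0 hy
    rw [QCohLib.h0_res, AddEquiv.apply_symm_apply] at h1
    exact h1
  | n + 1, G, h, x => by
    have hS := QCohLib.injSeq_shortExact G
    have hT := pf_shortExact_of_isClosedEmbedding i hi hS
    haveI : Injective ((QCohLib.pf i).obj (QCohLib.injSeq G).X₂) := injective_pf i _
    haveI : Subsingleton (QCohLib.HU ((QCohLib.injSeq G).map (QCohLib.pf i)).X₂ (n + 1) U) :=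
      QCohLib.subsingleton_of_injective ((QCohLib.pf i).obj (QCohLib.injSeq G).X₂) n U
    obtain ⟨y, rfl⟩ := QCohLib.exists_eq_comp_extClass hT x
    match n, h, y with
    | 0, h, y =>
      let y' : (QCohLib.injSeq G).X₃.obj.obj (op (QCohLib.pre i U)) :=
        QCohLib.h0 (F := ((QCohLib.injSeq G).map (QCohLib.pf i)).X₃) (U := U) y
      obtain ⟨w, hw⟩ := h (((QCohLib.h0 (F := (QCohLib.injSeq G).X₃) (U := QCohLib.pre i U)).symm
        y').comp hS.extClass rfl)
      obtain ⟨z, rfl⟩ := QCohLib.exists_eq_comp_extClass hS w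
      rw [QCohLib.res_comp] at hw
      obtain ⟨t, ht⟩ := Ext.covariant_sequence_exact₃ _ hS
        ((QCohLib.h0 (F := (QCohLib.injSeq G).X₃) (U := QCohLib.pre i U)).symm y' -
          QCohLib.res (homOfLE le_top) z) rfl
        ((ColimCoh.sub_comp _ _ _ _).trans (sub_eq_zero.mpr hw.symm))
      refine ⟨((QCohLib.h0 (F := ((QCohLib.injSeq G).map (QCohLib.pf i)).X₃) (U := ⊤)).symm
        (QCohLib.h0 (F := (QCohLib.injSeq G).X₃) (U := ⊤) z)).comp hT.extClass rfl, ?_⟩
      rw [QCohLib.res_comp, ← sub_eq_zero, ← ColimCoh.sub_comp]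
      let t' : QCohLib.HU ((QCohLib.injSeq G).map (QCohLib.pf i)).X₂ 0 U :=
        (QCohLib.h0 (F := ((QCohLib.injSeq G).map (QCohLib.pf i)).X₂) (U := U)).symm
          (QCohLib.h0 (F := (QCohLib.injSeq G).X₂) (U := QCohLib.pre i U) t)
      have key : QCohLib.res (homOfLE (le_top : U ≤ ⊤))
            ((QCohLib.h0 (F := ((QCohLib.injSeq G).map (QCohLib.pf i)).X₃) (U := ⊤)).symm
              (QCohLib.h0 (F := (QCohLib.injSeq G).X₃) (U := ⊤) z)) - y =
          (-t').comp (Ext.mk₀ ((QCohLib.injSeq G).map (QCohLib.pf i)).g) (add_zero 0) := by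
        apply QCohLib.h0.injective
        rw [map_sub, QCohLib.h0_res, AddEquiv.apply_symm_apply, Ext.neg_comp, map_neg, QCohLib.h0_comp,
          AddEquiv.apply_symm_apply]
        have h1 := congrArg QCohLib.h0 ht
        rw [map_sub, QCohLib.h0_res, AddEquiv.apply_symm_apply, QCohLib.h0_comp] at h1
        exact (neg_sub _ _).symm.trans (congrArg Neg.neg h1).symm
      rw [key, Ext.comp_assoc_of_second_deg_zero, hT.comp_extClass, Ext.comp_zero]
    | m + 1, h, y =>
      have h' : Function.Surjective (QCohLib.res (F := (QCohLib.injSeq G).X₃) (n := m + 1)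
          (homOfLE (le_top : QCohLib.pre i U ≤ ⊤))) := fun a => by
        obtain ⟨w, hw⟩ := h (a.comp hS.extClass rfl)
        obtain ⟨z, rfl⟩ := QCohLib.exists_eq_comp_extClass hS w
        rw [QCohLib.res_comp] at hw
        obtain ⟨t, ht⟩ := Ext.covariant_sequence_exact₃ _ hS (a - QCohLib.res (homOfLE le_top) z) rfl
          ((ColimCoh.sub_comp _ _ _ _).trans (sub_eq_zero.mpr hw.symm))
        rw [Subsingleton.elim t 0, Ext.zero_comp] at ht
        exact ⟨z, (sub_eq_zero.mp ht.symm).symm⟩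
      obtain ⟨z, rfl⟩ := surjective_res_pf U (m + 1) _ h' y
      exact ⟨z.comp hT.extClass rfl, QCohLib.res_comp _ _ _ rfl⟩

end Subspace

variable [SpectralSpace X]

section Supp

variable (Q : QCohLib.AbSh X)

/-- Sections whose germs vanish outside a given set. -/
noncomputable def suppCond (Z : Set X) : SubSheaf.Cond Q where
  ok U :=
    { carrier := {s | ∀ (x : X) (hx : x ∈ U), x ∉ Z → germ Q U x hx s = 0}
      zero_mem' := fun _ _ _ => map_zero _
      add_mem' := fun {s t} hs ht x hx hxZ =>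
        (map_add (TopCat.Presheaf.germ (X := X) Q.obj U x hx).hom s t).trans
          ((congrArg₂ (· + ·) (hs x hx hxZ) (ht x hx hxZ)).trans (add_zero _))
      neg_mem' := fun {s} hs x hx hxZ =>
        (map_neg (TopCat.Presheaf.germ (X := X) Q.obj U x hx).hom s).trans
          ((congrArg Neg.neg (hs x hx hxZ)).trans neg_zero) }
  res {U V} h s hs x hx hxZ := (germ_rs Q h x hx s).trans (hs x (h hx) hxZ)
  loc U s h x hx hxZ := by
    obtain ⟨V, hle, hxV, hs⟩ := h x hx
    exact (germ_rs Q hle x hxV s).symm.trans (hs x hxV hxZ)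

theorem isZero_stalk_supp (Z : Set X) (x : X) (hx : x ∉ Z) :
    IsZero (CohTop.stalk (SubSheaf.sh (suppCond Q Z)) x) := by
  suffices Subsingleton (Stk (SubSheaf.sh (suppCond Q Z)) x) from AddCommGrpCat.isZero_of_subsingleton _
  refine subsingleton_of_forall_eq 0 fun a => ?_
  obtain ⟨U, hxU, s, rfl⟩ := TopCat.Presheaf.germ_exist (X := X) (SubSheaf.sh (suppCond Q Z)).obj a
  obtain ⟨W, hxW, i, j, hW⟩ := TopCat.Presheaf.germ_eq (X := X) Q.obj x hxU hxU
    ((SubSheaf.incl (suppCond Q Z)).hom.app (op U) s) 0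
    (((show (suppCond Q Z).ok U from s).2 x hxU hx).trans (map_zero _).symm)
  refine (TopCat.Presheaf.germ_res_apply (X := X) (SubSheaf.sh (suppCond Q Z)).obj i x hxW s).symm.trans ?_
  refine (congrArg _ ?_).trans (map_zero _)
  refine SubSheaf.incl_injective (suppCond Q Z) W ?_
  exact ((ConcreteCategory.congr_hom ((SubSheaf.incl (suppCond Q Z)).hom.naturality i.op) s).trans
    (hW.trans (map_zero (Q.obj.map j.op).hom))).trans (map_zero _).symm

/-- Closed sets without generic points. -/
abbrev Small (X : TopCat.{u}) [SpectralSpace X] : Type u :=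
  {Z : Set X // IsClosed Z ∧ ∀ x ∈ Z, ¬ IsGen x}

instance : IsDirected (Small X) (· ≤ ·) :=
  ⟨fun Z Z' => ⟨⟨Z.1 ∪ Z'.1, Z.2.1.union Z'.2.1, fun x hx => hx.elim (Z.2.2 x) (Z'.2.2 x)⟩,
    Set.subset_union_left, Set.subset_union_right⟩⟩

instance : Nonempty (Small X) := ⟨⟨∅, isClosed_empty, fun _ h => h.elim⟩⟩

/-- The subsheaves of sections with small support. -/
noncomputable def suppDiag : Small X ⥤ QCohLib.AbSh X where
  obj Z := SubSheaf.sh (suppCond Q Z.1)
  map h := SubSheaf.map _ fun U s hs x hx hxZ => hs x hx fun h' => hxZ (leOfHom h h')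
  map_id _ := rfl
  map_comp _ _ := rfl

/-- The inclusions. -/
noncomputable def suppCocone : Cocone (suppDiag Q) where
  pt := Q
  ι := { app := fun Z => SubSheaf.incl (suppCond Q Z.1)
         naturality := fun _ _ _ => rfl }

variable (hQ : ∀ (U : Opens X) (x : X) (hx : x ∈ U), IsGen x → ∀ s : Q.obj.obj (op U), germ Q U x hx s = 0)

include hQ in
theorem exists_small (U : Opens X) (hU : IsCompact (U : Set X)) (s : Q.obj.obj (op U)) :
    ∃ Z : Small X, s ∈ (suppCond Q Z.1).ok U := by
  let S : Set X := {x | ∃ hx : x ∈ U, germ Q U x hx s ≠ 0}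
  refine ⟨⟨closure S, isClosed_closure, fun x hx hgen => ?_⟩, fun x hx hxZ => ?_⟩
  · let O : Set X := {y | ∃ hy : y ∈ U, germ Q U y hy s = 0}
    have hO : IsOpen O := isOpen_iff_mem_nhds.mpr fun y ⟨hy, hye⟩ => by
      obtain ⟨W', hyW', hle, hW'⟩ := exists_eq_nhd Q hy hy s 0 (hye.trans (map_zero _).symm)
      exact Filter.mem_of_superset (W'.isOpen.mem_nhds hyW') fun z hz =>
        ⟨(hle hz).1, (hW' z hz _ (hle hz).1).trans (map_zero _)⟩
    obtain ⟨t, ht⟩ := SpecGen.exists_finset (fun V : {V : Opens X // x ∈ V ∧ IsCompact (V : Set X)} => V.1)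
      (fun V => V.2.2) U ⟨O, hO⟩ hU fun y hy hyV => by
        have hyx : y ⤳ x := specializes_iff_forall_open.mpr fun W hW hxW => by
          obtain ⟨B, ⟨hB1, hB2⟩, hxB, hBW⟩ :=
            PrespectralSpace.isTopologicalBasis.exists_subset_of_mem_open (u := W) hxW hW
          exact hBW (hyV ⟨⟨B, hB1⟩, hxB, hB2⟩)
        obtain rfl := hgen y hyx
        exact ⟨hy, hQ U y hy hgen s⟩
    obtain ⟨y, hyV, hyU, hys⟩ := mem_closure_iff.mp hx _ (t.inf fun V => V.1).2
      ((SpecGen.mem_finset_inf t _).mpr fun V _ => V.2.1)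
    obtain ⟨hy', hy0⟩ := ht y hyU fun V hV => (SpecGen.mem_finset_inf t _).mp hyV V hV
    exact hys hy0
  · by_contra h
    exact hxZ (subset_closure ⟨hx, h⟩)

include hQ in
theorem isIso_suppDesc [HasColimit (suppDiag Q)] : IsIso (colimit.desc (suppDiag Q) (suppCocone Q)) := by
  haveI := GenTest.mono_colimit_desc (suppCocone Q) fun Z => SubSheaf.mono_incl (suppCond Q Z.1)
  haveI : Epi (colimit.desc (suppDiag Q) (suppCocone Q)) := by
    refine ⟨fun {Y} u v huv => ?_⟩
    refine Sheaf.hom_ext (NatTrans.ext (funext fun U₀ => ?_))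
    ext f
    refine TopCat.Sheaf.eq_of_locally_eq' (Y : TopCat.Sheaf AddCommGrpCat X)
      (fun W : {W : Opens X // IsCompact (W : Set X) ∧ W ≤ U₀.unop} => W.1) U₀.unop
      (fun W => homOfLE W.2.2) (fun x hx => ?_) _ _ fun W => ?_
    · obtain ⟨W, hW, hxW, hle⟩ := Opens.isBasis_iff_nbhd.mp (ColimCoh.isBasis_compact (X := X)) hx
      exact Opens.mem_iSup.mpr ⟨⟨W, hW, hle⟩, hxW⟩
    · obtain ⟨Z, hZ⟩ := exists_small Q hQ W.1 W.2.1 (Q.obj.map (homOfLE W.2.2).op f)
      have key : ∀ w : Q ⟶ Y, Y.obj.map (homOfLE W.2.2).op (w.hom.app U₀ f) =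
          (colimit.ι (suppDiag Q) Z ≫ colimit.desc (suppDiag Q) (suppCocone Q) ≫ w).hom.app (op W.1) ⟨_, hZ⟩ := by
        intro w
        rw [colimit.ι_desc_assoc]
        exact (ConcreteCategory.congr_hom (w.hom.naturality (homOfLE W.2.2).op) f).symm
      exact (key u).trans ((congrArg (fun ψ : colimit (suppDiag Q) ⟶ Y =>
        (colimit.ι (suppDiag Q) Z ≫ ψ).hom.app (op W.1) ⟨_, hZ⟩) huv).trans (key v).symm)
  exact isIso_of_mono_of_epi _

end Supp

/-- The induction hypothesis: vanishing above `n` and surjectivity in degree `n`. -/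
def Bound (n : ℕ) (X : TopCat.{u}) : Prop :=
  ∀ F : QCohLib.AbSh X, (∀ (p : ℕ), n < p → ∀ U : Opens X, IsCompact (U : Set X) → Subsingleton (QCohLib.HU F p U)) ∧
    (∀ U : Opens X, IsCompact (U : Set X) →
      Function.Surjective (QCohLib.res (F := F) (n := n) (homOfLE (le_top : U ≤ ⊤))))

theorem exists_series {n : ℕ} (hd : topologicalKrullDim X ≤ (n : WithBot ℕ∞)) (p : LTSeries (IrreducibleCloseds X)) :
    p.length ≤ n := by
  have h := (Order.LTSeries.length_le_krullDim p).trans hd
  exact_mod_cast h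

/-- Small closed subspaces have smaller dimension. -/
theorem dim_small {n : ℕ} (hd : topologicalKrullDim X ≤ ((n + 1 : ℕ) : WithBot ℕ∞)) (Z : Small X) :
    topologicalKrullDim (Z.1 : Type u) ≤ (n : WithBot ℕ∞) := by
  refine iSup_le fun p => ?_
  let j : IrreducibleCloseds Z.1 → IrreducibleCloseds X :=
    IrreducibleCloseds.map Subtype.val continuous_subtype_val
  have hj : StrictMono j := IrreducibleCloseds.map_strictMono_of_isInducing IsInducing.subtypeVal
  let T := p.map j hj
  obtain ⟨g, hg⟩ := QuasiSober.sober T.last.isIrreducible' T.last.isClosed'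
  have hgZ : g ∈ Z.1 := by
    have h1 : g ∈ (T.last : Set X) := hg.mem
    rw [LTSeries.last_map] at h1
    exact closure_minimal (Set.image_subset_iff.mpr fun z _ => z.2) Z.2.1 h1
  obtain ⟨y, hyg, hne⟩ := by simpa [IsGen] using Z.2.2 g hgZ
  let Y : IrreducibleCloseds X := ⟨closure {y}, isIrreducible_singleton.closure, isClosed_closure⟩
  have hlt : T.last < Y := by
    refine lt_of_le_of_ne (fun z hz => (hyg.trans (hg.specializes hz)).mem_closure) fun h => hne ?_
    have h2 : IsGenericPoint g (closure {y}) :=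
      (show closure {g} = closure {y} from hg.trans (congrArg (fun W : IrreducibleCloseds X => (W : Set X)) h))
    exact (isGenericPoint_closure (x := y)).eq h2
  have h := exists_series hd (T.snoc Y hlt)
  simp only [RelSeries.snoc_length] at h
  have h' : p.length ≤ n := by
    change p.length + 1 ≤ n + 1 at h
    omega
  exact_mod_cast h'

/-- In dimension zero every point is generic. -/
theorem isGen_of_dim_zero (hd : topologicalKrullDim X ≤ ((0 : ℕ) : WithBot ℕ∞)) (x : X) : IsGen x := fun y hyx => by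
  by_contra hne
  let A : IrreducibleCloseds X := ⟨closure {x}, isIrreducible_singleton.closure, isClosed_closure⟩
  let B : IrreducibleCloseds X := ⟨closure {y}, isIrreducible_singleton.closure, isClosed_closure⟩
  have hlt : A < B := by
    refine lt_of_le_of_ne (specializes_iff_closure_subset.mp hyx) fun h => hne ?_
    exact (isGenericPoint_closure (x := y)).eq (S := closure {y})
      (show IsGenericPoint x (closure {y}) from congrArg (fun W : IrreducibleCloseds X => (W : Set X)) h)
  exact absurd (exists_series hd ((RelSeries.singleton _ A).snoc B hlt)) (by simp)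

/-- Sheaves vanishing at generic points have one dimension less. -/
theorem bound_of_vanish_gen {m : ℕ} (hd : topologicalKrullDim X ≤ ((m + 1 : ℕ) : WithBot ℕ∞))
    (ih : ∀ (Z : TopCat.{u}) [SpectralSpace Z], topologicalKrullDim Z ≤ (m : WithBot ℕ∞) → Bound m Z)
    (Q : QCohLib.AbSh X)
    (hQ : ∀ (U : Opens X) (x : X) (hx : x ∈ U), IsGen x → ∀ s : Q.obj.obj (op U), germ Q U x hx s = 0) :
    (∀ (p : ℕ), m < p → ∀ U : Opens X, IsCompact (U : Set X) → Subsingleton (QCohLib.HU Q p U)) ∧
      (∀ U : Opens X, IsCompact (U : Set X) →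
        Function.Surjective (QCohLib.res (F := Q) (n := m) (homOfLE (le_top : U ≤ ⊤)))) := by
  haveI : HasColimitsOfSize.{u, u} (QCohLib.AbSh X) :=
    haveI : IsGrothendieckAbelian.{u} (QCohLib.AbSh X) := QCohLib.isGrothendieckAbelian_abSh
    inferInstance
  haveI : HasColimit (suppDiag Q) := (HasColimitsOfSize.has_colimits_of_shape _).has_colimit _
  haveI := isIso_suppDesc Q hQ
  haveI : IsIso ((colimit.isColimit (suppDiag Q)).desc (suppCocone Q)) := isIso_suppDesc Q hQ
  have hc : IsColimit (suppCocone Q) := IsColimit.ofPointIso (colimit.isColimit (suppDiag Q))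
  have hstage : ∀ Z : Small X, (∀ (p : ℕ), m < p → ∀ U : Opens X, IsCompact (U : Set X) →
      Subsingleton (QCohLib.HU ((suppDiag Q).obj Z) p U)) ∧ (∀ U : Opens X, IsCompact (U : Set X) →
        Function.Surjective (QCohLib.res (F := (suppDiag Q).obj Z) (n := m) (homOfLE (le_top : U ≤ ⊤)))) := by
    intro Z
    let i : TopCat.of Z.1 ⟶ X := TopCat.ofHom ⟨Subtype.val, continuous_subtype_val⟩
    have hi : IsClosedEmbedding i := Z.2.1.isClosedEmbedding_subtypeVal
    haveI : SpectralSpace (TopCat.of Z.1) := SpecProdLib.spectralSpace_of_isClosedEmbedding hi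
    obtain ⟨G, ⟨e⟩⟩ := (push_essImage i hi (SubSheaf.sh (suppCond Q Z.1))).mpr fun x hx =>
      isZero_stalk_supp Q Z.1 x fun h => hx ⟨⟨x, h⟩, rfl⟩
    obtain ⟨hv, hs⟩ := ih (TopCat.of Z.1) (dim_small hd Z) G
    have hpre : ∀ U : Opens X, IsCompact (U : Set X) → IsCompact (QCohLib.pre i U : Set (TopCat.of Z.1)) :=
      fun U hU => hi.isCompact_preimage hU
    have hto : ∀ {p : ℕ} {U : Opens X} (x : QCohLib.HU ((suppDiag Q).obj Z) p U),
        (x.comp (Ext.mk₀ e.inv) (add_zero p)).comp (Ext.mk₀ e.hom) (add_zero p) = x := fun x => by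
      rw [Ext.comp_assoc_of_second_deg_zero, Ext.mk₀_comp_mk₀, e.inv_hom_id]
      exact Ext.comp_mk₀_id x
    refine ⟨fun p hp U hU => subsingleton_of_forall_eq 0 fun x => ?_, fun U hU x => ?_⟩
    · obtain ⟨ee⟩ := nonempty_HU_pf_equiv i hi p G U
      haveI := hv p hp _ (hpre U hU)
      haveI := ee.toEquiv.subsingleton
      rw [← hto x, Subsingleton.elim (x.comp (Ext.mk₀ e.inv) (add_zero p)) 0, Ext.zero_comp]
    · obtain ⟨y, hy⟩ := surjective_res_pf i hi U m G (hs _ (hpre U hU)) (x.comp (Ext.mk₀ e.inv) (add_zero m))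
      exact ⟨y.comp (Ext.mk₀ e.hom) (add_zero m), by rw [QCohLib.res_comp, hy, hto]⟩
  refine ⟨fun p hp U hU => subsingleton_of_forall_eq 0 fun x => ?_, fun U hU x => ?_⟩
  · obtain ⟨Z, y, rfl⟩ := (ColimCoh.prop₁ U hU p _ _ hc).1 x
    haveI := (hstage Z).1 p hp U hU
    rw [Subsingleton.elim y 0, Ext.zero_comp]
  · obtain ⟨Z, y, rfl⟩ := (ColimCoh.prop₁ U hU m _ _ hc).1 x
    obtain ⟨z, rfl⟩ := (hstage Z).2 U hU y
    exact ⟨z.comp _ (add_zero m), QCohLib.res_comp _ _ _ (add_zero m)⟩

/-- **Cohomological dimension of spectral spaces.** -/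
theorem bound : ∀ (n : ℕ) (X : TopCat.{u}) [SpectralSpace X],
    topologicalKrullDim X ≤ (n : WithBot ℕ∞) → Bound n X := by
  intro n
  induction n with
  | zero =>
    intro X _ hd F
    let π := cokernel.π (clι F)
    have hS : (ShortComplex.mk (clι F) π (cokernel.condition _)).ShortExact :=
      { exact := ShortComplex.exact_of_g_is_cokernel _ (cokernelIsCokernel _)
        mono_f := inferInstanceAs (Mono (clι F))
        epi_g := inferInstanceAs (Epi (cokernel.π (clι F))) }
    haveI : Epi (clι F) := by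
      refine ⟨fun {Y} u v huv => ?_⟩
      refine Sheaf.hom_ext (NatTrans.ext (funext fun U₀ => ?_))
      ext f
      refine TopCat.Sheaf.eq_of_locally_eq' (Y : TopCat.Sheaf AddCommGrpCat X)
        (fun W : {W : Opens X // ∃ (hW : W ≤ U₀.unop) (t : F.obj.obj (op W)),
          (clι F).hom.app (op W) t = (cl F).obj.map (homOfLE hW).op f} => W.1) U₀.unop
        (fun W => homOfLE W.2.fst) (fun x hx => ?_) _ _ fun W => ?_
      · obtain ⟨W, hW, t, hxW, ht⟩ := exists_section_of_isGen F (isGen_of_dim_zero hd x) U₀.unop hx f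
        exact Opens.mem_iSup.mpr ⟨⟨W, hW, t, ht⟩, hxW⟩
      · obtain ⟨W, hW, t, ht⟩ := W
        have key : ∀ w : cl F ⟶ Y, Y.obj.map (homOfLE hW).op (w.hom.app U₀ f) = (clι F ≫ w).hom.app (op W) t :=
          fun w => (ConcreteCategory.congr_hom (w.hom.naturality (homOfLE hW).op) f).symm.trans
            (congrArg (w.hom.app (op W)) ht.symm)
        exact (key u).trans ((congrArg (fun ψ : F ⟶ Y => ψ.hom.app (op W) t) huv).trans (key v).symm)
    haveI : IsIso (clι F) := isIso_of_mono_of_epi _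
    refine ⟨fun p hp U hU => subsingleton_of_forall_eq 0 fun x => ?_, fun U hU x => ?_⟩
    · obtain ⟨q, rfl⟩ := Nat.exists_eq_succ_of_ne_zero hp.ne'
      haveI := subsingleton_HU_cl F q U hU
      rw [← Ext.comp_mk₀_id x, ← IsIso.hom_inv_id (clι F), ← Ext.mk₀_comp_mk₀, ← Ext.comp_assoc_of_second_deg_zero,
        Subsingleton.elim (x.comp (Ext.mk₀ (clι F)) (add_zero (q + 1))) 0, Ext.zero_comp]
    · obtain ⟨s, hs⟩ := surjective_res F ⊤ U le_top hU ((clι F).hom.app (op U) (QCohLib.h0 x))
      refine ⟨QCohLib.h0.symm ((inv (clι F)).hom.app (op ⊤) s), QCohLib.h0.injective ?_⟩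
      rw [QCohLib.h0_res, AddEquiv.apply_symm_apply]
      refine (ConcreteCategory.congr_hom ((inv (clι F)).hom.naturality (homOfLE (le_top : U ≤ ⊤)).op) s).symm.trans ?_
      refine (congrArg ((inv (clι F)).hom.app (op U)) hs).trans ?_
      exact ConcreteCategory.congr_hom (congrArg (fun ψ : F ⟶ F => ψ.hom.app (op U)) (IsIso.hom_inv_id (clι F))) _
  | succ m ih =>
    intro X _ hd F
    let S : ShortComplex (QCohLib.AbSh X) := ShortComplex.mk (clι F) (cokernel.π (clι F)) (cokernel.condition _)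
    have hS : S.ShortExact :=
      { exact := ShortComplex.exact_of_g_is_cokernel _ (cokernelIsCokernel _)
        mono_f := inferInstanceAs (Mono (clι F))
        epi_g := inferInstanceAs (Epi (cokernel.π (clι F))) }
    have hQ : ∀ (U : Opens X) (x : X) (hx : x ∈ U), IsGen x → ∀ s : S.X₃.obj.obj (op U), germ S.X₃ U x hx s = 0 := by
      intro U x hx hgen s
      obtain ⟨W, hWU, ⟨t, ht⟩, hxW⟩ := (TopCat.Presheaf.isLocallySurjective_iff S.g.hom).mp
        ((Sheaf.isLocallySurjective_iff_epi' (φ := S.g)).mpr hS.epi_g) U s x hx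
      obtain ⟨W', hW', r, hxW', hr⟩ := exists_section_of_isGen F hgen W hxW t
      have h1 : S.X₃.obj.map (homOfLE (hW'.trans hWU)).op s = 0 := by
        refine (ConcreteCategory.congr_hom (S.X₃.obj.map_comp (homOfLE hWU).op (homOfLE hW').op) s).trans ?_
        refine (congrArg (S.X₃.obj.map (homOfLE hW').op) ht.symm).trans ?_
        refine (ConcreteCategory.congr_hom (S.g.hom.naturality (homOfLE hW').op) t).symm.trans ?_
        refine (congrArg (S.g.hom.app (op W')) hr.symm).trans ?_
        exact ConcreteCategory.congr_hom (congrArg (fun ψ : S.X₁ ⟶ S.X₃ => ψ.hom.app (op W')) S.zero) r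
      exact (germ_rs S.X₃ (hW'.trans hWU) x hxW' s).symm.trans ((congrArg _ h1).trans (map_zero _))
    obtain ⟨hv, hs⟩ := bound_of_vanish_gen hd ih S.X₃ hQ
    refine ⟨fun p hp U hU => subsingleton_of_forall_eq 0 fun x => ?_, fun U hU x => ?_⟩
    · obtain ⟨q, rfl⟩ := Nat.exists_eq_succ_of_ne_zero (by omega : p ≠ 0)
      haveI : Subsingleton (QCohLib.HU S.X₂ (q + 1) U) := subsingleton_HU_cl F q U hU
      obtain ⟨y, rfl⟩ := QCohLib.exists_eq_comp_extClass hS x
      haveI := hv q (by omega) U hU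
      rw [Subsingleton.elim y 0, Ext.zero_comp]
    · haveI : Subsingleton (QCohLib.HU S.X₂ (m + 1) U) := subsingleton_HU_cl F m U hU
      obtain ⟨y, rfl⟩ := QCohLib.exists_eq_comp_extClass hS x
      obtain ⟨z, rfl⟩ := hs U hU y
      exact ⟨z.comp hS.extClass rfl, QCohLib.res_comp _ _ _ rfl⟩

end CohTopLib.SpecVanish
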