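import Groth.Agent.CohTopLib.Basic
import Mathlib.Topology.Separation.Profinite
import Mathlib.Order.Disjointed

/-!
# Cohomology on profinite spaces
-/

universe u
open CategoryTheory CategoryTheory.Limits TopologicalSpace Opposite CategoryTheory.Abelian

namespace CohTopLib

open QCohLib

variable {X : TopCat.{u}} [CompactSpace X] [T2Space X] [TotallyDisconnectedSpace X]

/-- On a profinite space, every family of opens covering `X` is refined by a finite partition
into clopens. -/
theorem exists_partition_refinement {ι : Type*} (U : ι → Opens X) (hU : ∀ x : X, ∃ i, x ∈ U i) :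
    ∃ (n : ℕ) (D : Fin n → Opens X) (j : Fin n → ι),
      (∀ k, D k ≤ U (j k)) ∧ (∀ x : X, ∃ k, x ∈ D k) ∧
        ∀ k l, k ≠ l → D k ⊓ D l = ⊥ := by
  classical
  choose i hi using hU
  have hb := fun x => (compact_exists_isClopen_in_isOpen (U (i x)).2 (hi x))
  choose C hC hxC hCU using hb
  obtain ⟨t, ht⟩ := isCompact_univ.elim_finite_subcover C (fun x => (hC x).2)
    (fun x _ => Set.mem_iUnion.mpr ⟨x, hxC x⟩)
  let e := t.equivFin
  let E : Fin t.card → Set X := fun k => C (e.symm k)
  have hE : ∀ k, IsClopen (E k) := fun k => hC _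
  have hD : ∀ k, IsClopen (disjointed E k) := fun k => by
    rw [disjointed_apply, Finset.sup_set_eq_biUnion]
    exact (hE k).diff (isClopen_biUnion_finset fun l _ => hE l)
  refine ⟨t.card, fun k => ⟨disjointed E k, (hD k).2⟩, fun k => i (e.symm k).1, fun k x hx =>
    hCU _ (disjointed_le E k hx), fun x => ?_, fun k l hkl => Opens.ext ?_⟩
  · have hx : x ∈ ⋃ k, disjointed E k := by
      rw [iUnion_disjointed]
      obtain ⟨y, hy, hxy⟩ := Set.mem_iUnion₂.mp (ht (Set.mem_univ x))
      exact Set.mem_iUnion.mpr ⟨e ⟨y, hy⟩, by simpa [E] using hxy⟩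
    exact Set.mem_iUnion.mp hx
  · exact Set.disjoint_iff_inter_eq_empty.mp (disjoint_disjointed E hkl)

/-- On a profinite space an epimorphism of sheaves is surjective on global sections. -/
theorem surjective_top_of_epi {F G : AbSh X} (g : F ⟶ G) [Epi g] :
    Function.Surjective (g.hom.app (op (⊤ : Opens X))) := by
  intro s
  have hls := (Sheaf.isLocallySurjective_iff_epi' (φ := g)).mpr inferInstance
  have h := fun x : X => (TopCat.Presheaf.isLocallySurjective_iff g.hom).mp hls ⊤ s x trivial
  choose W hW hs hxW using h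
  obtain ⟨n, D, j, hDW, hcov, hdisj⟩ := exists_partition_refinement W fun x => ⟨x, hxW x⟩
  choose t ht using hs
  let sf : ∀ k, F.obj.obj (op (D k)) := fun k => F.obj.map (homOfLE (hDW k)).op (t (j k))
  have hcomp : TopCat.Presheaf.IsCompatible F.obj D sf := fun k l => by
    rcases eq_or_ne k l with rfl | hkl
    · rfl
    · have hz : IsZero (F.obj.obj (op (D k ⊓ D l))) := by
        rw [hdisj k l hkl]
        exact (F.isTerminalOfBotCover _ (fun x (hx : x ∈ (⊥ : Opens X)) => hx.elim)).isZero
      exact (AddCommGrpCat.subsingleton_of_isZero hz).elim _ _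
  have hle : (⊤ : Opens X) ≤ iSup D := fun x _ => Opens.mem_iSup.mpr (hcov x)
  obtain ⟨r, hr, -⟩ := TopCat.Sheaf.existsUnique_gluing' (F : TopCat.Sheaf AddCommGrpCat X) D ⊤
    (fun k => homOfLE le_top) hle sf hcomp
  refine ⟨r, TopCat.Sheaf.eq_of_locally_eq' (G : TopCat.Sheaf AddCommGrpCat X) D ⊤
    (fun k => homOfLE le_top) hle _ _ fun k => ?_⟩
  have h1 := congr($(g.hom.naturality (homOfLE (le_top : D k ≤ ⊤)).op) r)
  have h2 := congr($(g.hom.naturality (homOfLE (hDW k)).op) (t (j k)))
  simp only [ConcreteCategory.comp_apply] at h1 h2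
  rw [← h1, hr k, h2, ht (j k)]
  change G.obj.map _ (G.obj.map (homOfLE (hW (j k))).op s) = _
  rw [← ConcreteCategory.comp_apply, ← Functor.map_comp]
  rfl

/-- Higher cohomology of an abelian sheaf on a profinite space vanishes. -/
theorem subsingleton_HU_top_of_profinite (F : AbSh X) (p : ℕ) :
    Subsingleton (HU F (p + 1) (⊤ : Opens X)) := by
  induction p generalizing F with
  | zero =>
    have hS := injSeq_shortExact F
    have : Injective (injSeq F).X₂ := inferInstance
    refine subsingleton_of_forall_eq 0 fun x => ?_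
    obtain ⟨q, rfl⟩ := delta0_surjective hS ⊤ x
    have := hS.epi_g
    rw [delta0_eq_zero_iff]
    exact surjective_top_of_epi (injSeq F).g q
  | succ p ih =>
    have hS := injSeq_shortExact F
    have : Subsingleton (HU (injSeq F).X₃ (p + 1) (⊤ : Opens X)) := ih _
    exact subsingleton_X₁ hS

end CohTopLib
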