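import Groth.Agent.CohTopLib.DescExact
import Groth.Agent.SpSeqLib.BiSS
import Groth.Agent.SpSeqLib.AcyclicComplex

/-!
# The spectral sequence of descent along a simplicial space
-/

set_option autoImplicit false
set_option linter.unusedSectionVars false
set_option linter.style.haveILetI false
set_option backward.isDefEq.respectTransparency false
set_option backward.isDefEq.respectTransparency.types false

universe w u
open CategoryTheory CategoryTheory.Limits TopologicalSpace Opposite

namespace CohTopLib.DescSS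

open FamPush DescExact FibreCoh

variable {X : TopCat.{u}}

/-- The abutment. -/
noncomputable abbrev abut (F : QCohLib.AbSh X) : ℤ → AddCommGrpCat.{u} := fun n =>
  if 0 ≤ n then AddCommGrpCat.of (CohTop.H F n.toNat) else AddCommGrpCat.of PUnit.{u + 1}

theorem nonempty_abut_iso (F : QCohLib.AbSh X) (n : ℕ) :
    Nonempty (abut F n ≅ ((secTop X).rightDerived n).obj F) := by
  obtain ⟨e⟩ := nonempty_rightDerived_secTop X F n
  refine ⟨eqToIso ?_ ≪≫ AddEquiv.toAddCommGrpIso (X := AddCommGrpCat.of (CohTop.H F n)) (Y := AddCommGrpCat.of (QCohLib.HU F n ⊤)) (QCohLib.hEquiv F n) ≪≫ e.symm⟩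
  simp [abut]

theorem isZero_abut (F : QCohLib.AbSh X) (n : ℤ) (hn : n < 0) : IsZero (abut F n) := by
  simp only [abut, if_neg (not_le.mpr hn)]
  exact @AddCommGrpCat.isZero_of_subsingleton _ inferInstance

variable (K : SimplicialObject (Over X))

/-- The coface complexes, indexed by integers. -/
noncomputable abbrev extCo : QCohLib.AbSh X ⥤ CochainComplex (QCohLib.AbSh X) ℤ :=
  coface K ⋙ ComplexShape.embeddingUpNat.extendFunctor (QCohLib.AbSh X)

/-- The augmentation in degree zero. -/
noncomputable def η : 𝟭 (QCohLib.AbSh X) ⟶ extCo K ⋙ HomologicalComplex.eval _ (ComplexShape.up ℤ) 0 where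
  app F := aug₀ K F ≫ (((coface K).obj F).extendXIso ComplexShape.embeddingUpNat (i := 0) (i' := (0 : ℤ)) rfl).inv
  naturality F G φ := by
    refine ((Category.assoc _ _ _).symm.trans (congrArg (· ≫ _)
      ((aug (K.obj (op (SimplexCategory.mk 0)))).naturality φ))).trans ?_
    change _ = (aug₀ K F ≫ _) ≫ (HomologicalComplex.extendMap ((coface K).map φ) ComplexShape.embeddingUpNat).f 0
    rw [HomologicalComplex.extendMap_f _ ComplexShape.embeddingUpNat (i := 0) (i' := (0 : ℤ)) rfl]
    simp only [Category.assoc, Iso.inv_hom_id_assoc]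
    rfl

theorem η_d (F : QCohLib.AbSh X) (j : ℤ) : (η K).app F ≫ ((extCo K).obj F).d 0 j = 0 := by
  by_cases hj : (ComplexShape.up ℤ).Rel 0 j
  · obtain rfl : (1 : ℤ) = j := by simpa using hj
    change (aug₀ K F ≫ _) ≫ (((coface K).obj F).extend ComplexShape.embeddingUpNat).d 0 1 = 0
    rw [HomologicalComplex.extend_d_eq _ ComplexShape.embeddingUpNat (i := 0) (j := 1) (i' := (0 : ℤ)) (j' := (1 : ℤ)) rfl rfl]
    simp only [Category.assoc, Iso.inv_hom_id_assoc]
    rw [reassoc_of% (aug₀_d K F), zero_comp]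
  · rw [HomologicalComplex.shape _ _ _ hj, comp_zero]

/-- The augmentation of one row. -/
noncomputable abbrev rowAug (F : QCohLib.AbSh X) :
    (HomologicalComplex.single (QCohLib.AbSh X) (ComplexShape.up ℤ) 0).obj F ⟶ (extCo K).obj F :=
  HomologicalComplex.mkHomFromSingle ((η K).app F) fun j _ => η_d K F j

theorem quasiIso_rowAug (F : QCohLib.AbSh X) [QuasiIso ((coAug K).app F)] : QuasiIso (rowAug K F) := by
  have : rowAug K F = (HomologicalComplex.extendSingleIso ComplexShape.embeddingUpNat F (i := 0) (i' := (0 : ℤ)) rfl).inv ≫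
      HomologicalComplex.extendMap ((coAug K).app F) ComplexShape.embeddingUpNat := by
    refine HomologicalComplex.from_single_hom_ext ?_
    rw [HomologicalComplex.mkHomFromSingle_f, HomologicalComplex.comp_f,
      HomologicalComplex.extendMap_f _ ComplexShape.embeddingUpNat (i := 0) (i' := (0 : ℤ)) rfl, coAug_f_zero]
    simp [η, HomologicalComplex.extendSingleIso]
  rw [this]
  infer_instance

theorem mono_η (F : QCohLib.AbSh X) [QuasiIso ((coAug K).app F)] : Mono ((η K).app F) := by
  have h : QuasiIsoAt ((coAug K).app F) 0 := (‹QuasiIso ((coAug K).app F)›).quasiIsoAt 0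
  rw [CochainComplex.quasiIsoAt₀_iff,
    ShortComplex.quasiIso_iff_of_zeros _ rfl rfl (((coface K).obj F).shape 0 0 (Nat.succ_ne_zero 0))] at h
  haveI : Mono (aug₀ K F) := by
    rw [← coAug_f_zero]
    exact h.2
  dsimp only [η]
  infer_instance

variable (G : CochainComplex (QCohLib.AbSh X) ℤ)

/-- The bicomplex. -/
noncomputable abbrev bi : SpSeqLib.BiTotal.Bi (QCohLib.AbSh X) :=
  HomologicalComplex₂.flip (((extCo K).mapHomologicalComplex (ComplexShape.up ℤ)).obj G)

/-- The augmentation of the bicomplex, in degree zero. -/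
noncomputable def η₀ : G ⟶ (bi K G).X 0 where
  f q := (η K).app (G.X q)
  comm' q q' _ := ((η K).naturality (G.d q q')).symm

/-- The augmentation of the bicomplex. -/
noncomputable def ε : (HomologicalComplex.single (CochainComplex (QCohLib.AbSh X) ℤ) (ComplexShape.up ℤ) 0).obj G ⟶
    bi K G :=
  HomologicalComplex.mkHomFromSingle (η₀ K G) fun j _ => by
    ext q : 1
    exact η_d K (G.X q) j

/-- The columns. -/
noncomputable def colIso (p : ℕ) :
    (bi K G).X (p : ℤ) ≅
      ((pp (K.obj (op (SimplexCategory.mk p)))).mapHomologicalComplex (ComplexShape.up ℤ)).obj G :=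
  HomologicalComplex.Hom.isoOfComponents
    (fun q => ((coface K).obj (G.X q)).extendXIso ComplexShape.embeddingUpNat (i := p) rfl) fun q q' _ => by
      change _ ≫ (pp (K.obj (op (SimplexCategory.mk p)))).map (G.d q q') =
        (HomologicalComplex.extendMap ((coface K).map (G.d q q')) ComplexShape.embeddingUpNat).f (p : ℤ) ≫ _
      rw [HomologicalComplex.extendMap_f _ ComplexShape.embeddingUpNat (i := p) (i' := (p : ℤ)) rfl]
      simp only [Category.assoc, Iso.inv_hom_id, Category.comp_id]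
      rfl

theorem isZero_bi [G.IsStrictlyGE 0] (p q : ℤ) (h : p < 0 ∨ q < 0) : IsZero (((bi K G).X p).X q) := by
  change IsZero (((extCo K).obj (G.X q)).X p)
  rcases h with h | h
  · exact HomologicalComplex.isZero_extend_X _ _ p fun k hk => by
      change (k : ℤ) = p at hk
      omega
  · exact Functor.map_isZero (extCo K ⋙ HomologicalComplex.eval _ (ComplexShape.up ℤ) p)
      (G.isZero_of_isStrictlyGE 0 q h)

theorem mono_ε (hq : ∀ F : QCohLib.AbSh X, QuasiIso ((coAug K).app F)) : Mono (ε K G) := by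
  haveI : ∀ m, Mono ((ε K G).f m) := fun m => by
    by_cases hm : m = 0
    · subst hm
      haveI : Mono (η₀ K G) := by
        haveI : ∀ q, Mono ((η₀ K G).f q) := fun q => haveI := hq (G.X q); mono_η K (G.X q)
        exact HomologicalComplex.mono_of_mono_f _ inferInstance
      rw [ε, HomologicalComplex.mkHomFromSingle_f]
      infer_instance
    · exact ⟨fun _ _ _ => (HomologicalComplex.isZero_single_obj_X _ _ _ _ hm).eq_of_tgt _ _⟩
  exact HomologicalComplex.mono_of_mono_f _ inferInstance

theorem quasiIso_row (q : ℤ) [QuasiIso ((coAug K).app (G.X q))] :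
    QuasiIso (((HomologicalComplex.eval (QCohLib.AbSh X) (ComplexShape.up ℤ) q).mapHomologicalComplex
      (ComplexShape.up ℤ)).map (ε K G)) := by
  haveI := quasiIso_rowAug K (G.X q)
  let e := (HomologicalComplex.singleMapHomologicalComplex (HomologicalComplex.eval (QCohLib.AbSh X) (ComplexShape.up ℤ) q)
    (ComplexShape.up ℤ) 0).app G
  have : e.inv ≫ ((HomologicalComplex.eval (QCohLib.AbSh X) (ComplexShape.up ℤ) q).mapHomologicalComplex
      (ComplexShape.up ℤ)).map (ε K G) = rowAug K (G.X q) := by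
    refine HomologicalComplex.from_single_hom_ext ?_
    rw [HomologicalComplex.comp_f, HomologicalComplex.mkHomFromSingle_f]
    change e.inv.f 0 ≫ ((ε K G).f 0).f q = _
    rw [ε, HomologicalComplex.mkHomFromSingle_f, HomologicalComplex.comp_f]
    simp [e, η₀, HomologicalComplex.singleMapHomologicalComplex]
    rfl
  haveI : QuasiIso (e.inv ≫ ((HomologicalComplex.eval (QCohLib.AbSh X) (ComplexShape.up ℤ) q).mapHomologicalComplex
      (ComplexShape.up ℤ)).map (ε K G)) := this ▸ ‹QuasiIso (rowAug K (G.X q))›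
  exact quasiIso_of_comp_left e.inv _

variable [HasDerivedCategory.{w} (QCohLib.AbSh X)]

/-- **Descent, when the direct images are to be derived.** -/
theorem exists_descent (F : QCohLib.AbSh X) [G.IsStrictlyGE 0]
    (a : (CochainComplex.singleFunctor (QCohLib.AbSh X) 0).obj F ⟶ G) [QuasiIso a]
    (hq : ∀ F : QCohLib.AbSh X, QuasiIso ((coAug K).app F)) :
    ∃ (E : CohomologicalSpectralSequence AddCommGrpCat.{u} 1) (ab : SpSeq.Abutment E (abut F)),
      (∀ n, ab.IsFinite n) ∧ SpSeq.IsBounded E ∧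
      (∀ p q : ℕ, Nonempty ((E.page 1 le_rfl).X ((p : ℤ), (q : ℤ)) ≅
        ((SpSeqLib.phi (secTop X)).shift (q : ℤ)).obj (SpSeqLib.qPlus
          (((pp (K.obj (op (SimplexCategory.mk p)))).mapHomologicalComplex (ComplexShape.up ℤ)).obj G)
          ⟨0, inferInstance⟩))) ∧
      ∀ p q : ℤ, p < 0 ∨ q < 0 → IsZero ((E.page 1 le_rfl).X (p, q)) := by
  haveI := mono_ε K G hq
  obtain ⟨E, ab, h1, h2, h3, h4⟩ := SpSeqLib.BiSS.exists_spectralSequence_of_bicomplex (secTop X) (bi K G)
    (isZero_bi K G) F G a (ε K G) (fun q => haveI := hq (G.X q); quasiIso_row K G q) (abut F)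
    (nonempty_abut_iso F) (isZero_abut F)
  refine ⟨E, ab, h1, h2, fun p q => ?_, h4⟩
  obtain ⟨hp, h⟩ := h3 p
  obtain ⟨e⟩ := h q
  exact ⟨e ≪≫ ((SpSeqLib.phi (secTop X)).shift (q : ℤ)).mapIso
    (SpSeqLib.qPlusIso (hK := hp) (hL := ⟨0, inferInstance⟩) (colIso K G p).hom)⟩

/-- **Descent, when the direct images are exact.** -/
theorem exists_descent_of_exact (F : QCohLib.AbSh X) [QuasiIso ((coAug K).app F)] :
    ∃ (E : CohomologicalSpectralSequence AddCommGrpCat.{u} 1) (ab : SpSeq.Abutment E (abut F)),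
      (∀ n, ab.IsFinite n) ∧ SpSeq.IsBounded E ∧
      (∀ p q : ℕ, Nonempty ((E.page 1 le_rfl).X ((p : ℤ), (q : ℤ)) ≅
        ((secTop X).rightDerived q).obj ((pp (K.obj (op (SimplexCategory.mk p)))).obj F))) ∧
      ∀ p q : ℤ, p < 0 ∨ q < 0 → IsZero ((E.page 1 le_rfl).X (p, q)) :=
  SpSeqLib.EOne.exists_spectralSequence_of_resolution (secTop X) F ((coface K).obj F) ((coAug K).app F) (abut F)
    (nonempty_abut_iso F) (isZero_abut F)

/-- The first page in all places. -/
theorem nonempty_page_iso {E : CohomologicalSpectralSequence AddCommGrpCat.{u} 1} (T : ℤ → ℤ → AddCommGrpCat.{u})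
    (h : ∀ p q : ℕ, Nonempty ((E.page 1 le_rfl).X ((p : ℤ), (q : ℤ)) ≅ T p q))
    (h' : ∀ p q : ℤ, p < 0 ∨ q < 0 → IsZero ((E.page 1 le_rfl).X (p, q))) (p q : ℤ) :
    Nonempty ((E.page 1 le_rfl).X (p, q) ≅ if 0 ≤ p ∧ 0 ≤ q then T p q else AddCommGrpCat.of PUnit.{u + 1}) := by
  by_cases hpq : 0 ≤ p ∧ 0 ≤ q
  · rw [if_pos hpq]
    obtain ⟨a, rfl⟩ := Int.eq_ofNat_of_zero_le hpq.1
    obtain ⟨b, rfl⟩ := Int.eq_ofNat_of_zero_le hpq.2
    exact h a b
  · rw [if_neg hpq]
    exact ⟨(h' p q ((not_and_or.mp hpq).imp not_le.mp not_le.mp)).iso (@AddCommGrpCat.isZero_of_subsingleton _ inferInstance)⟩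

end CohTopLib.DescSS
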