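import Groth.Agent.CohTopLib.FlasqueLocal
import Mathlib.Algebra.Category.Grp.Limits
import Mathlib.CategoryTheory.Limits.Shapes.WidePullbacks

/-!
# Descent along a surjective local homeomorphism
-/

set_option autoImplicit false
set_option linter.unusedSectionVars false
set_option linter.style.haveILetI false
set_option backward.isDefEq.respectTransparency false
set_option backward.isDefEq.respectTransparency.types false

universe w w' u
open CategoryTheory CategoryTheory.Limits TopologicalSpace Opposite Topology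

namespace CohTopLib.LocalHomeoDesc

open GermFam FamPush DescExact FibreCoh

variable {Y X : TopCat.{u}} (f : Y ⟶ X)

/-- The iterated fibre product, as a set of pairs. -/
abbrev Pts (a : SimplexCategory) : Type u := {z : (Fin (a.len + 1) → Y) × X // ∀ i, f (z.1 i) = z.2}

/-- Restriction of tuples. -/
def pullPt {a b : SimplexCategory} (g : b ⟶ a) (z : Pts f a) : Pts f b :=
  ⟨(z.1.1 ∘ g.toOrderHom, z.1.2), fun i => z.2 _⟩

theorem continuous_pullPt {a b : SimplexCategory} (g : b ⟶ a) : Continuous (pullPt f g) :=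
  Continuous.subtype_mk (f := fun z : Pts f a => (z.1.1 ∘ g.toOrderHom, z.1.2))
    ((continuous_pi fun i => (continuous_apply (g.toOrderHom i)).comp
      (continuous_fst.comp (continuous_subtype_val (p := fun z : (Fin (a.len + 1) → Y) × X => ∀ i, f (z.1 i) = z.2)))).prodMk
      (continuous_snd.comp continuous_subtype_val)) fun z i => z.2 _

/-- The Čech nerve, strictly. -/
def K : SimplicialObject (Over X) where
  obj a := Over.mk (TopCat.ofHom ⟨fun z : Pts f a.unop => z.1.2, continuous_snd.comp continuous_subtype_val⟩ :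
    TopCat.of (Pts f a.unop) ⟶ X)
  map {a b} g := Over.homMk (TopCat.ofHom ⟨pullPt f g.unop, continuous_pullPt f g.unop⟩) rfl
  map_id _ := rfl
  map_comp _ _ := rfl

/-- The projection. -/
abbrev π (a : SimplexCategory) : ((K f).obj (op a)).left ⟶ X := ((K f).obj (op a)).hom

theorem fib_ext {a : SimplexCategory} {y : X} {z z' : Fib ((K f).obj (op a)) y} (h : z.1.1.1 = z'.1.1.1) : z = z' :=
  Subtype.ext (Subtype.ext (Prod.ext h (z.2.trans z'.2.symm)))

theorem fib_map {a : SimplexCategory} {y : X} (z : Fib ((K f).obj (op a)) y) (i : Fin (a.len + 1)) :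
    f (z.1.1.1 i) = y :=
  (z.1.2 i).trans z.2

/-- A contraction of the fibre over a point with a chosen preimage. -/
def cone (y : X) (v : Y) (hv : f v = y) : Cone (K f) y where
  e := ⟨⟨(fun _ => v, y), fun _ => hv⟩, rfl⟩
  h n z := ⟨⟨(Fin.cons v z.1.1.1, y), fun k => Fin.cases hv (fun j => fib_map f z j) k⟩, rfl⟩
  face_zero n z := fib_ext f (funext fun k => by
    change Fin.cons (α := fun _ => Y) v z.1.1.1 (Fin.succAbove 0 k) = z.1.1.1 k
    rw [Fin.succAbove_zero, Fin.cons_succ])
  face_one z := fib_ext f (funext fun k => by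
    change Fin.cons (α := fun _ => Y) v z.1.1.1 (Fin.succAbove 1 k) = v
    obtain rfl : k = 0 := Fin.fin_one_eq_zero k
    rfl)
  face_succ n j z := fib_ext f (funext fun k => by
    change Fin.cons (α := fun _ => Y) v z.1.1.1 (Fin.succAbove j.succ k) =
      Fin.cons (α := fun _ => Y) v (z.1.1.1 ∘ j.succAbove) k
    induction k using Fin.cases with
    | zero => rw [Fin.succ_succAbove_zero, Fin.cons_zero, Fin.cons_zero]
    | succ k => rw [Fin.succ_succAbove_succ, Fin.cons_succ, Fin.cons_succ]; rfl)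

variable (hf : IsLocalHomeomorph f) (hsurj : Function.Surjective f)

include hf hsurj in
theorem exists_section_near (x : X) : ∃ (V : Opens X) (_ : x ∈ V) (s : V → Y), Continuous s ∧ ∀ y, f (s y) = y.1 := by
  obtain ⟨v, rfl⟩ := hsurj x
  obtain ⟨e, hv, he⟩ := hf v
  refine ⟨⟨e.target, e.open_target⟩, ?_, fun y => e.symm y.1,
    e.symm.continuousOn.comp_continuous continuous_subtype_val fun y => y.2, fun y => ?_⟩
  · exact (congrFun he v).symm ▸ e.map_source hv
  · exact (congrFun he _).trans (e.right_inv y.2)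

include hf in
theorem isLocalHomeomorph_π (a : SimplexCategory) : IsLocalHomeomorph (π f a) := by
  rw [isLocalHomeomorph_iff_isOpenEmbedding_restrict]
  intro z
  let z' : Pts f a := z
  choose e hv he using fun i => hf (z'.1.1 i)
  let O : Set (Pts f a) := {w | ∀ i, w.1.1 i ∈ (e i).source}
  have hO : IsOpen O := by
    simp only [O, Set.setOf_forall]
    exact isOpen_iInter_of_finite fun i => (e i).open_source.preimage
      ((continuous_apply i).comp (continuous_fst.comp continuous_subtype_val))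
  refine ⟨O, hO.mem_nhds (show z' ∈ O from hv), ?_⟩
  have hfe : ∀ i v, f v = e i v := fun i v => congrFun (he i) v
  refine IsOpenEmbedding.of_continuous_injective_isOpenMap
    ((continuous_snd.comp continuous_subtype_val).comp continuous_subtype_val) ?_ ?_
  · rintro ⟨w, hw⟩ ⟨w', hw'⟩ h
    have h' : w.1.2 = w'.1.2 := h
    refine Subtype.ext (Subtype.ext (Prod.ext (funext fun i => (e i).injOn (hw i) (hw' i) ?_) h'))
    exact (hfe i _).symm.trans (((w.2 i).trans h').trans ((w'.2 i).symm.trans (hfe i _)))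
  · intro O' hO'
    let T : Set X := ⋂ i, (e i).target
    let σ : T → O := fun y => ⟨⟨(fun i => (e i).symm y.1, y.1),
      fun i => (hfe i _).trans ((e i).right_inv (Set.mem_iInter.mp y.2 i))⟩,
      fun i => (e i).map_target (Set.mem_iInter.mp y.2 i)⟩
    have hσ : Continuous σ := (((continuous_pi fun i => (e i).symm.continuousOn.comp_continuous
      continuous_subtype_val fun y => Set.mem_iInter.mp y.2 i).prodMk continuous_subtype_val).subtype_mk _).subtype_mk _
    have hT : IsOpen T := isOpen_iInter_of_finite fun i => (e i).open_target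
    have heq : Set.domRestrict (α := Pts f a) O (fun w => w.1.2) '' O' = Subtype.val '' (σ ⁻¹' O') := by
      ext y
      constructor
      · rintro ⟨⟨w, hw⟩, hwO, rfl⟩
        have hy : w.1.2 ∈ T := Set.mem_iInter.mpr fun i => by
          rw [← w.2 i, hfe i]
          exact (e i).map_source (hw i)
        refine ⟨⟨w.1.2, hy⟩, ?_, rfl⟩
        have : σ ⟨w.1.2, hy⟩ = ⟨w, hw⟩ := Subtype.ext (Subtype.ext (Prod.ext (funext fun i => by
          change (e i).symm w.1.2 = w.1.1 i
          rw [← w.2 i, hfe i, (e i).left_inv (hw i)]) rfl))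
        change σ ⟨w.1.2, hy⟩ ∈ O'
        rw [this]
        exact hwO
      · rintro ⟨y, hy, rfl⟩
        exact ⟨σ y, hy, rfl⟩
    change IsOpen (Set.domRestrict (α := Pts f a) O (fun w => w.1.2) '' O')
    rw [heq]
    exact hT.isOpenMap_subtype_val _ (hO'.preimage hσ)

include hf hsurj in
theorem quasiIso (F : QCohLib.AbSh X) : QuasiIso ((coAug (K f)).app F) := by
  refine quasiIso_coAug (K f) F
    (fun y => ⟨(cone f y _ (hsurj y).choose_spec).e⟩) ?_ ?_
  · intro W x hx c hc
    obtain ⟨V, hxV, s, hs, hfs⟩ := exists_section_near f hf hsurj x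
    let U₀ := (K f).obj (op (SimplexCategory.mk 0))
    let V₁ : Opens X := V ⊓ W
    let C : ∀ y : V₁, Cone (K f) y.1 := fun y => cone f y.1 (s ⟨y.1, y.2.1⟩) (hfs _)
    let g : ∀ y : V₁, Stk F y.1 := fun y => valHom U₀ F y.1 y.2.2 (C y).e c
    have hloc : ∀ y : V₁, ∃ (A : Opens X) (_ : A ≤ V₁) (t : F.obj.obj (op A)), y.1 ∈ A ∧
        ∀ y' (h : y' ∈ A) (h' : y' ∈ V₁), germ F A y' h t = g ⟨y', h'⟩ := fun y => by
      obtain ⟨A, hA, t, N, hN, ht⟩ := (show (cond U₀ F).ok W from c).2 (C y).e.1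
        (show y.1 ∈ W from y.2.2)
      let σ : V₁ → Pts f (SimplexCategory.mk 0) := fun y' =>
        ⟨(fun _ => s ⟨y'.1, y'.2.1⟩, y'.1), fun _ => hfs _⟩
      have hσ : Continuous σ := ((continuous_pi fun _ => hs.comp
        (continuous_subtype_val.subtype_mk _)).prodMk continuous_subtype_val).subtype_mk _
      let A' : Opens X := ⟨Subtype.val '' (σ ⁻¹' N.carrier), V₁.isOpen.isOpenMap_subtype_val _ (N.isOpen.preimage hσ)⟩
      refine ⟨A' ⊓ A, fun y' hy' => by obtain ⟨w, -, rfl⟩ := hy'.1; exact w.2,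
        F.obj.map (homOfLE inf_le_right).op t, ⟨⟨y, hN, rfl⟩, hA⟩, fun y' h h' => ?_⟩
      obtain ⟨w, hw, rfl⟩ := h.1
      refine (germ_rs F inf_le_right w.1 h t).trans ?_
      exact (ht (σ w) hw w.2.2 h.2).symm
    choose A hAle t hA ht using hloc
    obtain ⟨T, hT, -⟩ := TopCat.Sheaf.existsUnique_gluing' (F : TopCat.Sheaf AddCommGrpCat X) A V₁
      (fun y => homOfLE (hAle y)) (fun y hy => Opens.mem_iSup.mpr ⟨⟨y, hy⟩, hA _⟩) t (fun a b =>
        TopCat.Presheaf.section_ext (F : TopCat.Sheaf AddCommGrpCat X) _ _ _ fun y hy =>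
          (germ_rs F (inf_le_left : A a ⊓ A b ≤ A a) y hy (t a)).trans ((ht a y hy.1 (hAle a hy.1)).trans
            ((ht b y hy.2 (hAle b hy.2)).symm.trans (germ_rs F (inf_le_right : A a ⊓ A b ≤ A b) y hy (t b)).symm)))
    refine ⟨V₁, inf_le_right, T, ⟨hxV, hx⟩, val_ext (W := V₁) fun y hy z => ?_⟩
    have h1 : germ F V₁ y hy T = g ⟨y, hy⟩ := by
      refine (germ_rs F (hAle ⟨y, hy⟩) y (hA ⟨y, hy⟩) T).symm.trans ?_
      exact (congrArg (germ F (A ⟨y, hy⟩) y (hA ⟨y, hy⟩)) (hT ⟨y, hy⟩)).trans (ht _ y (hA ⟨y, hy⟩) hy)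
    exact h1.trans ((C ⟨y, hy⟩).val_eq F hy.2 c hc z).symm
  · intro n W x hx c hc
    obtain ⟨V, hxV, s, hs, hfs⟩ := exists_section_near f hf hsurj x
    let Un := (K f).obj (op (SimplexCategory.mk n))
    let Un' := (K f).obj (op (SimplexCategory.mk (n + 1)))
    let V₁ : Opens X := V ⊓ W
    let C : ∀ y : V₁, Cone (K f) y.1 := fun y => cone f y.1 (s ⟨y.1, y.2.1⟩) (hfs _)
    let b₀ : ∀ y : V₁, Fib Un y.1 → Stk F y.1 := fun y z => valHom Un' F y.1 y.2.2 ((C y).h n z) c
    have hb : IsLoc Un F V₁ b₀ := by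
      intro z hz
      let P : Set (Pts f (SimplexCategory.mk n)) := {w | w.1.2 ∈ V₁}
      have hP : IsOpen P := V₁.isOpen.preimage (continuous_snd.comp continuous_subtype_val)
      let σ : P → Pts f (SimplexCategory.mk (n + 1)) := fun w =>
        ((C ⟨w.1.1.2, w.2⟩).h n ⟨w.1, rfl⟩).1
      have hσ : Continuous σ := by
        refine Continuous.subtype_mk ((continuous_pi fun k => ?_).prodMk
          (continuous_snd.comp (continuous_subtype_val.comp continuous_subtype_val))) _
        induction k using Fin.cases with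
        | zero =>
          exact hs.comp ((continuous_snd.comp (continuous_subtype_val.comp continuous_subtype_val)).subtype_mk _)
        | succ k =>
          exact (continuous_apply k).comp (continuous_fst.comp (continuous_subtype_val.comp continuous_subtype_val))
      obtain ⟨A, hA, t, N, hN, ht⟩ := (show (cond Un' F).ok W from c).2 (σ ⟨z, hz⟩) (show Un.hom z ∈ W from hz.2)
      refine ⟨A, hA, t, ⟨Subtype.val '' (σ ⁻¹' N.carrier), hP.isOpenMap_subtype_val _ (N.isOpen.preimage hσ)⟩,
        ⟨⟨z, hz⟩, hN, rfl⟩, ?_⟩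
      rintro _ ⟨w, hw, rfl⟩ hz' hA'
      exact ht (σ w) hw hz'.2 hA'
    refine ⟨V₁, inf_le_right, ⟨b₀, hb⟩, ⟨hxV, hx⟩, val_ext (W := V₁) fun y hy z => ?_⟩
    exact (C ⟨y, hy⟩).val_d_eq F n (W := W) (V := V₁) hy.2 hy c hc _ (fun _ => rfl) z

section Derived

theorem isSAcyclic_of_isFlasque {T : TopCat.{u}} [HasDerivedCategory.{w} (QCohLib.AbSh T)] (H : QCohLib.AbSh T)
    (hH : TopCat.Sheaf.IsFlasque (H : TopCat.Sheaf AddCommGrpCat T)) : SpSeqLib.IsSAcyclic (secTop T) H := by
  rw [SpSeqLib.isSAcyclic_iff]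
  intro k hk
  obtain ⟨m, rfl⟩ := Nat.exists_eq_succ_of_ne_zero hk.ne'
  obtain ⟨e⟩ := nonempty_rightDerived_secTop T H (m + 1)
  haveI := hH
  haveI := QCohLib.subsingleton_of_isFlasque m H ⊤
  exact IsZero.of_iso (@AddCommGrpCat.isZero_of_subsingleton _ ‹_›) e

variable [HasDerivedCategory.{w} (QCohLib.AbSh X)]

/-- The global sections of `π_* π^*` are the global sections of `π^*`. -/
noncomputable def secIso (U : Over X) : pp U ⋙ secTop X ≅ CohTop.pull U.hom ⋙ secTop U.left :=
  Functor.isoWhiskerRight (ppIso U).symm (secTop X)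

include hf in
theorem nonempty_term_iso (F : QCohLib.AbSh X) (R : InjectiveResolution F) (p q : ℕ)
    [HasDerivedCategory.{w'} (QCohLib.AbSh ((K f).obj (op (SimplexCategory.mk p))).left)] :
    Nonempty (((SpSeqLib.phi (secTop X)).shift (q : ℤ)).obj (SpSeqLib.qPlus
        (((pp ((K f).obj (op (SimplexCategory.mk p)))).mapHomologicalComplex (ComplexShape.up ℤ)).obj R.cochainComplex)
        ⟨0, inferInstance⟩) ≅
      AddCommGrpCat.of (CohTop.H ((CohTop.pull (π f (SimplexCategory.mk p))).obj F) q)) := by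
  let U := (K f).obj (op (SimplexCategory.mk p))
  let G := R.cochainComplex
  haveI : HasDerivedCategory.{w'} (QCohLib.AbSh U.left) :=
    ‹HasDerivedCategory.{w'} (QCohLib.AbSh ((K f).obj (op (SimplexCategory.mk p))).left)›
  haveI hflG : ∀ n, TopCat.Sheaf.IsFlasque (G.X n : TopCat.Sheaf AddCommGrpCat X) := fun n =>
    QCohLib.isFlasque_of_injective (G.X n)
  have hJ : ∀ n, TopCat.Sheaf.IsFlasque ((CohTop.pull U.hom).obj (G.X n) : TopCat.Sheaf AddCommGrpCat U.left) :=
    fun n => FlasqueLocal.isFlasque_pull U.hom (isLocalHomeomorph_π f hf _) (G.X n)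
  obtain ⟨e1⟩ := SpSeqLib.nonempty_phiShiftQPlus_iso (secTop X) (((pp U).mapHomologicalComplex (ComplexShape.up ℤ)).obj G)
    0 (fun n => isSAcyclic_of_isFlasque _ (FlasqueLocal.isFlasque_of_iso ((ppIso U).app (G.X n))
      (by haveI := hJ n; exact QCohLib.isFlasque_pf _))) (q : ℤ)
  let J := ((CohTop.pull U.hom).mapHomologicalComplex (ComplexShape.up ℤ)).obj G
  obtain ⟨e2⟩ := SpSeqLib.nonempty_phiShiftQPlus_iso (secTop U.left) J 0 (fun n => isSAcyclic_of_isFlasque _ (hJ n)) (q : ℤ)
  let eC : ((secTop X).mapHomologicalComplex (ComplexShape.up ℤ)).obj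
      (((pp U).mapHomologicalComplex (ComplexShape.up ℤ)).obj G) ≅
      ((secTop U.left).mapHomologicalComplex (ComplexShape.up ℤ)).obj J :=
    HomologicalComplex.Hom.isoOfComponents (fun n => (secIso U).app (G.X n))
      (fun n m _ => ((secIso U).hom.naturality (G.d n m)).symm)
  let a : (CochainComplex.singleFunctor (QCohLib.AbSh U.left) 0).obj ((CohTop.pull U.hom).obj F) ⟶ J :=
    ((HomologicalComplex.singleMapHomologicalComplex (CohTop.pull U.hom) (ComplexShape.up ℤ) 0).app F).inv ≫
      ((CohTop.pull U.hom).mapHomologicalComplex (ComplexShape.up ℤ)).map R.ι'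
  haveI : QuasiIso a := by dsimp only [a]; infer_instance
  obtain ⟨e3⟩ := SpSeqLib.nonempty_phiSingle_iso (secTop U.left) ((CohTop.pull U.hom).obj F) q
  obtain ⟨e4⟩ := nonempty_rightDerived_secTop U.left ((CohTop.pull U.hom).obj F) q
  let e5 : (DerivedCategory.Plus.singleFunctor (QCohLib.AbSh U.left) 0).obj ((CohTop.pull U.hom).obj F) ≅
      SpSeqLib.qPlus ((CochainComplex.singleFunctor (QCohLib.AbSh U.left) 0).obj ((CohTop.pull U.hom).obj F))
        ⟨0, inferInstance⟩ :=
    DerivedCategory.Plus.ι.preimageIso ((DerivedCategory.singleFunctorIsoCompQ (QCohLib.AbSh U.left) 0).app _)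
  exact ⟨e1 ≪≫ HomologicalComplex.homologyMapIso eC (q : ℤ) ≪≫ e2.symm ≪≫
    ((SpSeqLib.phi (secTop U.left)).shift (q : ℤ)).mapIso
      ((SpSeqLib.qPlusIso (hL := ⟨0, inferInstance⟩) a).symm ≪≫ e5.symm) ≪≫ e3 ≪≫ e4 ≪≫
    AddEquiv.toAddCommGrpIso (X := AddCommGrpCat.of _) (Y := AddCommGrpCat.of _)
      (QCohLib.hEquiv ((CohTop.pull U.hom).obj F) q).symm⟩

end Derived

/-- Comparison with the wide pullback. -/
theorem nonempty_H_wide_iso (F : QCohLib.AbSh X) (p q : ℕ) :
    Nonempty (AddCommGrpCat.of (CohTop.H ((CohTop.pull (π f (SimplexCategory.mk p))).obj F) q) ≅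
      AddCommGrpCat.of (CohTop.H ((CohTop.pull (WidePullback.base (fun _ : Fin (p + 1) => f) :
        widePullback X (fun _ : Fin (p + 1) => Y) (fun _ => f) ⟶ X)).obj F) q)) := by
  let a := SimplexCategory.mk p
  let φ : ((K f).obj (op a)).left ⟶ widePullback X (fun _ : Fin (p + 1) => Y) (fun _ => f) :=
    WidePullback.lift (π f a) (fun i => TopCat.ofHom ⟨fun z : Pts f a => z.1.1 i,
      (continuous_apply i).comp (continuous_fst.comp continuous_subtype_val)⟩) fun i => by
      ext z
      exact (show Pts f a from z).2 i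
  let ψ : widePullback X (fun _ : Fin (p + 1) => Y) (fun _ => f) ⟶ ((K f).obj (op a)).left :=
    TopCat.ofHom ⟨fun w => (⟨(fun i => WidePullback.π (fun _ : Fin (p + 1) => f) i w,
      WidePullback.base (fun _ : Fin (p + 1) => f) w),
      fun i => ConcreteCategory.congr_hom (WidePullback.π_arrow (fun _ : Fin (p + 1) => f) i) w⟩ : Pts f a),
      ((continuous_pi fun i => (WidePullback.π (fun _ : Fin (p + 1) => f) i).hom.continuous).prodMk
        (WidePullback.base (fun _ : Fin (p + 1) => f)).hom.continuous).subtype_mk _⟩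
  have h1 : φ ≫ ψ = 𝟙 _ := by
    ext z
    refine Subtype.ext (Prod.ext (funext fun i => ?_) ?_)
    · exact ConcreteCategory.congr_hom (WidePullback.lift_π (fun _ : Fin (p + 1) => f) (π f a) _ _ i) z
    · exact ConcreteCategory.congr_hom (WidePullback.lift_base (fun _ : Fin (p + 1) => f) (π f a) _ _) z
  have h2 : ψ ≫ φ = 𝟙 _ := by
    refine WidePullback.hom_ext _ _ _ (fun i => ?_) ?_
    · rw [Category.assoc, WidePullback.lift_π, Category.id_comp]
      rfl
    · rw [Category.assoc, WidePullback.lift_base, Category.id_comp]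
      rfl
  let e : widePullback X (fun _ : Fin (p + 1) => Y) (fun _ => f) ≅ ((K f).obj (op a)).left := ⟨ψ, φ, h2, h1⟩
  have hψ : IsOpenEmbedding ψ := (TopCat.homeoOfIso e).isOpenEmbedding
  obtain ⟨a'⟩ := CompCoh.nonempty_H_pull_openEmbedding ψ hψ q ((CohTop.pull (π f a)).obj F) ⊤
    (TopCat.homeoOfIso e).surjective.range_eq.symm
  obtain ⟨c⟩ := ClosedCover.nonempty_pull_comp ψ (π f a) (WidePullback.base (fun _ : Fin (p + 1) => f)) rfl
  exact ⟨AddEquiv.toAddCommGrpIso ((QCohLib.hEquiv _ q).trans (a'.trans (((QCohLib.hEquiv _ q).trans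
    (extCongrRight (c.app F) q)).trans (QCohLib.hEquiv _ q).symm)))⟩

end CohTopLib.LocalHomeoDesc
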