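import Groth.Agent.CohTopLib.GodFibre
import Groth.Agent.CohTopLib.LocalHomeoDesc
import Groth.Agent.CohTopLib.DescSS
import Mathlib.Topology.Maps.Proper.Basic
import Mathlib.Topology.LocalAtTarget

/-!
# Descent along proper surjections with separated fibres
-/

set_option autoImplicit false
set_option linter.unusedSectionVars false
set_option linter.style.haveILetI false
set_option backward.isDefEq.respectTransparency false
set_option backward.isDefEq.respectTransparency.types false

universe w w' u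
open CategoryTheory CategoryTheory.Limits TopologicalSpace Opposite Topology Simplicial

namespace CohTopLib.ProperDesc

open GermFam FibreCoh LocalHomeoDesc

variable {Y X : TopCat.{u}} (f : Y ⟶ X)

/-- A proper map stays proper over any part of the base. -/
theorem isProperMap_restrictPreimage {A B : Type*} [TopologicalSpace A] [TopologicalSpace B] {φ : A → B}
    (h : IsProperMap φ) (T : Set B) : IsProperMap (T.restrictPreimage φ) := by
  rw [isProperMap_iff_isClosedMap_and_compact_fibers]
  refine ⟨h.continuous.restrictPreimage, h.isClosedMap.restrictPreimage T, fun t => ?_⟩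
  rw [IsEmbedding.subtypeVal.isCompact_iff]
  have e : (Subtype.val '' ((T.restrictPreimage φ) ⁻¹' {t}) : Set A) = φ ⁻¹' {t.1} := by
    ext a
    constructor
    · rintro ⟨a, ha, rfl⟩
      exact congrArg Subtype.val (ha : T.restrictPreimage φ a = t)
    · intro ha
      exact ⟨⟨a, show φ a ∈ T from (ha : φ a = t.1).symm ▸ t.2⟩, Subtype.ext ha, rfl⟩
  rw [e]
  exact h.isCompact_preimage isCompact_singleton

theorem isProperMap_π (hf : IsProperMap f) (a : SimplexCategory) : IsProperMap (π f a) := by
  let Δ : Set (Fin (a.len + 1) → X) := Set.range fun x _ => x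
  let φ : (Fin (a.len + 1) → Y) → (Fin (a.len + 1) → X) := fun v i => f (v i)
  let e : Pts f a ≃ₜ (φ ⁻¹' Δ : Set (Fin (a.len + 1) → Y)) :=
    { toFun := fun z => ⟨z.1.1, z.1.2, funext fun i => (z.2 i).symm⟩
      invFun := fun v => ⟨(v.1, f (v.1 0)), fun i => by
        obtain ⟨x, hx⟩ := v.2
        exact (congrFun hx i).symm.trans (congrFun hx 0)⟩
      left_inv := fun z => Subtype.ext (Prod.ext rfl (z.2 0))
      right_inv := fun v => rfl
      continuous_toFun := (continuous_fst.comp continuous_subtype_val).subtype_mk _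
      continuous_invFun := (continuous_subtype_val.prodMk
        (f.hom.continuous.comp ((continuous_apply 0).comp continuous_subtype_val))).subtype_mk _ }
  let d : Δ ≃ₜ X :=
    { toFun := fun t => t.1 0
      invFun := fun x => ⟨fun _ => x, x, rfl⟩
      left_inv := fun t => by
        obtain ⟨_, x, rfl⟩ := t
        rfl
      right_inv := fun x => rfl
      continuous_toFun := (continuous_apply 0).comp continuous_subtype_val
      continuous_invFun := (continuous_pi fun _ => continuous_id).subtype_mk _ }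
  have h : IsProperMap (d ∘ Δ.restrictPreimage φ ∘ e) :=
    d.isProperMap.comp ((isProperMap_restrictPreimage (IsProperMap.pi_map fun _ => hf) Δ).comp e.isProperMap)
  have he : (d ∘ Δ.restrictPreimage φ ∘ e) = fun z : Pts f a => z.1.2 := funext fun z => z.2 0
  exact (he ▸ h : IsProperMap fun z : Pts f a => z.1.2)

/-- The hypothesis on the fibres. -/
abbrev SepFib : Prop :=
  ∀ v v' : Y, f v = f v' → v ≠ v' → ∃ U V : Set Y, IsOpen U ∧ IsOpen V ∧ v ∈ U ∧ v' ∈ V ∧ Disjoint U V

theorem sep_π (hs : SepFib f) (a : SimplexCategory) (y : X) : Sep ((π f a) ⁻¹' {y}) := by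
  intro z hz z' hz' hne
  change Pts f a at z z'
  have hzz : z.1.2 = z'.1.2 := (hz : z.1.2 = y).trans (hz' : z'.1.2 = y).symm
  obtain ⟨i, hi⟩ : ∃ i, z.1.1 i ≠ z'.1.1 i := by
    by_contra h
    push Not at h
    exact hne (Subtype.ext (Prod.ext (funext h) hzz))
  obtain ⟨U, V, hU, hV, hzU, hzV, hUV⟩ := hs _ _ ((z.2 i).trans (hzz.trans (z'.2 i).symm)) hi
  have hc : Continuous fun w : Pts f a => w.1.1 i :=
    (continuous_apply i).comp (continuous_fst.comp continuous_subtype_val)
  exact ⟨(fun w : Pts f a => w.1.1 i) ⁻¹' U, (fun w : Pts f a => w.1.1 i) ⁻¹' V, hU.preimage hc, hV.preimage hc,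
    hzU, hzV, hUV.preimage _⟩

variable (y : X)

/-- The fibres of the nerve. -/
def L : SimplicialObject (Over X) where
  obj a := Over.mk (TopCat.ofHom ⟨fun z : ((π f a.unop) ⁻¹' {y} : Set _) => π f a.unop z.1,
    (π f a.unop).hom.continuous.comp continuous_subtype_val⟩ :
      TopCat.of ((π f a.unop) ⁻¹' {y} : Set _) ⟶ X)
  map {a b} g := Over.homMk (TopCat.ofHom ⟨fun z => ⟨pullPt f g.unop z.1, z.2⟩,
    ((continuous_pullPt f g.unop).comp continuous_subtype_val).subtype_mk _⟩) rfl
  map_id _ := rfl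
  map_comp _ _ := rfl

/-- The inclusion of the fibres. -/
def incl : L f y ⟶ K f where
  app a := Over.homMk (TopCat.ofHom ⟨Subtype.val, continuous_subtype_val⟩) rfl
  naturality _ _ _ := rfl

/-- The point. -/
def pt : Over X := Over.mk (TopCat.ofHom ⟨fun _ : PUnit.{u + 1} => y, continuous_const⟩ : TopCat.of PUnit.{u + 1} ⟶ X)

/-- The fibres contract onto the point. -/
noncomputable def ctr (v : Y) (hv : f v = y) : GodBi.Ctr (L f y) (pt y) where
  a := Over.homMk (TopCat.ofHom ⟨fun _ => PUnit.unit, continuous_const⟩) (by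
    ext z
    exact (show _ = y from z.2).symm)
  s := Over.homMk (TopCat.ofHom ⟨fun _ => (cone f y v hv).e, continuous_const⟩) (by
    ext z
    rfl)
  h n := Over.homMk (TopCat.ofHom ⟨(cone f y v hv).h n, by
    refine Continuous.subtype_mk (Continuous.subtype_mk (Continuous.prodMk (continuous_pi fun i => ?_) continuous_const) _) _
    induction i using Fin.cases with
    | zero => exact continuous_const
    | succ j =>
      exact (continuous_apply j).comp
        (continuous_fst.comp (continuous_subtype_val.comp continuous_subtype_val))⟩) (by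
    ext z
    exact (show _ = y from z.2).symm)
  s_a := rfl
  a_δ := rfl
  h_δ_zero n := by
    ext z
    exact (cone f y v hv).face_zero n z
  h_δ_one := by
    ext z
    exact (cone f y v hv).face_one z
  h_δ_succ n i := by
    ext z
    exact (cone f y v hv).face_succ n i z

variable (F : QCohLib.AbSh X)

theorem local_fib (hf : IsProperMap f) (hs : SepFib f) (hsurj : Function.Surjective f) :
    GodBi.Local F (K f) y := by
  obtain ⟨v, hv⟩ := hsurj y
  refine ⟨L f y, pt y, ctr f y v hv, incl f y, fun n k => ?_, fun k => ?_⟩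
  · have hp := isProperMap_π f hf (SimplexCategory.mk n)
    haveI : CompactSpace ((L f y).obj (op (SimplexCategory.mk n))).left :=
      isCompact_iff_compactSpace.mp (hp.isCompact_preimage (isCompact_singleton (x := y)))
    refine GodFibre.isIso_map_homologyMap_ΦZ F ((incl f y).app (op (SimplexCategory.mk n))) (fun z => z.2)
      hp.isClosedMap (fun z hz => ⟨⟨z, hz⟩, rfl⟩) IsEmbedding.subtypeVal ?_ k
    change Sep (Set.range (Subtype.val : ((π f (SimplexCategory.mk n)) ⁻¹' {y} : Set _) → _))
    rw [Subtype.range_coe]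
    exact sep_π f hs _ y
  · exact GodFibre.isIso_map_homologyMap_ΦZaug F (P := pt y) PUnit.unit (fun ⟨⟩ => rfl) rfl k

theorem quasiIso_tot (hf : IsProperMap f) (hs : SepFib f) (hsurj : Function.Surjective f) :
    QuasiIso (SpSeqLib.BiTotal.tot.map (GodBi.ε F (K f))) :=
  GodBi.quasiIso_tot_ε F fun y => local_fib f y F hf hs hsurj

section Term

open SpSeqLib

variable [HasDerivedCategory.{w} (QCohLib.AbSh X)]

theorem isFlasque_ΦZ (U : (Over X)ᵒᵖ) (n : ℤ) :
    TopCat.Sheaf.IsFlasque (((GodBi.ΦZ F).obj U).X n : TopCat.Sheaf AddCommGrpCat X) := by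
  cases n with
  | ofNat n =>
    haveI := GodSys.isFlasque_res F U.unop n
    exact FlasqueLocal.isFlasque_of_iso
      (((GodSys.Φ F).obj U).extendXIso ComplexShape.embeddingUpNat (i := n) (i' := Int.ofNat n) rfl).symm
      (QCohLib.isFlasque_pf (f := U.unop.hom) ((GodSys.res F U.unop).X n))
  | negSucc m => exact FlasqueRes.isFlasque_of_isZero _ (GodBi.isZero_ΦZ F U _ (Int.negSucc_lt_zero m))

/-- The hypercohomology of a column. -/
theorem nonempty_term_iso (U : Over X) (q : ℕ) [HasDerivedCategory.{w'} (QCohLib.AbSh U.left)]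
    (hp : CochainComplex.plus (QCohLib.AbSh X) ((GodBi.ΦZ F).obj (op U))) :
    Nonempty (((phi (secTop X)).shift (q : ℤ)).obj (qPlus ((GodBi.ΦZ F).obj (op U)) hp) ≅
      AddCommGrpCat.of (CohTop.H ((CohTop.pull U.hom).obj F) q)) := by
  let J := (GodSys.res F U).extend ComplexShape.embeddingUpNat
  have hJ : ∀ n : ℤ, TopCat.Sheaf.IsFlasque (J.X n : TopCat.Sheaf AddCommGrpCat U.left) := fun n => by
    cases n with
    | ofNat n =>
      exact FlasqueLocal.isFlasque_of_iso
        ((GodSys.res F U).extendXIso ComplexShape.embeddingUpNat (i := n) (i' := Int.ofNat n) rfl).symm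
        (GodSys.isFlasque_res F U n)
    | negSucc m =>
      exact FlasqueRes.isFlasque_of_isZero _ (HomologicalComplex.isZero_extend_X _ _ _ fun k hk => by
        change (k : ℤ) = Int.negSucc m at hk
        omega)
  haveI : ((GodBi.ΦZ F).obj (op U)).IsStrictlyGE 0 := by
    rw [CochainComplex.isStrictlyGE_iff]
    exact fun k hk => GodBi.isZero_ΦZ F _ k hk
  obtain ⟨e1⟩ := nonempty_phiShiftQPlus_iso (secTop X) ((GodBi.ΦZ F).obj (op U)) 0
    (fun n => isSAcyclic_of_isFlasque _ (isFlasque_ΦZ F (op U) n)) (q : ℤ)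
  obtain ⟨e2⟩ := nonempty_phiShiftQPlus_iso (secTop U.left) J 0 (fun n => isSAcyclic_of_isFlasque _ (hJ n)) (q : ℤ)
  let eN : ((secTop X).mapHomologicalComplex (ComplexShape.up ℕ)).obj ((GodSys.Φ F).obj (op U)) ≅
      ((secTop U.left).mapHomologicalComplex (ComplexShape.up ℕ)).obj (GodSys.res F U) :=
    HomologicalComplex.Hom.isoOfComponents (fun n => Iso.refl _) fun i j hij => by
      obtain rfl : i + 1 = j := hij
      refine (Category.id_comp _).trans (Eq.trans ?_ (Category.comp_id _).symm)
      exact (congrArg (secTop U.left).map (GodSys.res_d F U i)).trans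
        (congrArg (secTop X).map (GodFibre.Φ_d F (op U) i)).symm
  let eC : ((secTop X).mapHomologicalComplex (ComplexShape.up ℤ)).obj ((GodBi.ΦZ F).obj (op U)) ≅
      ((secTop U.left).mapHomologicalComplex (ComplexShape.up ℤ)).obj J :=
    MapExt.mapExtIso (secTop X) ((GodSys.Φ F).obj (op U)) ≪≫
      (ComplexShape.embeddingUpNat.extendFunctor AddCommGrpCat.{u}).mapIso eN ≪≫
      (MapExt.mapExtIso (secTop U.left) (GodSys.res F U)).symm
  let a : (CochainComplex.singleFunctor (QCohLib.AbSh U.left) 0).obj (GodSys.famObj F U) ⟶ J :=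
    (HomologicalComplex.extendSingleIso ComplexShape.embeddingUpNat (GodSys.famObj F U) (i := 0) (i' := (0 : ℤ)) rfl).inv ≫
      HomologicalComplex.extendMap (GodSys.resAug F U) ComplexShape.embeddingUpNat
  haveI : QuasiIso a := by
    haveI := GodSys.quasiIso_resAug F U
    dsimp only [a]
    infer_instance
  haveI := GodSys.isIso_ofPull F U
  obtain ⟨e3⟩ := nonempty_phiSingle_iso (secTop U.left) (GodSys.famObj F U) q
  obtain ⟨e4⟩ := nonempty_rightDerived_secTop U.left ((CohTop.pull U.hom).obj F) q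
  let e5 : (DerivedCategory.Plus.singleFunctor (QCohLib.AbSh U.left) 0).obj (GodSys.famObj F U) ≅
      qPlus ((CochainComplex.singleFunctor (QCohLib.AbSh U.left) 0).obj (GodSys.famObj F U)) ⟨0, inferInstance⟩ :=
    DerivedCategory.Plus.ι.preimageIso ((DerivedCategory.singleFunctorIsoCompQ (QCohLib.AbSh U.left) 0).app _)
  exact ⟨e1 ≪≫ HomologicalComplex.homologyMapIso eC (q : ℤ) ≪≫ e2.symm ≪≫
    ((phi (secTop U.left)).shift (q : ℤ)).mapIso
      ((qPlusIso (hL := ⟨0, inferInstance⟩) a).symm ≪≫ e5.symm) ≪≫ e3 ≪≫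
    ((secTop U.left).rightDerived q).mapIso (asIso (GodSys.ofPull F U)).symm ≪≫ e4 ≪≫
    AddEquiv.toAddCommGrpIso (X := AddCommGrpCat.of _) (Y := AddCommGrpCat.of _)
      (QCohLib.hEquiv ((CohTop.pull U.hom).obj F) q).symm⟩

/-- The descent spectral sequence. -/
theorem exists_descent (hf : IsProperMap f) (hs : SepFib f) (hsurj : Function.Surjective f) :
    ∃ (E : CohomologicalSpectralSequence AddCommGrpCat.{u} 1) (ab : SpSeq.Abutment E (DescSS.abut F)),
      (∀ n, ab.IsFinite n) ∧ SpSeq.IsBounded E ∧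
      (∀ p q : ℕ, Nonempty ((E.page 1 le_rfl).X ((p : ℤ), (q : ℤ)) ≅
        AddCommGrpCat.of (CohTop.H ((CohTop.pull (π f (SimplexCategory.mk p))).obj F) q))) ∧
      ∀ p q : ℤ, p < 0 ∨ q < 0 → IsZero ((E.page 1 le_rfl).X (p, q)) := by
  haveI := quasiIso_tot f F hf hs hsurj
  let G := (CochainComplex.singleFunctor (QCohLib.AbSh X) 0).obj F
  obtain ⟨eZ⟩ := BiTotal.nonempty_tot_single_iso 0 G
  let eG := eZ ≪≫ (shiftFunctorZero' (CochainComplex (QCohLib.AbSh X) ℤ) (-0) neg_zero).app G
  let i : G ⟶ BiTotal.tot.obj (GodBi.M F (K f)) := eG.inv ≫ BiTotal.tot.map (GodBi.ε F (K f))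
  haveI : QuasiIso i := by dsimp only [i]; infer_instance
  obtain ⟨E, ab, h1, h2, h3, h4⟩ := BiSS.exists_spectralSequence_of_tot (secTop X) (GodBi.M F (K f))
    (GodBi.isZero_M F (K f)) F i (DescSS.abut F) (DescSS.nonempty_abut_iso F) (DescSS.isZero_abut F)
  refine ⟨E, ab, h1, h2, fun p q => ?_, h4⟩
  obtain ⟨hp, h⟩ := h3 p
  obtain ⟨e⟩ := h q
  let U := (K f).obj (op (SimplexCategory.mk p))
  haveI := HasDerivedCategory.standard (QCohLib.AbSh U.left)
  haveI : ((GodBi.ΦZ F).obj (op U)).IsStrictlyGE 0 := by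
    rw [CochainComplex.isStrictlyGE_iff]
    exact fun k hk => GodBi.isZero_ΦZ F _ k hk
  obtain ⟨e'⟩ := nonempty_term_iso F U q ⟨0, inferInstance⟩
  exact ⟨e ≪≫ ((phi (secTop X)).shift (q : ℤ)).mapIso
    (qPlusIso (hK := hp) (hL := ⟨0, inferInstance⟩) (GodBi.colIso F (K f) p).hom) ≪≫ e'⟩

end Term

end CohTopLib.ProperDesc
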