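import Groth.Agent.CohTopLib.Basic
import Groth.Agent.CechLib.Cartan
import Mathlib.Algebra.Category.Grp.FilteredColimits
import Mathlib.CategoryTheory.Limits.ConcreteCategory.Basic
import Mathlib.Topology.NoetherianSpace
import Mathlib.Topology.KrullDimension
import Mathlib.Topology.Sheaves.SheafCondition.UniqueGluing

/-!
# Grothendieck's vanishing theorem

On a Noetherian space `X` of dimension `d`, `H^p(U, F) = 0` for `p > d`.  The proof is by
induction on the dimension of the "support" of `F`, using the flasque sheaf of finitely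
supported families of germs at irreducible closed sets of a given height; no commutation with
colimits is needed.
-/

universe u
open CategoryTheory CategoryTheory.Limits TopologicalSpace Opposite CategoryTheory.Abelian

namespace CohTopLib

open QCohLib

variable {X : TopCat.{u}}

/-- An open meets an irreducible closed set. -/
def Meets (U : Opens X) (Z : IrreducibleCloseds X) : Prop := ((U : Set X) ∩ (Z : Set X)).Nonempty

theorem Meets.mono {U V : Opens X} {Z : IrreducibleCloseds X} (h : Meets V Z) (hVU : V ≤ U) :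
    Meets U Z :=
  h.imp fun _ hx => ⟨hVU hx.1, hx.2⟩

theorem Meets.of_le {U : Opens X} {Z Z' : IrreducibleCloseds X} (h : Meets U Z) (hZ : Z ≤ Z') :
    Meets U Z' :=
  h.imp fun _ hx => ⟨hx.1, hZ hx.2⟩

theorem Meets.inf {U V : Opens X} {Z : IrreducibleCloseds X} (hU : Meets U Z) (hV : Meets V Z) :
    Meets (U ⊓ V) Z := by
  obtain ⟨x, hx, hxU, hxV⟩ := Z.isIrreducible.2 U V U.isOpen V.isOpen
    (hU.imp fun _ h => ⟨h.2, h.1⟩) (hV.imp fun _ h => ⟨h.2, h.1⟩)
  exact ⟨x, ⟨hxU, hxV⟩, hx⟩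

/-- Opens meeting `Z`. -/
abbrev OM (Z : IrreducibleCloseds X) := {U : Opens X // Meets U Z}

instance (Z : IrreducibleCloseds X) : IsCofiltered (OM Z) :=
  haveI : Nonempty (OM Z) :=
    ⟨⟨⊤, Z.isIrreducible.1.imp fun _ hx => ⟨trivial, hx⟩⟩⟩
  haveI : IsCofilteredOrEmpty (OM Z) :=
    ⟨fun U V => ⟨⟨U.1 ⊓ V.1, U.2.inf V.2⟩,
      homOfLE (show U.1 ⊓ V.1 ≤ U.1 from inf_le_left), homOfLE (show U.1 ⊓ V.1 ≤ V.1 from inf_le_right), trivial⟩,
      fun U V _ _ => ⟨U, 𝟙 U, Subsingleton.elim _ _⟩⟩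
  ⟨⟩

/-- The inclusion of the opens meeting `Z`. -/
abbrev omIncl (Z : IrreducibleCloseds X) : OM Z ⥤ Opens X := Subtype.mono_coe _ |>.functor

variable (F : AbSh X)

/-- The germs of `F` at `Z`. -/
noncomputable def germGrp (Z : IrreducibleCloseds X) : AddCommGrpCat.{u} :=
  colimit ((omIncl Z).op ⋙ F.obj)

/-- The germ at `Z` of a section over an open meeting `Z`. -/
noncomputable def germZ (Z : IrreducibleCloseds X) (U : Opens X) (hU : Meets U Z) :
    F.obj.obj (op U) →+ germGrp F Z :=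
  (colimit.ι ((omIncl Z).op ⋙ F.obj) (op ⟨U, hU⟩)).hom

theorem germZ_res (Z : IrreducibleCloseds X) {U V : Opens X} (i : V ⟶ U) (hU : Meets U Z)
    (hV : Meets V Z) (s : F.obj.obj (op U)) :
    germZ F Z V hV (F.obj.map i.op s) = germZ F Z U hU s :=
  congr($(colimit.w ((omIncl Z).op ⋙ F.obj)
    (homOfLE (show (⟨V, hV⟩ : OM Z) ≤ ⟨U, hU⟩ from leOfHom i)).op) s)

theorem exists_germZ_eq (Z : IrreducibleCloseds X) (a : germGrp F Z) :
    ∃ (U : Opens X) (hU : Meets U Z) (s : F.obj.obj (op U)), germZ F Z U hU s = a := by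
  obtain ⟨j, s, h⟩ := Concrete.colimit_exists_rep ((omIncl Z).op ⋙ F.obj) a
  exact ⟨j.unop.1, j.unop.2, s, h⟩

theorem exists_res_of_germZ_eq_zero (Z : IrreducibleCloseds X) {U : Opens X} (hU : Meets U Z)
    (s : F.obj.obj (op U)) (h : germZ F Z U hU s = 0) :
    ∃ (V : Opens X) (i : V ⟶ U), Meets V Z ∧ F.obj.map i.op s = 0 := by
  have h' : colimit.ι ((omIncl Z).op ⋙ F.obj) (op ⟨U, hU⟩) s =
      colimit.ι ((omIncl Z).op ⋙ F.obj) (op ⟨U, hU⟩) 0 := h.trans (map_zero _).symm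
  obtain ⟨k, f, g, hk⟩ := Concrete.colimit_exists_of_rep_eq ((omIncl Z).op ⋙ F.obj) _ _ h'
  refine ⟨k.unop.1, homOfLE (leOfHom f.unop), k.unop.2, ?_⟩
  exact hk.trans (map_zero _)

/-- `F` has dimension `< k`: sections die generically on every irreducible closed set of
height `≥ k`. -/
def DimLT (k : ℕ) : Prop :=
  ∀ Z : IrreducibleCloseds X, (k : ℕ∞) ≤ Order.height Z → ∀ U : Opens X, Meets U Z →
    ∀ s : F.obj.obj (op U), ∃ (V : Opens X) (i : V ⟶ U), Meets V Z ∧ F.obj.map i.op s = 0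

variable {F}

theorem DimLT.germZ_eq_zero {k : ℕ} (h : DimLT F k) {Z : IrreducibleCloseds X}
    (hZ : (k : ℕ∞) ≤ Order.height Z) {U : Opens X} (hU : Meets U Z) (s : F.obj.obj (op U)) :
    germZ F Z U hU s = 0 := by
  obtain ⟨V, i, hV, hs⟩ := h Z hZ U hU s
  rw [← germZ_res F Z i hU hV, hs, map_zero]

theorem dimLT_of_height_lt (k : ℕ) (h : ∀ Z : IrreducibleCloseds X, Order.height Z < k) :
    DimLT F k :=
  fun Z hZ => absurd hZ (not_le.mpr (h Z))

theorem DimLT.isZero (h : DimLT F 0) : IsZero F := by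
  rw [IsZero.iff_id_eq_zero]
  apply Sheaf.hom_ext
  ext U s
  change s = 0
  refine TopCat.Presheaf.section_ext (F : TopCat.Sheaf AddCommGrpCat X) U.unop s 0 fun x hx => ?_
  let Z : IrreducibleCloseds X := ⟨closure {x}, isIrreducible_singleton.closure, isClosed_closure⟩
  obtain ⟨V, i, ⟨y, hyV, hyZ⟩, hs⟩ := h Z (zero_le) U.unop ⟨x, hx, subset_closure rfl⟩ s
  obtain ⟨z, hz, rfl⟩ := mem_closure_iff.mp hyZ V V.isOpen hyV
  change TopCat.Presheaf.germ (F : TopCat.Sheaf AddCommGrpCat X).obj U.unop z hx s = _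
  rw [← TopCat.Presheaf.germ_res_apply (F : TopCat.Sheaf AddCommGrpCat X).obj i z hz s]
  exact (congrArg _ hs).trans ((map_zero _).trans (map_zero _).symm)

/-! ### The flasque sheaf of germs at height `k` -/

variable (F) (k : ℕ)

/-- Irreducible closed sets of height `k` meeting `U`. -/
abbrev Pts (U : Opens X) := {Z : IrreducibleCloseds X // Order.height Z = k ∧ Meets U Z}

/-- Finitely supported families of germs. -/
def finFam (U : Opens X) : AddSubgroup (∀ Z : Pts k U, germGrp F Z.1) where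
  carrier := {f | Set.Finite {Z : Pts k U | f Z ≠ 0}}
  zero_mem' := by simp
  add_mem' {f g} hf hg := (Set.Finite.union hf hg).subset fun Z (hZ : f Z + g Z ≠ 0) => by
    by_cases h : f Z = 0
    · right
      change g Z ≠ 0
      rwa [h, zero_add] at hZ
    · exact Or.inl h
  neg_mem' {f} hf := hf.subset fun Z (hZ : -f Z ≠ 0) => neg_ne_zero.mp hZ

theorem mem_finFam {U : Opens X} {f : ∀ Z : Pts k U, germGrp F Z.1}
    (S : Set (IrreducibleCloseds X)) (hS : S.Finite) (h : ∀ Z, f Z ≠ 0 → Z.1 ∈ S) :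
    f ∈ finFam F k U :=
  (hS.preimage Subtype.val_injective.injOn).subset fun Z hZ => h Z hZ

theorem finite_of_mem_finFam {U : Opens X} (f : finFam F k U) :
    {Z : IrreducibleCloseds X | ∃ h : Order.height Z = k ∧ Meets U Z, f.1 ⟨Z, h⟩ ≠ 0}.Finite := by
  have h : {Z : Pts k U | f.1 Z ≠ 0}.Finite := f.2
  exact (h.image Subtype.val).subset fun Z ⟨hZ, hne⟩ => ⟨⟨Z, hZ⟩, hne, rfl⟩

/-- Restriction of families. -/
noncomputable def famRes {U V : Opens X} (h : V ≤ U) : finFam F k U →+ finFam F k V :=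
  AddMonoidHom.mk' (fun f => ⟨fun Z => f.1 ⟨Z.1, Z.2.1, Z.2.2.mono h⟩,
    mem_finFam F k _ (finite_of_mem_finFam F k f) fun Z hZ => ⟨_, hZ⟩⟩) fun _ _ => rfl

/-- The presheaf of finitely supported families. -/
noncomputable def famPre : TopCat.Presheaf AddCommGrpCat.{u} X where
  obj U := AddCommGrpCat.of (finFam F k U.unop)
  map i := AddCommGrpCat.ofHom (famRes F k (leOfHom i.unop))

variable [NoetherianSpace X]

theorem famPre_isSheaf : (famPre F k).IsSheaf := by
  rw [TopCat.Presheaf.isSheaf_iff_isSheafUniqueGluing]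
  intro ι U sf hsf
  have hmeet : ∀ {Z : IrreducibleCloseds X}, Meets (iSup U) Z → ∃ i, Meets (U i) Z := by
    rintro Z ⟨x, hx, hxZ⟩
    obtain ⟨i, hi⟩ := Opens.mem_iSup.mp hx
    exact ⟨i, x, hi, hxZ⟩
  have heq : ∀ (i j : ι) (Z : IrreducibleCloseds X) (h : Order.height Z = k)
      (hi : Meets (U i) Z) (hj : Meets (U j) Z), (sf i).1 ⟨Z, h, hi⟩ = (sf j).1 ⟨Z, h, hj⟩ :=
    fun i j Z h hi hj => congr_fun (congrArg Subtype.val (hsf i j)) ⟨Z, h, hi.inf hj⟩
  let f : ∀ Z : Pts k (iSup U), germGrp F Z.1 := fun Z =>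
    (sf (hmeet Z.2.2).choose).1 ⟨Z.1, Z.2.1, (hmeet Z.2.2).choose_spec⟩
  obtain ⟨t, ht⟩ := (NoetherianSpace.isCompact (iSup U : Opens X).1).elim_finite_subcover
    (fun i => (U i : Set X)) (fun i => (U i).isOpen) (fun x hx => by
      obtain ⟨i, hi⟩ := Opens.mem_iSup.mp hx
      exact Set.mem_iUnion.mpr ⟨i, hi⟩)
  have hf : f ∈ finFam F k (iSup U) := by
    refine mem_finFam F k (⋃ i ∈ t, {Z | ∃ h : Order.height Z = k ∧ Meets (U i) Z,
      (sf i).1 ⟨Z, h⟩ ≠ 0}) (t.finite_toSet.biUnion fun i _ => finite_of_mem_finFam F k (sf i))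
      fun Z hZ => ?_
    obtain ⟨x, hx, hxZ⟩ := Z.2.2
    obtain ⟨i, hit, hi⟩ := Set.mem_iUnion₂.mp (ht hx)
    refine Set.mem_biUnion hit ⟨⟨Z.2.1, x, hi, hxZ⟩, ?_⟩
    exact fun e => hZ ((heq (hmeet Z.2.2).choose i Z.1 Z.2.1 (hmeet Z.2.2).choose_spec
      ⟨x, hi, hxZ⟩).trans e)
  refine ⟨⟨f, hf⟩, fun i => Subtype.ext (funext fun Z => ?_), fun g hg => Subtype.ext (funext fun Z => ?_)⟩
  · exact heq _ i Z.1 Z.2.1 (hmeet (Z.2.2.mono (le_iSup U i))).choose_spec Z.2.2
  · exact congr_fun (congrArg Subtype.val (hg (hmeet Z.2.2).choose))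
      ⟨Z.1, Z.2.1, (hmeet Z.2.2).choose_spec⟩

/-- The flasque sheaf of finitely supported families of germs at height `k`. -/
noncomputable def famSh : AbSh X := ⟨famPre F k, famPre_isSheaf F k⟩

instance isFlasque_famSh : TopCat.Sheaf.IsFlasque (famSh F k : TopCat.Sheaf AddCommGrpCat X) where
  epi {U V} i := by
    rw [AddCommGrpCat.epi_iff_surjective]
    classical
    intro (f : finFam F k V.unop)
    refine ⟨(⟨fun Z => if h : Meets V.unop Z.1 then f.1 ⟨Z.1, Z.2.1, h⟩ else 0,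
      mem_finFam F k _ (finite_of_mem_finFam F k f) fun Z hZ => ?_⟩ : finFam F k U.unop), ?_⟩
    · by_cases h : Meets V.unop Z.1
      · exact ⟨⟨Z.2.1, h⟩, by rwa [dif_pos h] at hZ⟩
      · exact absurd (dif_neg h) hZ
    · exact Subtype.ext (funext fun Z => dif_pos Z.2.2)

theorem not_le_of_height_eq {Z Z' : IrreducibleCloseds X} (hZ : Order.height Z = k)
    (hZ' : (k : ℕ∞) ≤ Order.height Z') (hne : Z' ≠ Z) : ¬ Z' ≤ Z := fun h => by
  have := Order.height_strictMono (lt_of_le_of_ne h hne)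
    ((Order.height_mono h).trans_lt (hZ ▸ ENat.natCast_lt_top k))
  rw [hZ] at this
  exact absurd hZ' (not_le.mpr this)

/-- A section of the sheaf of families dies generically on `Z` if it vanishes at `Z`. -/
theorem exists_res_fam_eq_zero {U : Opens X} (f : finFam F k U) (Z : IrreducibleCloseds X)
    (hU : Meets U Z) (hk : (k : ℕ∞) ≤ Order.height Z)
    (hZ : ∀ h : Order.height Z = k, f.1 ⟨Z, h, hU⟩ = 0) :
    ∃ (V : Opens X) (i : V ⟶ U), Meets V Z ∧ (famPre F k).map i.op f = 0 := by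
  set S := {Z : IrreducibleCloseds X | ∃ h : Order.height Z = k ∧ Meets U Z, f.1 ⟨Z, h⟩ ≠ 0}
    with hSdef
  have hS : S.Finite := finite_of_mem_finFam F k f
  let C : Opens X := ⟨(⋃ W ∈ S, (W : Set X))ᶜ,
    (hS.isClosed_biUnion fun W _ => W.isClosed).isOpen_compl⟩
  have hC : Meets C Z := by
    by_contra h
    have hsub : (Z : Set X) ⊆ ⋃₀ ↑((hS.image (fun W : IrreducibleCloseds X => (W : Set X))).toFinset) := by
      intro x hx
      rw [Set.Finite.coe_toFinset, Set.sUnion_image]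
      by_contra hx'
      exact h ⟨x, hx', hx⟩
    obtain ⟨w, hw, hZw⟩ := isIrreducible_iff_sUnion_isClosed.mp Z.isIrreducible _ (by
      simp only [Set.Finite.mem_toFinset]
      rintro _ ⟨W, -, rfl⟩
      exact W.isClosed) hsub
    obtain ⟨W, hW, rfl⟩ := (Set.Finite.mem_toFinset _).mp hw
    obtain ⟨hWk, hne⟩ := hW
    by_cases he : Z = W
    · subst he
      exact hne (hZ hWk.1)
    · exact not_le_of_height_eq k hWk.1 hk he hZw
  refine ⟨U ⊓ C, homOfLE inf_le_left, hU.inf hC, Subtype.ext (funext fun W => ?_)⟩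
  change f.1 ⟨W.1, W.2.1, W.2.2.mono inf_le_left⟩ = (0 : germGrp F W.1)
  by_contra hne
  obtain ⟨x, ⟨-, hxC⟩, hxW⟩ := W.2.2
  exact hxC (Set.mem_biUnion (show W.1 ∈ S from ⟨⟨W.2.1, W.2.2.mono inf_le_left⟩, hne⟩) hxW)

theorem dimLT_famSh : DimLT (famSh F k) (k + 1) := fun Z hZ U hU f =>
  exists_res_fam_eq_zero F k f Z hU ((Nat.cast_le.mpr (Nat.le_succ k)).trans hZ) fun h => by
    rw [h, Nat.cast_le] at hZ
    omega

variable {F k} (hF : DimLT F (k + 1))

include hF in
/-- Only finitely many germs at height `k` of a section are nonzero. -/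
theorem finite_germ_support (U : Opens X) (s : F.obj.obj (op U)) :
    (fun Z : Pts k U => germZ F Z.1 U Z.2.2 s) ∈ finFam F k U := by
  let P : Set (Pts k U) := {Z | germZ F Z.1 U Z.2.2 s ≠ 0}
  let T : Closeds X := ⟨closure (⋃ Z ∈ P, (Z.1 : Set X)), isClosed_closure⟩
  obtain ⟨S, hSf, hSc, hSi, hST⟩ :=
    NoetherianSpace.exists_finite_set_isClosed_irreducible T.isClosed
  refine mem_finFam F k {W : IrreducibleCloseds X | (W : Set X) ∈ S}
    (hSf.preimage fun W _ W' _ h => IrreducibleCloseds.ext h) fun Z hZ => ?_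
  have hZT : (Z.1 : Set X) ⊆ ⋃₀ ↑hSf.toFinset := by
    rw [Set.Finite.coe_toFinset, ← hST]
    exact (Set.subset_biUnion_of_mem (u := fun Z : Pts k U => (Z.1 : Set X)) (show Z ∈ P from hZ)).trans
      subset_closure
  obtain ⟨w, hw, hZw⟩ := isIrreducible_iff_sUnion_isClosed.mp Z.1.isIrreducible _
    (fun z hz => hSc z (hSf.mem_toFinset.mp hz)) hZT
  rw [Set.Finite.mem_toFinset] at hw
  let W : IrreducibleCloseds X := ⟨w, hSi w hw, hSc w hw⟩
  have hle : Z.1 ≤ W := hZw
  rcases eq_or_ne Z.1 W with he | he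
  · change (Z.1 : Set X) ∈ S
    rw [he]
    exact hw
  exfalso
  have hlt := Order.height_add_one_le (lt_of_le_of_ne hle he)
  rw [Z.2.1] at hlt
  obtain ⟨V, i, ⟨x, hxV, hxW⟩, hs⟩ := hF W (by exact_mod_cast hlt) U (Z.2.2.of_le hle) s
  have hxT : x ∈ closure (⋃ Z ∈ P, (Z.1 : Set X)) := by
    change x ∈ (T : Set X)
    rw [hST]
    exact ⟨w, hw, hxW⟩
  obtain ⟨y, hyV, hy⟩ := mem_closure_iff.mp hxT V V.isOpen hxV
  obtain ⟨Z', hZ', hyZ'⟩ := Set.mem_iUnion₂.mp hy
  apply hZ'
  rw [← germZ_res F Z'.1 i Z'.2.2 ⟨y, hyV, hyZ'⟩, hs, map_zero]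

/-- The map to the sheaf of families. -/
noncomputable def toFam : F ⟶ famSh F k :=
  ⟨{ app := fun U => AddCommGrpCat.ofHom (AddMonoidHom.mk'
      (fun s => (⟨fun Z => germZ F Z.1 U.unop Z.2.2 s, finite_germ_support hF U.unop s⟩ :
        finFam F k U.unop))
      (fun s t => Subtype.ext (funext fun Z => map_add _ s t)))
     naturality := fun U V i => by
      ext s
      exact Subtype.ext (funext fun Z => germZ_res F Z.1 i.unop _ _ s) }⟩

theorem dimLT_of_mono {G : AbSh X} {m : ℕ} (ι : G ⟶ F) [Mono ι]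
    (h : ∀ Z : IrreducibleCloseds X, (m : ℕ∞) ≤ Order.height Z → ∀ U : Opens X, Meets U Z →
      ∀ s : G.obj.obj (op U), ∃ (V : Opens X) (i : V ⟶ U), Meets V Z ∧
        F.obj.map i.op (ι.hom.app (op U) s) = 0) : DimLT G m := fun Z hZ U hU s => by
  obtain ⟨V, i, hV, hs⟩ := h Z hZ U hU s
  refine ⟨V, i, hV, ?_⟩
  have hinj : Function.Injective (ι.hom.app (op V)) := CechLib.app_injective ι V
  apply hinj
  rw [map_zero, ← hs]
  exact congr($(ι.hom.naturality i.op) s)

theorem dimLT_kernel_toFam : DimLT (kernel (toFam hF)) k :=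
  dimLT_of_mono (kernel.ι (toFam hF)) fun Z hZ U hU s => by
    rcases hZ.eq_or_lt with h | h
    · apply exists_res_of_germZ_eq_zero F Z hU
      have hz : (toFam hF).hom.app (op U) ((kernel.ι (toFam hF)).hom.app (op U) s) = 0 := by
        rw [← ConcreteCategory.comp_apply, ← NatTrans.comp_app]
        exact congr(($(kernel.condition (toFam hF))).hom.app (op U) s)
      exact congr_fun (congrArg Subtype.val hz) ⟨Z, h.symm, hU⟩
    · exact hF Z (Order.add_one_le_of_lt h) U hU _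

theorem dimLT_cokernel_toFam : DimLT (cokernel (toFam hF)) k := fun Z hZ U hU q => by
  obtain ⟨x, hxU, hxZ⟩ := hU
  obtain ⟨W, hWU, ⟨f, hf⟩, hxW⟩ := (TopCat.Presheaf.isLocallySurjective_iff _).mp
    ((Sheaf.isLocallySurjective_iff_epi' (φ := cokernel.π (toFam hF))).mpr inferInstance) U q x hxU
  have hW : Meets W Z := ⟨x, hxW, hxZ⟩
  suffices ∃ (V : Opens X) (i : V ⟶ W), Meets V Z ∧
      (cokernel.π (toFam hF)).hom.app (op V) ((famPre F k).map i.op f) = 0 by
    obtain ⟨V, i, hV, h0⟩ := this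
    refine ⟨V, i ≫ homOfLE hWU, hV, ?_⟩
    rw [← h0]
    refine Eq.trans ?_ (congr($((cokernel.π (toFam hF)).hom.naturality i.op) f)).symm
    refine Eq.trans ?_ (congrArg _ hf).symm
    exact congr($((cokernel (toFam hF)).obj.map_comp (homOfLE hWU).op i.op) q)
  rcases hZ.eq_or_lt with h | h
  · obtain ⟨W', hW', s, hs⟩ := exists_germZ_eq F Z ((f : finFam F k W).1 ⟨Z, h.symm, hW⟩)
    let g : finFam F k (W ⊓ W') := famRes F k inf_le_left f -
      (⟨fun Z' => germZ F Z'.1 (W ⊓ W') Z'.2.2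
          (F.obj.map (homOfLE inf_le_right : W ⊓ W' ⟶ W').op s),
        finite_germ_support hF (W ⊓ W') _⟩ : finFam F k (W ⊓ W'))
    have hg : g.1 ⟨Z, h.symm, hW.inf hW'⟩ = 0 := by
      change (f : finFam F k W).1 ⟨Z, h.symm, hW⟩ - germZ F Z (W ⊓ W') (hW.inf hW')
        (F.obj.map (homOfLE inf_le_right : W ⊓ W' ⟶ W').op s) = 0
      rw [germZ_res F Z _ hW' (hW.inf hW'), hs, sub_self]
    obtain ⟨V, i, hV, hgV⟩ := exists_res_fam_eq_zero F k g Z (hW.inf hW') hZ (fun _ => hg)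
    refine ⟨V, i ≫ homOfLE inf_le_left, hV, ?_⟩
    have e : (famPre F k).map (i ≫ homOfLE inf_le_left).op f =
        (toFam hF).hom.app (op V) (F.obj.map i.op
          (F.obj.map (homOfLE inf_le_right : W ⊓ W' ⟶ W').op s)) := by
      refine Subtype.ext (funext fun Z' => ?_)
      have hz := congr_fun (congrArg Subtype.val hgV) Z'
      refine (sub_eq_zero.mp hz).trans ?_
      exact (germZ_res F Z'.1 i _ Z'.2.2 _).symm
    rw [e]
    exact congr(($(cokernel.condition (toFam hF))).hom.app (op V) _)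
  · obtain ⟨V, i, hV, hfV⟩ := exists_res_fam_eq_zero F k f Z hW hZ
      fun h' => absurd h'.symm h.ne
    exact ⟨V, i, hV, by rw [hfV]; exact map_zero _⟩

omit hF in
/-- A sheaf of dimension `< k` has no cohomology in degrees `≥ k`. -/
theorem subsingleton_HU_of_dimLT (k : ℕ) (F : AbSh X) (hF : DimLT F k) (U : Opens X) (p : ℕ)
    (hp : k ≤ p) : Subsingleton (HU F p U) := by
  induction k generalizing F p with
  | zero =>
    refine subsingleton_of_forall_eq 0 fun x => ?_
    rw [← Ext.comp_mk₀_id x, IsZero.iff_id_eq_zero _ |>.mp hF.isZero, Ext.mk₀_zero, Ext.comp_zero]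
  | succ k ih =>
    obtain ⟨m, rfl⟩ : ∃ m, p = m + 1 := ⟨p - 1, by omega⟩
    let φ := toFam hF
    let S₁ : ShortComplex (AbSh X) :=
      ShortComplex.mk (kernel.ι φ) (Abelian.factorThruImage φ) (by
        rw [← cancel_mono (Abelian.image.ι φ), Category.assoc, Abelian.image.fac, zero_comp,
          kernel.condition])
    let S₂ : ShortComplex (AbSh X) :=
      ShortComplex.mk (Abelian.image.ι φ) (cokernel.π φ) (kernel.condition _)
    have hS₁ : S₁.ShortExact :=
      { exact := ShortComplex.exact_of_f_is_kernel _ <| KernelFork.IsLimit.ofι' _ _ fun {A} g hg =>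
          ⟨kernel.lift φ g (by
            rw [← Abelian.image.fac φ, ← Category.assoc, hg, zero_comp]), kernel.lift_ι _ _ _⟩
        mono_f := inferInstanceAs (Mono (kernel.ι φ))
        epi_g := inferInstanceAs (Epi (Abelian.factorThruImage φ)) }
    have hS₂ : S₂.ShortExact :=
      { exact := ShortComplex.exact_of_f_is_kernel _ (kernelIsKernel _)
        mono_f := inferInstanceAs (Mono (Abelian.image.ι φ))
        epi_g := inferInstanceAs (Epi (cokernel.π φ)) }
    have : Subsingleton (HU S₁.X₁ (m + 1) U) := ih _ (dimLT_kernel_toFam hF) (m + 1) (by omega)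
    have : Subsingleton (HU S₂.X₃ m U) := ih _ (dimLT_cokernel_toFam hF) m (by omega)
    have : Subsingleton (HU S₂.X₂ (m + 1) U) := subsingleton_of_isFlasque m (famSh F k) U
    have : Subsingleton (HU S₁.X₃ (m + 1) U) := subsingleton_X₁ hS₂
    refine subsingleton_of_forall_eq 0 fun x => ?_
    obtain ⟨y, rfl⟩ := Ext.covariant_sequence_exact₂ _ hS₁ x (Subsingleton.elim _ _)
    rw [Subsingleton.elim y 0, Ext.zero_comp]

omit hF in
/-- Grothendieck vanishing, on every open. -/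
theorem subsingleton_HU_of_dim_le (d : ℕ) (hd : topologicalKrullDim X ≤ d) (F : AbSh X)
    (U : Opens X) (p : ℕ) (hp : d < p) : Subsingleton (HU F p U) := by
  refine subsingleton_HU_of_dimLT (d + 1) F (dimLT_of_height_lt _ fun Z => ?_) U p hp
  have h := (Order.height_le_krullDim Z).trans hd
  exact (ENat.lt_add_one_iff (ENat.natCast_ne_top d)).mpr (WithBot.coe_le_coe.mp h)

omit hF in
/-- Grothendieck vanishing. -/
theorem subsingleton_H_of_dim_le (d : ℕ) (hd : topologicalKrullDim X ≤ d) (F : AbSh X)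
    (p : ℕ) (hp : d < p) : Subsingleton (CategoryTheory.Sheaf.H F p) :=
  (subsingleton_H_iff F p).mpr (subsingleton_HU_of_dim_le d hd F ⊤ p hp)

end CohTopLib
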