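import Groth.Agent.CohTopLib.Leray
import Mathlib.Topology.Sheaves.Functors

/-!
# Cohomology of a disjoint union and of an open piece
-/

set_option autoImplicit false
set_option linter.unusedSectionVars false
set_option linter.style.haveILetI false
set_option backward.isDefEq.respectTransparency false
set_option backward.isDefEq.respectTransparency.types false

universe u
open CategoryTheory CategoryTheory.Limits TopologicalSpace Opposite CategoryTheory.Abelian

namespace CohTopLib.CompCoh

open QCohLib

variable {T : TopCat.{u}} {ι : Type u} (O : ι → Opens T) (hd : Pairwise fun a b => Disjoint (O a) (O b))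

include hd in
theorem bijective_restrict (G : AbSh T) : Function.Bijective
    (fun (s : G.obj.obj (op (iSup O))) (i : ι) => G.obj.map (homOfLE (le_iSup O i)).op s) := by
  refine ⟨fun s t h => TopCat.Sheaf.eq_of_locally_eq' (G : TopCat.Sheaf AddCommGrpCat T) O (iSup O)
    (fun i => homOfLE (le_iSup O i)) le_rfl s t (congrFun h), fun f => ?_⟩
  obtain ⟨s, hs, -⟩ := TopCat.Sheaf.existsUnique_gluing' (G : TopCat.Sheaf AddCommGrpCat T)
    O (iSup O) (fun i => homOfLE (le_iSup O i)) le_rfl f (fun a b => by
      by_cases hab : a = b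
      · subst hab; rfl
      · have : Subsingleton (G.obj.obj (op (O a ⊓ O b))) := by
          rw [(hd hab).eq_bot]
          exact AddCommGrpCat.subsingleton_of_isZero (IsTerminal.isZero (TopCat.Sheaf.isTerminalOfEmpty G))
        exact Subsingleton.elim _ _)
  exact ⟨s, funext hs⟩

/-- Sections over a disjoint union. -/
noncomputable def secPi (G : AbSh T) : G.obj.obj (op (iSup O)) ≃+ ∀ i, G.obj.obj (op (O i)) :=
  AddEquiv.ofBijective
    (AddMonoidHom.pi fun i => (G.obj.map (homOfLE (le_iSup O i)).op).hom) (bijective_restrict O hd G)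

theorem secPi_natural {F G : AbSh T} (g : F ⟶ G) (s : F.obj.obj (op (iSup O))) (i : ι) :
    secPi O hd G (g.hom.app (op (iSup O)) s) i = g.hom.app (op (O i)) (secPi O hd F s i) :=
  (NatTrans.naturality_apply g.hom (homOfLE (le_iSup O i)).op s).symm

include hd in
/-- The cohomology of a disjoint union is the product of the cohomologies. -/
theorem nonempty_HU_pi (n : ℕ) (F : AbSh T) : Nonempty (HU F n (iSup O) ≃+ ∀ i, HU F n (O i)) := by
  induction n using Nat.strong_induction_on generalizing F with
  | _ n ih =>
    let S := injSeq F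
    have hS : S.ShortExact := injSeq_shortExact F
    match n, ih with
    | 0, _ => exact ⟨(h0 (F := F)).trans ((secPi O hd F).trans (AddEquiv.piCongrRight fun i => (h0 (F := F) (U := O i)).symm))⟩
    | 1, _ =>
      let d : (∀ i, S.X₃.obj.obj (op (O i))) →+ (∀ i, HU F 1 (O i)) :=
        AddMonoidHom.pi fun i => (delta0 hS (O i)).comp (Pi.evalAddMonoidHom _ i)
      have hk : (d.comp (secPi O hd S.X₃).toAddMonoidHom).ker = (delta0 hS (iSup O)).ker := by
        ext q
        change (fun i => delta0 hS (O i) (secPi O hd S.X₃ q i)) = 0 ↔ delta0 hS (iSup O) q = 0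
        rw [delta0_eq_zero_iff, funext_iff]
        simp only [Pi.zero_apply, delta0_eq_zero_iff]
        constructor
        · intro h
          choose t ht using h
          refine ⟨(secPi O hd S.X₂).symm t, (secPi O hd S.X₃).injective (funext fun i => ?_)⟩
          rw [secPi_natural, AddEquiv.apply_symm_apply]
          exact ht i
        · rintro ⟨t, rfl⟩ i
          exact ⟨secPi O hd S.X₂ t i, (secPi_natural O hd S.g t i).symm⟩
      obtain ⟨e⟩ := nonempty_addEquiv_of_ker_eq (d.comp (secPi O hd S.X₃).toAddMonoidHom) (delta0 hS (iSup O))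
        (fun y => by
          choose x hx using fun i => delta0_surjective hS (O i) (y i)
          refine ⟨(secPi O hd S.X₃).symm x, ?_⟩
          change d (secPi O hd S.X₃ ((secPi O hd S.X₃).symm x)) = y
          rw [AddEquiv.apply_symm_apply]
          exact funext hx)
        (delta0_surjective hS (iSup O)) hk
      exact ⟨e.symm⟩
    | m + 2, ih =>
      obtain ⟨e⟩ := ih (m + 1) (by omega) S.X₃
      exact ⟨(deltaEquiv hS m (iSup O)).symm.trans (e.trans (AddEquiv.piCongrRight fun i => deltaEquiv hS m (O i)))⟩

/-- Cohomology of the inverse image along an open embedding. -/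
theorem nonempty_H_pull_openEmbedding {Z : TopCat.{u}} (j : Z ⟶ T) (hj : Topology.IsOpenEmbedding j) (n : ℕ)
    (F : AbSh T) (U : Opens T) (hU : (U : Set T) = Set.range j) :
    Nonempty (HU F n U ≃+ CategoryTheory.Sheaf.H ((CohTop.pull j).obj F) n) := by
  let G := hj.sheafPullback AddCommGrpCat.{u}
  haveI : G.Additive := { map_add := rfl }
  haveI : PreservesFiniteLimits (CohTop.pull j) := CohTopLib.preservesFiniteLimits_pull j
  haveI : PreservesColimitsOfSize.{0, 0} (CohTop.pull j) :=
    (TopCat.Sheaf.pullbackPushforwardAdjunction AddCommGrpCat.{u} j).leftAdjoint_preservesColimits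
  haveI : PreservesFiniteLimits G := preservesFiniteLimits_of_natIso (hj.sheafPullbackIso AddCommGrpCat.{u})
  haveI : PreservesColimitsOfSize.{0, 0} G := preservesColimits_of_natIso (hj.sheafPullbackIso AddCommGrpCat.{u})
  haveI : PreservesFiniteColimits G := PreservesColimitsOfSize.preservesFiniteColimits _
  let i : U ⟶ hj.functor.obj ⊤ := eqToHom (Opens.ext (hU.trans Set.image_univ.symm))
  have h := nonempty_HU_equiv G (hj.functor.obj ⊤) (⊤ : Opens Z) (fun _ => AddEquiv.refl _) (fun _ _ => rfl)
    (fun I _ => ⟨fun {V W} i => TopCat.Presheaf.IsFlasque.epi (F := (I : TopCat.Sheaf AddCommGrpCat T).obj)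
      (hj.functor.map i.unop).op⟩)
    (fun _ hS => hS.map_of_exact G) n F
  rw [show hj.functor.obj ⊤ = U from (Opens.ext (hU.trans Set.image_univ.symm)).symm] at h
  obtain ⟨e⟩ := h
  obtain ⟨f⟩ := (⟨extCongrRight ((hj.sheafPullbackIso AddCommGrpCat.{u}).app F) n⟩ :
    Nonempty (HU ((CohTop.pull j).obj F) n ⊤ ≃+ HU (G.obj F) n ⊤))
  exact ⟨e.symm.trans (f.symm.trans (hEquiv _ n).symm)⟩

end CohTopLib.CompCoh
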