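import Groth.Agent.CohTopLib.DescSS
import Groth.Agent.CohTopLib.CompCoh
import Groth.Agent.S15582
import Mathlib.Topology.LocallyFinite
import Mathlib.Topology.Constructions

/-!
# Descent along a closed locally finite cover
-/

set_option autoImplicit false
set_option linter.unusedSectionVars false
set_option linter.style.haveILetI false
set_option backward.isDefEq.respectTransparency false
set_option backward.isDefEq.respectTransparency.types false

universe u
open CategoryTheory CategoryTheory.Limits TopologicalSpace Opposite Topology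

namespace CohTopLib.ClosedCover

open GermFam FamPush DescExact FibreCoh

variable {X : TopCat.{u}} {I : Type u} (U : I → Set X)

/-- The tuples of a given length. -/
abbrev Tup (a : SimplexCategory) : Type u := Fin (a.len + 1) → I

/-- An intersection. -/
abbrev Piece {a : SimplexCategory} (σ : Tup (I := I) a) : Set X := ⋂ k, U (σ k)

/-- The disjoint union of the intersections. -/
def obj (a : SimplexCategory) : Over X :=
  Over.mk (TopCat.ofHom ⟨fun z : Σ σ : Tup (I := I) a, Piece U σ => (z.2 : X), by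
    exact continuous_sigma fun σ => continuous_subtype_val⟩ : TopCat.of (Σ σ : Tup (I := I) a, Piece U σ) ⟶ X)

/-- Restriction of tuples. -/
def pullPt {a b : SimplexCategory} (g : b ⟶ a) (z : Σ σ : Tup (I := I) a, Piece U σ) :
    Σ σ : Tup (I := I) b, Piece U σ :=
  ⟨z.1 ∘ g.toOrderHom, z.2.1, Set.mem_iInter.mpr fun k => Set.mem_iInter.mp z.2.2 (g.toOrderHom k)⟩

theorem continuous_pullPt {a b : SimplexCategory} (g : b ⟶ a) : Continuous (pullPt U g) := by
  refine continuous_sigma fun σ => ?_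
  exact (continuous_sigmaMk (σ := fun σ : Tup (I := I) b => Piece U σ) (i := σ ∘ g.toOrderHom)).comp
    (continuous_subtype_val.subtype_mk fun x : Piece U σ =>
      Set.mem_iInter.mpr fun k => Set.mem_iInter.mp x.2 (g.toOrderHom k))

/-- The simplicial space. -/
def K : SimplicialObject (Over X) where
  obj a := obj U a.unop
  map {a b} f := Over.homMk (TopCat.ofHom ⟨pullPt U f.unop, continuous_pullPt U f.unop⟩) rfl
  map_id _ := rfl
  map_comp _ _ := rfl

theorem face_fst {n : ℕ} (i : Fin (n + 2)) {y : X}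
    (z : Fib ((K U).obj (op (SimplexCategory.mk (n + 1)))) y) :
    (face (K U) i z).1.1 = z.1.1 ∘ i.succAbove := rfl

theorem fib_ext {a : SimplexCategory} {y : X} {z z' : Fib ((K U).obj (op a)) y} (h : z.1.1 = z'.1.1) : z = z' := by
  obtain ⟨⟨σ, x, hx⟩, hz⟩ := z
  obtain ⟨⟨σ', x', hx'⟩, hz'⟩ := z'
  obtain rfl : σ = σ' := h
  obtain rfl : x = x' := hz.trans hz'.symm
  rfl

theorem mem_piece {a : SimplexCategory} {y : X} (z : Fib ((K U).obj (op a)) y) (k : Fin (a.len + 1)) :
    y ∈ U (z.1.1 k) := by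
  have h := Set.mem_iInter.mp z.1.2.2 k
  rwa [show (z.1.2.1 : X) = y from z.2] at h

/-- The point with constant index. -/
def mkFib {a : SimplexCategory} (σ : Tup (I := I) a) (y : X) (h : ∀ k, y ∈ U (σ k)) : Fib ((K U).obj (op a)) y :=
  ⟨(⟨σ, y, Set.mem_iInter.mpr h⟩ : Σ σ : Tup (I := I) a, Piece U σ), rfl⟩

/-- The contraction at a point of a member of the cover. -/
def cone (y : X) (i : I) (hi : y ∈ U i) : Cone (K U) y where
  e := mkFib U (fun _ => i) y fun _ => hi
  h n z := mkFib U (Fin.cons i z.1.1) y fun k => Fin.cases hi (fun j => mem_piece U z j) k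
  face_zero n z := fib_ext U (funext fun k => by
    change Fin.cons (α := fun _ => I) i z.1.1 (Fin.succAbove 0 k) = z.1.1 k
    rw [Fin.succAbove_zero, Fin.cons_succ])
  face_one z := fib_ext U (funext fun k => by
    change Fin.cons (α := fun _ => I) i z.1.1 (Fin.succAbove 1 k) = i
    obtain rfl : k = 0 := Fin.fin_one_eq_zero k
    rfl)
  face_succ n j z := fib_ext U (funext fun k => by
    change Fin.cons (α := fun _ => I) i z.1.1 (Fin.succAbove j.succ k) =
      Fin.cons (α := fun _ => I) i (z.1.1 ∘ j.succAbove) k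
    induction k using Fin.cases with
    | zero => rw [Fin.succ_succAbove_zero, Fin.cons_zero, Fin.cons_zero]
    | succ k => rw [Fin.succ_succAbove_succ, Fin.cons_succ, Fin.cons_succ]; rfl)

variable (hU : ∀ i, IsClosed (U i)) (hlf : LocallyFinite U) (hcov : ⋃ i, U i = Set.univ)

include hlf in
theorem locallyFinite_piece (a : SimplexCategory) : LocallyFinite fun σ : Tup (I := I) a => Piece U σ := by
  intro x
  obtain ⟨V, hV, hfin⟩ := hlf x
  refine ⟨V, hV, (Set.Finite.pi fun _ : Fin (a.len + 1) => hfin).subset ?_⟩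
  rintro σ ⟨y, hy, hyV⟩ k -
  exact ⟨y, Set.mem_iInter.mp hy k, hyV⟩

include hlf in
theorem finite_fib (a : SimplexCategory) (y : X) : Finite (Fib ((K U).obj (op a)) y) := by
  haveI : Finite {σ : Tup (I := I) a | ∀ k, y ∈ U (σ k)} :=
    (Set.Finite.subset (Set.Finite.pi fun _ : Fin (a.len + 1) => hlf.point_finite y)
      (fun σ (hσ : ∀ k, y ∈ U (σ k)) k _ => hσ k) : {σ : Tup (I := I) a | ∀ k, y ∈ U (σ k)}.Finite).to_subtype
  exact Finite.of_injective (fun z : Fib ((K U).obj (op a)) y =>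
    (⟨z.1.1, mem_piece U z⟩ : {σ : Tup (I := I) a | ∀ k, y ∈ U (σ k)})) fun _ _ h =>
    fib_ext U (congrArg Subtype.val h)

include hU hlf in
theorem isClosedMap (a : SimplexCategory) : IsClosedMap ((K U).obj (op a)).hom := by
  intro C hC
  let C' : Set (Σ σ : Tup (I := I) a, Piece U σ) := C
  have hC' : IsClosed C' := hC
  have : ((K U).obj (op a)).hom '' C = ⋃ σ, Subtype.val '' (Sigma.mk (β := fun σ : Tup (I := I) a => Piece U σ) σ ⁻¹' C') := by
    ext x
    simp only [Set.mem_iUnion]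
    constructor
    · rintro ⟨⟨σ, p⟩, hp, rfl⟩
      exact ⟨σ, p, hp, rfl⟩
    · rintro ⟨σ, p, hp, rfl⟩
      exact ⟨⟨σ, p⟩, hp, rfl⟩
  rw [this]
  refine LocallyFinite.isClosed_iUnion ((locallyFinite_piece U hlf a).subset fun σ => ?_) fun σ => ?_
  · rintro _ ⟨p, -, rfl⟩
    exact p.2
  · exact (isClosed_iInter fun k => hU (σ k)).isClosedEmbedding_subtypeVal.isClosedMap _
      (hC'.preimage continuous_sigmaMk)

include hU hlf in
/-- Germs on a fibre extend. -/
theorem exists_ext (a : SimplexCategory) (F : QCohLib.AbSh X) {W : Opens X} {x : X} (hx : x ∈ W)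
    (g : Fib ((K U).obj (op a)) x → Stk F x) :
    ∃ (V : Opens X) (_ : V ≤ W) (hxV : x ∈ V) (b : ((pp ((K U).obj (op a))).obj F).obj.obj (op V)),
      ∀ z, valHom ((K U).obj (op a)) F x hxV z b = g z := by
  haveI := finite_fib U hlf a x
  have ht : ∀ z, ∃ (A : Opens X) (hA : x ∈ A) (t : F.obj.obj (op A)), germ F A x hA t = g z :=
    fun z => TopCat.Presheaf.exists_germ_eq (X := X) F.obj (g z)
  choose A hA t ht using ht
  let bad : Set X := ⋃ σ : {σ : Tup (I := I) a // ∃ k, x ∉ U (σ k)}, Piece U σ.1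
  have hbad : IsClosed bad :=
    ((locallyFinite_piece U hlf a).comp_injective Subtype.val_injective).isClosed_iUnion
      fun σ => isClosed_iInter fun k => hU _
  let V : Opens X := ⟨(W : Set X) ∩ (badᶜ ∩ ⋂ z, (A z : Set X)),
    W.isOpen.inter (hbad.isOpen_compl.inter (isOpen_iInter_of_finite fun z => (A z).isOpen))⟩
  have hxV : x ∈ V := ⟨hx, fun h => by
    obtain ⟨⟨σ, k, hk⟩, hσ⟩ := Set.mem_iUnion.mp h
    exact hk (Set.mem_iInter.mp hσ k), Set.mem_iInter.mpr hA⟩
  have hidx : ∀ (y : V) (z : Fib ((K U).obj (op a)) y.1) (k : Fin (a.len + 1)), x ∈ U (z.1.1 k) := fun y z k => by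
    by_contra hk
    exact y.2.2.1 (Set.mem_iUnion.mpr ⟨⟨z.1.1, k, hk⟩, Set.mem_iInter.mpr fun k => mem_piece U z k⟩)
  let f : ∀ y : V, Fib ((K U).obj (op a)) y.1 → Stk F y.1 := fun y z =>
    germ F (A (mkFib U z.1.1 x (hidx y z))) y.1 (Set.mem_iInter.mp y.2.2.2 _) (t (mkFib U z.1.1 x (hidx y z)))
  have hf : IsLoc ((K U).obj (op a)) F V f := by
    rintro ⟨σ, p⟩ hz
    let w := mkFib U σ x (hidx ⟨_, hz⟩ ⟨⟨σ, p⟩, rfl⟩)
    refine ⟨A w, Set.mem_iInter.mp hz.2.2 _, t w, ⟨Set.range (Sigma.mk (β := fun σ : Tup (I := I) a => Piece U σ) σ),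
      isOpen_range_sigmaMk⟩, ⟨p, rfl⟩, ?_⟩
    rintro _ ⟨q, rfl⟩ hz' hA'
    rfl
  refine ⟨V, fun y hy => hy.1, hxV, ⟨f, hf⟩, fun z => ?_⟩
  have e : mkFib U z.1.1 x (hidx ⟨x, hxV⟩ z) = z := fib_ext U rfl
  have key : ∀ w : Fib ((K U).obj (op a)) x, w = z → germ F (A w) x (hA w) (t w) = g z := by
    rintro w rfl
    exact ht w
  exact key _ e

include hU hlf hcov in
theorem quasiIso (F : QCohLib.AbSh X) : QuasiIso ((coAug (K U)).app F) := by
  have hc : ∀ x : X, ∃ i, x ∈ U i := fun x => Set.mem_iUnion.mp (hcov ▸ Set.mem_univ x)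
  refine quasiIso_coAug (K U) F (fun y => ⟨(cone U y _ (hc y).choose_spec).e⟩) ?_ ?_
  · intro W x hx c hc0
    obtain ⟨i, hi⟩ := hc x
    let C := cone U x i hi
    obtain ⟨A, hA, t, ht⟩ := TopCat.Presheaf.exists_germ_eq (X := X) F.obj
      (valHom ((K U).obj (op (SimplexCategory.mk 0))) F x hx C.e c)
    let V₀ : Opens X := W ⊓ A
    let e := (aug₀ (K U) F).hom.app (op V₀) (F.obj.map (homOfLE (inf_le_right : V₀ ≤ A)).op t) -
      (((coface (K U)).obj F).X 0).obj.map (homOfLE (inf_le_left : V₀ ≤ W)).op c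
    obtain ⟨V, hV, hxV, h0⟩ := zero_near _ (isClosedMap U hU hlf _) F (W := V₀) (x := x) ⟨hx, hA⟩ e fun z => by
      refine (map_sub (valHom _ F x _ z) _ _).trans (sub_eq_zero.mpr ?_)
      refine (germ_rs F (inf_le_right : V₀ ≤ A) x ⟨hx, hA⟩ t).trans ?_
      exact ht.trans (C.val_eq F hx c hc0 z).symm
    refine ⟨V, hV.trans inf_le_left, F.obj.map (homOfLE (hV.trans inf_le_right)).op t, hxV, ?_⟩
    have h1 := (map_sub (((coface (K U)).obj F).X 0 |>.obj.map (homOfLE hV).op).hom _ _).symm.trans h0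
    refine val_ext (W := V) fun y hy z => ?_
    have h2 := congrArg (fun s => valHom ((K U).obj (op (SimplexCategory.mk 0))) F y hy z s) (sub_eq_zero.mp h1)
    refine (germ_rs F (hV.trans inf_le_right) y hy t).trans (((germ_rs F (inf_le_right : V₀ ≤ A) y (hV hy) t).symm).trans ?_)
    exact h2
  · intro n W x hx c hc0
    obtain ⟨i, hi⟩ := hc x
    let C := cone U x i hi
    obtain ⟨V₀, hV₀, hxV₀, b, hb⟩ := exists_ext U hU hlf (SimplexCategory.mk n) F hx
      (fun z => valHom ((K U).obj (op (SimplexCategory.mk (n + 1)))) F x hx (C.h n z) c)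
    let e := (((coface (K U)).obj F).d n (n + 1)).hom.app (op V₀) b -
      (((coface (K U)).obj F).X (n + 1)).obj.map (homOfLE hV₀).op c
    obtain ⟨V, hV, hxV, h0⟩ := zero_near _ (isClosedMap U hU hlf _) F (W := V₀) (x := x) hxV₀ e fun z => by
      refine (map_sub (valHom _ F x _ z) _ _).trans (sub_eq_zero.mpr ?_)
      exact C.val_d_eq F n hx hxV₀ c hc0 b hb z
    refine ⟨V, hV.trans hV₀, (((coface (K U)).obj F).X n).obj.map (homOfLE hV).op b, hxV, ?_⟩
    have h1 := sub_eq_zero.mp ((map_sub (((coface (K U)).obj F).X (n + 1) |>.obj.map (homOfLE hV).op).hom _ _).symm.trans h0)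
    refine (NatTrans.naturality_apply (((coface (K U)).obj F).d n (n + 1)).hom (homOfLE hV).op b).trans (h1.trans ?_)
    rfl

include hlf in
theorem finite_sep (a : SimplexCategory) (y : X) :
    (((K U).obj (op a)).hom ⁻¹' {y}).Finite ∧ ∃ W : ((K U).obj (op a)).left → Set ((K U).obj (op a)).left,
      (∀ z ∈ ((K U).obj (op a)).hom ⁻¹' {y}, IsOpen (W z) ∧ z ∈ W z) ∧
      (((K U).obj (op a)).hom ⁻¹' {y}).PairwiseDisjoint W := by
  haveI := finite_fib U hlf a y
  refine ⟨Set.finite_coe_iff.mp (inferInstanceAs (Finite (Fib ((K U).obj (op a)) y))),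
    fun z => Set.range (Sigma.mk (β := fun σ : Tup (I := I) a => Piece U σ) z.1),
    fun z _ => ⟨isOpen_range_sigmaMk, z.2, rfl⟩, fun z hz z' hz' hne => Set.disjoint_left.mpr ?_⟩
  rintro _ ⟨p, rfl⟩ ⟨p', hp'⟩
  exact hne (congrArg Subtype.val (fib_ext U (z := ⟨z, hz⟩) (z' := ⟨z', hz'⟩) (congrArg Sigma.fst hp').symm))

include hU hlf in
/-- Direct images from the pieces are exact. -/
theorem shortExact_push (a : SimplexCategory) {S : ShortComplex (QCohLib.AbSh ((K U).obj (op a)).left)}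
    (hS : S.ShortExact) : (S.map (CohTop.push ((K U).obj (op a)).hom)).ShortExact := by
  let π := ((K U).obj (op a)).hom
  have h15 := Groth.Agent.S15582.result π (fun y O hO hy =>
    ⟨(π '' Oᶜ)ᶜ, (isClosedMap U hU hlf a _ hO.isClosed_compl).isOpen_compl, fun ⟨z, hz, hzy⟩ => hz (hy hzy),
      fun z hz => by_contra fun h => hz ⟨z, h, rfl⟩⟩) (finite_sep U hlf a)
  refine { exact := (QCohLib.pf_exact_and_mono hS.exact hS.mono_f).1
           mono_f := (QCohLib.pf_exact_and_mono hS.exact hS.mono_f).2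
           epi_g := ?_ }
  haveI := hS.epi_g
  let g' := (sheafCompose (Opens.grothendieckTopology _) (CategoryTheory.forget AddCommGrpCat.{u})).map S.g
  haveI : Sheaf.IsLocallySurjective S.g := (Sheaf.isLocallySurjective_iff_epi' (φ := S.g)).mpr inferInstance
  haveI : Sheaf.IsLocallySurjective g' := inferInstanceAs (Sheaf.IsLocallySurjective
    ((sheafCompose (Opens.grothendieckTopology _) (CategoryTheory.forget AddCommGrpCat.{u})).map S.g))
  haveI : Epi g' := (Sheaf.isLocallySurjective_iff_epi g').mp inferInstance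
  haveI := h15.preserves g'
  have h2 : Sheaf.IsLocallySurjective ((TopCat.Sheaf.pushforward (Type u) π).map g') :=
    (Sheaf.isLocallySurjective_iff_epi _).mpr inferInstance
  refine (Sheaf.isLocallySurjective_iff_epi' (φ := (CohTop.push π).map S.g)).mp ?_
  exact ⟨fun s => h2.imageSieve_mem s⟩

/-- The inverse image along a composite. -/
theorem nonempty_pull_comp {Z T : TopCat.{u}} (j : Z ⟶ T) (p : T ⟶ X) (q : Z ⟶ X) (w : j ≫ p = q) :
    Nonempty (CohTop.pull p ⋙ CohTop.pull j ≅ CohTop.pull q) := by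
  subst w
  let e : CohTop.push j ⋙ CohTop.push p ≅ CohTop.push (j ≫ p) := NatIso.ofComponents (fun _ => Iso.refl _)
    fun _ => (Category.comp_id _).trans (Category.id_comp _).symm
  exact ⟨Adjunction.leftAdjointUniq (((TopCat.Sheaf.pullbackPushforwardAdjunction AddCommGrpCat.{u} p).comp
    (TopCat.Sheaf.pullbackPushforwardAdjunction AddCommGrpCat.{u} j)).ofNatIsoRight e)
    (TopCat.Sheaf.pullbackPushforwardAdjunction AddCommGrpCat.{u} (j ≫ p))⟩

include hU hlf in
/-- The first page. -/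
theorem nonempty_term_iso (F : QCohLib.AbSh X) (p q : ℕ) :
    Nonempty (((secTop X).rightDerived q).obj ((pp ((K U).obj (op (SimplexCategory.mk p)))).obj F) ≅
      AddCommGrpCat.of (∀ σ : Fin (p + 1) → I,
        CohTop.H ((CohTop.pull (TopCat.ofHom ⟨((↑) : (⋂ k, U (σ k) : Set X) → X), continuous_subtype_val⟩ :
          TopCat.of (⋂ k, U (σ k) : Set X) ⟶ X)).obj F) q)) := by
  let π := ((K U).obj (op (SimplexCategory.mk p))).hom
  let P := (CohTop.pull π).obj F
  let O : (Fin (p + 1) → I) → Opens (TopCat.of (Σ σ : Fin (p + 1) → I, (⋂ k, U (σ k) : Set X))) := fun σ =>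
    ⟨Set.range (Sigma.mk (β := fun σ : Fin (p + 1) → I => (⋂ k, U (σ k) : Set X)) σ), isOpen_range_sigmaMk⟩
  have hO : iSup O = ⊤ := eq_top_iff.mpr fun z _ => Opens.mem_iSup.mpr ⟨z.1, z.2, rfl⟩
  obtain ⟨e1⟩ := nonempty_rightDerived_secTop X ((pp ((K U).obj (op (SimplexCategory.mk p)))).obj F) q
  obtain ⟨e2⟩ := nonempty_HU_equiv (CohTop.push π) (⊤ : Opens _) (⊤ : Opens X) (fun _ => AddEquiv.refl _)
    (fun _ _ => rfl) (fun J _ => QCohLib.isFlasque_pf J) (fun _ hS => shortExact_push U hU hlf _ hS) q P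
  obtain ⟨e3⟩ := CompCoh.nonempty_HU_pi O (fun a b hab => by
    change Disjoint (O a) (O b)
    rw [disjoint_iff]
    refine Opens.ext (Set.eq_empty_iff_forall_notMem.mpr ?_)
    rintro z ⟨⟨_, ha⟩, ⟨_, hb⟩⟩
    exact hab ((congrArg Sigma.fst ha).trans (congrArg Sigma.fst hb).symm))
    q P
  rw [hO] at e3
  have h4 : ∀ σ, Nonempty (QCohLib.HU P q (O σ) ≃+
      CohTop.H ((CohTop.pull (TopCat.ofHom ⟨((↑) : (⋂ k, U (σ k) : Set X) → X), continuous_subtype_val⟩ :
          TopCat.of (⋂ k, U (σ k) : Set X) ⟶ X)).obj F) q) := fun σ => by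
    let j : TopCat.of (⋂ k, U (σ k) : Set X) ⟶ ((K U).obj (op (SimplexCategory.mk p))).left :=
      TopCat.ofHom ⟨Sigma.mk (β := fun σ : Fin (p + 1) → I => (⋂ k, U (σ k) : Set X)) σ, continuous_sigmaMk⟩
    obtain ⟨a⟩ := CompCoh.nonempty_H_pull_openEmbedding j IsOpenEmbedding.sigmaMk q P (O σ) rfl
    obtain ⟨c⟩ := nonempty_pull_comp j π _ rfl
    exact ⟨a.trans (((QCohLib.hEquiv _ q).trans (extCongrRight (c.app F) q)).trans (QCohLib.hEquiv _ q).symm)⟩
  let eF : QCohLib.HU ((pp ((K U).obj (op (SimplexCategory.mk p)))).obj F) q ⊤ ≃+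
      QCohLib.HU ((CohTop.push π).obj P) q ⊤ := extCongrRight ((ppIso _).app F).symm q
  exact ⟨e1 ≪≫ AddEquiv.toAddCommGrpIso (Y := AddCommGrpCat.of _)
    (eF.trans (e2.trans (e3.trans (AddEquiv.piCongrRight fun σ => (h4 σ).some))))⟩

end CohTopLib.ClosedCover
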