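import Groth.Agent.CohTopLib.Basic
import Groth.Agent.CechLib.Compare

/-!
# Čech acyclicity under surjective restrictions to unions of intersections
-/

universe u
open CategoryTheory CategoryTheory.Limits TopologicalSpace Opposite

namespace CohTopLib

open QCohLib

variable {X : TopCat.{u}} {ι : Type u} (U : ι → Opens X)

/-- The union of a family of opens, to be given the topology generated by the family. -/
def CoarsePts : Type u := ↥(⨆ i, U i)

instance : TopologicalSpace (CoarsePts U) :=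
  generateFrom (Set.range fun i => {x : CoarsePts U | x.1 ∈ U i})

/-- The union of a family of opens with the topology generated by the family. -/
abbrev Coarse : TopCat.{u} := TopCat.of (CoarsePts U)

/-- The identity to the coarse space. -/
def toCoarse : TopCat.of ↥(⨆ i, U i) ⟶ Coarse U :=
  TopCat.ofHom ⟨fun x : ↥(⨆ i, U i) => (x : CoarsePts U), continuous_generateFrom_iff.mpr (by
    rintro _ ⟨i, rfl⟩
    exact (U i).2.preimage continuous_subtype_val)⟩

/-- The members of the family in the coarse space. -/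
def coarseU (i : ι) : Opens (Coarse U) :=
  ⟨{x : CoarsePts U | x.1 ∈ U i}, GenerateOpen.basic _ ⟨i, rfl⟩⟩

/-- The open of `X` underlying an open of the coarse space. -/
def lower (V : Opens (Coarse U)) : Opens X := img (⨆ i, U i) (pre (toCoarse U) V)

theorem mem_lower {V : Opens (Coarse U)} {x : X} :
    x ∈ lower U V ↔ ∃ h : x ∈ (⨆ i, U i : Opens X), Membership.mem (α := CoarsePts U) V ⟨x, h⟩ := by
  constructor
  · rintro ⟨y, hy, rfl⟩
    exact ⟨y.2, hy⟩
  · rintro ⟨h, hx⟩
    exact ⟨⟨x, h⟩, hx, rfl⟩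

theorem lower_le (V : Opens (Coarse U)) : lower U V ≤ ⨆ i, U i := fun _ h => ((mem_lower U).mp h).1

theorem lower_cap {n : ℕ} (J : Fin (n + 1) → ι) :
    lower U (CechLib.cap (coarseU U) J) = CechLib.cap U J := by
  refine le_antisymm ((CechLib.le_cap_iff U).mpr fun a x hx => ?_) fun x hx =>
    (mem_lower U).mpr ⟨CechLib.cap_le_iSup U J hx, ?_⟩
  · obtain ⟨h, hx⟩ := (mem_lower U).mp hx
    exact CechLib.cap_le (coarseU U) J a hx
  · exact (congrArg (Membership.mem · (⟨x, _⟩ : CoarsePts U)) (Opens.coe_iInf (fun a => coarseU U (J a)))).mpr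
      (Set.mem_iInter.mpr fun a => CechLib.cap_le U J a hx)

theorem exists_cap_of_mem (V : Opens (Coarse U)) (x : Coarse U) (hx : x ∈ V) :
    ∃ (p : ℕ) (J : Fin (p + 1) → ι), x.1 ∈ CechLib.cap U J ∧ CechLib.cap U J ≤ lower U V := by
  obtain ⟨s, hs⟩ := V
  suffices h : ∀ x ∈ s, ∃ (p : ℕ) (J : Fin (p + 1) → ι), x.1 ∈ CechLib.cap U J ∧
      ∀ y : Coarse U, y.1 ∈ CechLib.cap U J → y ∈ s by
    obtain ⟨p, J, h1, h2⟩ := h x hx
    exact ⟨p, J, h1, fun y hy => (mem_lower U).mpr ⟨CechLib.cap_le_iSup U J hy, h2 _ hy⟩⟩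
  clear hx x
  induction hs with
  | basic s hs =>
    obtain ⟨i, rfl⟩ := hs
    refine fun x hx => ⟨0, fun _ => i, (CechLib.le_cap_iff U).mpr (fun _ => le_rfl) hx, fun y hy =>
      CechLib.cap_le U (fun _ : Fin 1 => i) 0 hy⟩
  | univ =>
    intro x _
    obtain ⟨i, hi⟩ := Opens.mem_iSup.mp x.2
    exact ⟨0, fun _ => i, (CechLib.le_cap_iff U).mpr (fun _ => le_rfl) hi, fun _ _ => trivial⟩
  | inter s t _ _ ihs iht =>
    intro x hx
    obtain ⟨p, J, hJx, hJ⟩ := ihs x hx.1
    obtain ⟨q, K, hKx, hK⟩ := iht x hx.2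
    let L : Fin (p + 1 + (q + 1)) → ι := Fin.append J K
    have h1 : ∀ a : Fin (p + 1), CechLib.cap U L ≤ U (J a) := fun a => by
      simpa [L] using CechLib.cap_le U L (Fin.castAdd (q + 1) a)
    have h2 : ∀ a : Fin (q + 1), CechLib.cap U L ≤ U (K a) := fun a => by
      simpa [L] using CechLib.cap_le U L (Fin.natAdd (p + 1) a)
    refine ⟨p + 1 + q, L, ?_, fun y hy =>
      ⟨hJ y ((CechLib.le_cap_iff U).mpr h1 hy), hK y ((CechLib.le_cap_iff U).mpr h2 hy)⟩⟩
    refine (CechLib.le_cap_iff U (W := CechLib.cap U J ⊓ CechLib.cap U K)).mpr (fun (a : Fin (p + 1 + (q + 1))) => ?_)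
      ⟨hJx, hKx⟩
    induction a using Fin.addCases with
    | left a => simpa [L] using inf_le_left.trans (CechLib.cap_le U J a)
    | right a => simpa [L] using inf_le_right.trans (CechLib.cap_le U K a)
  | sUnion S _ ih =>
    rintro x ⟨s, hs, hxs⟩
    obtain ⟨p, J, hJx, hJ⟩ := ih s hs x hxs
    exact ⟨p, J, hJx, fun y hy => ⟨s, hs, hJ y hy⟩⟩

variable (F : AbSh X)

/-- The sheaf on the coarse space. -/
noncomputable def coarseSheaf : AbSh (Coarse U) :=
  (pf (toCoarse U)).obj (CohTop.restr F (⨆ i, U i))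

/-- Sections on the coarse space are sections of `F`. -/
noncomputable def toLow (V : Opens (Coarse U)) :
    (coarseSheaf U F).obj.obj (op V) ≃+ F.obj.obj (op (lower U V)) := AddEquiv.refl _

theorem toLow_rs {V W : Opens (Coarse U)} (h : W ≤ V) (h' : lower U W ≤ lower U V)
    (x : (coarseSheaf U F).obj.obj (op V)) :
    toLow U F W (CechLib.rs (coarseSheaf U F).obj h x) = CechLib.rs F.obj h' (toLow U F V x) := rfl

theorem lower_mono {V W : Opens (Coarse U)} (h : W ≤ V) : lower U W ≤ lower U V := fun _ hx =>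
  let ⟨h0, hx⟩ := (mem_lower U).mp hx
  (mem_lower U).mpr ⟨h0, h hx⟩

variable {U F}

theorem isFlasque_coarseSheaf
    (h : ∀ (κ : Type u) (a : κ → Σ p : ℕ, Fin (p + 1) → ι),
      Function.Surjective (F.obj.map (homOfLE
        (iSup_le fun k => (iInf_le _ ⟨0, Nat.succ_pos _⟩).trans (le_iSup U ((a k).2 ⟨0, Nat.succ_pos _⟩)) :
          (⨆ k, ⨅ j, U ((a k).2 j)) ≤ iSup U)).op)) :
    TopCat.Sheaf.IsFlasque (coarseSheaf U F : TopCat.Sheaf AddCommGrpCat (Coarse U)) := by
  refine ⟨fun {V W} i => ?_⟩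
  rw [AddCommGrpCat.epi_iff_surjective]
  suffices hs : ∀ W, Function.Surjective (CechLib.rs F.obj (lower_le U W)) by
    intro s
    obtain ⟨t, rfl⟩ := hs W.unop s
    have hle : lower U W.unop ≤ lower U V.unop := fun x hx =>
      let ⟨h, hx⟩ := (mem_lower U).mp hx
      (mem_lower U).mpr ⟨h, leOfHom i.unop hx⟩
    exact ⟨CechLib.rs F.obj (lower_le U V.unop) t, CechLib.rs_rs F.obj _ hle t⟩
  intro W
  let κ := {a : Σ p : ℕ, Fin (p + 1) → ι // CechLib.cap U a.2 ≤ lower U W}
  have he : lower U W = ⨆ k : κ, ⨅ j, U (k.1.2 j) := by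
    refine le_antisymm (fun x hx => ?_) (iSup_le fun k => k.2)
    obtain ⟨hx0, hxW⟩ := (mem_lower U).mp hx
    obtain ⟨p, J, h1, h2⟩ := exists_cap_of_mem U W ⟨x, hx0⟩ hxW
    exact Opens.mem_iSup.mpr ⟨⟨⟨p, J⟩, h2⟩, h1⟩
  intro s
  obtain ⟨t, ht⟩ := h κ Subtype.val (CechLib.rs F.obj he.ge s)
  refine ⟨t, ?_⟩
  have := congr_arg (CechLib.rs F.obj he.le) ht
  rw [CechLib.rs_rs, CechLib.rs_self] at this
  rw [← this]
  exact (CechLib.rs_rs F.obj (iSup_le fun k : κ => k.2.trans (lower_le U W)) he.le t).symm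

/-- Čech cohomology vanishes under surjective restrictions to unions of intersections. -/
theorem isZero_cechH_of_surjective
    (h : ∀ (κ : Type u) (a : κ → Σ p : ℕ, Fin (p + 1) → ι),
      Function.Surjective (F.obj.map (homOfLE
        (iSup_le fun k => (iInf_le _ ⟨0, Nat.succ_pos _⟩).trans (le_iSup U ((a k).2 ⟨0, Nat.succ_pos _⟩)) :
          (⨆ k, ⨅ j, U ((a k).2 j)) ≤ iSup U)).op)) (p : ℕ) :
    IsZero ((CechLib.cx U F.obj).homology (p + 1)) := by
  have := isFlasque_coarseSheaf h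
  have hz : IsZero ((CechLib.cx (coarseU U) (coarseSheaf U F).obj).homology (p + 1)) := by
    have := QCohLib.subsingleton_of_isFlasque (X := Coarse U) p (coarseSheaf U F) (⨆ i, coarseU U i)
    obtain ⟨e⟩ := CechLib.nonempty_homology_equiv (coarseU U) (p + 1) (coarseSheaf U F)
      (fun n J q => QCohLib.subsingleton_of_isFlasque q (coarseSheaf U F) _)
    have := e.toEquiv.subsingleton
    exact AddCommGrpCat.isZero_of_subsingleton _
  rw [CechLib.isZero_homology_succ_iff] at hz ⊢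
  intro c hc
  let c' : CechLib.Cochain (coarseU U) (coarseSheaf U F).obj (p + 1) := fun J =>
    (toLow U F _).symm (CechLib.rs F.obj (lower_cap U J).le (c J))
  have hc' : CechLib.dd (coarseU U) (coarseSheaf U F).obj (p + 1) c' = 0 := funext fun J => by
    refine (toLow U F _).injective ?_
    rw [Pi.zero_apply, map_zero, CechLib.dd_apply, map_sum]
    have := congr_arg (CechLib.rs F.obj (lower_cap U J).le) (congr_fun hc J)
    rw [Pi.zero_apply, map_zero, CechLib.dd_apply, map_sum] at this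
    refine Eq.trans (Finset.sum_congr rfl fun k _ => ?_) this
    rw [map_zsmul, map_zsmul, toLow_rs U F _ (lower_mono U (CechLib.cap_comp_le _ J _))]
    simp only [c', AddEquiv.apply_symm_apply, CechLib.rs_rs]
  obtain ⟨b', hb'⟩ := hz c' hc'
  refine ⟨fun J => CechLib.rs F.obj (lower_cap U J).ge (toLow U F _ (b' J)), funext fun J => ?_⟩
  have := congr_arg (fun z => CechLib.rs F.obj (lower_cap U J).ge (toLow U F _ z)) (congr_fun hb' J)
  simp only [c', AddEquiv.apply_symm_apply, CechLib.rs_rs, CechLib.rs_self, CechLib.dd_apply,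
    map_sum, map_zsmul] at this
  rw [← this, CechLib.dd_apply]
  refine Finset.sum_congr rfl fun k _ => ?_
  rw [toLow_rs U F _ (lower_mono U (CechLib.cap_comp_le _ J _)), CechLib.rs_rs, CechLib.rs_rs]

end CohTopLib
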