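import Groth.Agent.CohTopLib.FlasqueRes
import Mathlib.CategoryTheory.Limits.ConcreteCategory.Basic
import Mathlib.Topology.NoetherianSpace
import Mathlib.Topology.QuasiSeparated

/-!
# Sections over quasi-compact opens of filtered colimits of abelian sheaves
-/

universe u
open CategoryTheory CategoryTheory.Limits TopologicalSpace Opposite

namespace CohTopLib

open FlasqueRes

variable {X : TopCat.{u}} {J : Type u} [SmallCategory J] [IsFiltered J] {D : J ⥤ CohTop.Ab X}
  {c : Cocone D}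

/-- Restriction of a section. -/
noncomputable abbrev rsS (F : CohTop.Ab X) {V W : Opens X} (h : W ≤ V) (s : F.obj.obj (op V)) :
    F.obj.obj (op W) := F.obj.map (homOfLE h).op s

theorem rsS_app {F G : CohTop.Ab X} (f : F ⟶ G) {V W : Opens X} (h : W ≤ V) (s : F.obj.obj (op V)) :
    f.hom.app (op W) (rsS F h s) = rsS G h (f.hom.app (op V) s) :=
  ConcreteCategory.congr_hom (f.hom.naturality (homOfLE h).op) s

theorem rsS_rsS (F : CohTop.Ab X) {V W Z : Opens X} (h : W ≤ V) (h' : Z ≤ W) (s : F.obj.obj (op V)) :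
    rsS F h' (rsS F h s) = rsS F (h'.trans h) s :=
  (ConcreteCategory.congr_hom (F.obj.map_comp (homOfLE h).op (homOfLE h').op) s).symm

theorem app_map_comp (U : Opens X) {i k l : J} (a : i ⟶ k) (b : k ⟶ l) (s : (D.obj i).obj.obj (op U)) :
    (D.map (a ≫ b)).hom.app (op U) s = (D.map b).hom.app (op U) ((D.map a).hom.app (op U) s) :=
  ConcreteCategory.congr_hom (congrArg (fun φ => φ.hom.app (op U)) (D.map_comp a b)) s

theorem app_w (U : Opens X) {i k : J} (a : i ⟶ k) (s : (D.obj i).obj.obj (op U)) :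
    (c.ι.app k).hom.app (op U) ((D.map a).hom.app (op U) s) = (c.ι.app i).hom.app (op U) s :=
  ConcreteCategory.congr_hom (congrArg (fun φ => φ.hom.app (op U)) (c.w a)) s

theorem germ_stk (x : X) {F G : CohTop.Ab X} (f : F ⟶ G) (U : Opens X) (hx : x ∈ U)
    (s : F.obj.obj (op U)) :
    (stk x).map f (TopCat.Presheaf.germ (X := X) F.obj U x hx s) =
      TopCat.Presheaf.germ (X := X) G.obj U x hx (f.hom.app (op U) s) :=
  TopCat.Presheaf.stalkFunctor_map_germ_apply U x hx f.hom s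

/-- Finitely many maps out of an object can be equalised. -/
theorem exists_common {α : Type*} (t : Finset α) {i : J} {k : α → J} (a : ∀ y, i ⟶ k y) :
    ∃ (K : J) (e : i ⟶ K), ∀ y ∈ t, ∃ b : k y ⟶ K, a y ≫ b = e := by
  classical
  induction t using Finset.induction with
  | empty => exact ⟨i, 𝟙 i, fun y hy => absurd hy (Finset.notMem_empty y)⟩
  | insert y t hy ih =>
    obtain ⟨K, e, he⟩ := ih
    let M := IsFiltered.max K (k y)
    let l : K ⟶ M := IsFiltered.leftToMax _ _
    let r : k y ⟶ M := IsFiltered.rightToMax _ _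
    let q := IsFiltered.coeqHom (e ≫ l) (a y ≫ r)
    refine ⟨_, e ≫ l ≫ q, fun z hz => ?_⟩
    rcases Finset.mem_insert.mp hz with rfl | hz
    · refine ⟨r ≫ q, ?_⟩
      have := IsFiltered.coeq_condition (e ≫ l) (a z ≫ r)
      rw [← Category.assoc, ← Category.assoc]
      exact this.symm
    · obtain ⟨b, hb⟩ := he z hz
      exact ⟨b ≫ l ≫ q, by rw [← Category.assoc, hb]⟩

variable (hc : IsColimit c)

include hc

/-- Sections over a quasi-compact open that agree in the colimit agree at a later stage. -/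
theorem exists_stage_eq (U : Opens X) (hU : IsCompact (U : Set X)) {i : J}
    (s s' : (D.obj i).obj.obj (op U))
    (h : (c.ι.app i).hom.app (op U) s = (c.ι.app i).hom.app (op U) s') :
    ∃ (k : J) (a : i ⟶ k), (D.map a).hom.app (op U) s = (D.map a).hom.app (op U) s' := by
  classical
  have hloc : ∀ y : (U : Set X), ∃ (k : J) (a : i ⟶ k) (W : Opens X) (hW : W ≤ U), y.1 ∈ W ∧
      rsS (D.obj k) hW ((D.map a).hom.app (op U) s) = rsS (D.obj k) hW ((D.map a).hom.app (op U) s') := by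
    rintro ⟨y, hy⟩
    have hc' := isColimitOfPreserves (stk y) hc
    have h0 : ((stk y).mapCocone c).ι.app i (TopCat.Presheaf.germ (X := X) (D.obj i).obj U y hy s) =
        ((stk y).mapCocone c).ι.app i (TopCat.Presheaf.germ (X := X) (D.obj i).obj U y hy s') :=
      (germ_stk y (c.ι.app i) U hy s).trans ((congrArg _ h).trans (germ_stk y (c.ι.app i) U hy s').symm)
    obtain ⟨k₀, a, b, e⟩ := (Concrete.isColimit_rep_eq_iff_exists (D ⋙ stk y) hc' _ _).1 h0
    let a' : i ⟶ IsFiltered.coeq a b := a ≫ IsFiltered.coeqHom a b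
    have hb : a' = b ≫ IsFiltered.coeqHom a b := IsFiltered.coeq_condition a b
    have e1 : (stk y).map (D.map a') (TopCat.Presheaf.germ (X := X) (D.obj i).obj U y hy s) =
        (stk y).map (D.map a') (TopCat.Presheaf.germ (X := X) (D.obj i).obj U y hy s') := by
      calc (stk y).map (D.map a') (TopCat.Presheaf.germ (X := X) (D.obj i).obj U y hy s)
          = (stk y).map (D.map (IsFiltered.coeqHom a b))
              ((stk y).map (D.map a) (TopCat.Presheaf.germ (X := X) (D.obj i).obj U y hy s)) :=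
            ConcreteCategory.congr_hom ((D ⋙ stk y).map_comp a (IsFiltered.coeqHom a b)) _
        _ = (stk y).map (D.map (IsFiltered.coeqHom a b))
              ((stk y).map (D.map b) (TopCat.Presheaf.germ (X := X) (D.obj i).obj U y hy s')) :=
            congrArg _ e
        _ = (stk y).map (D.map a') (TopCat.Presheaf.germ (X := X) (D.obj i).obj U y hy s') := by
            rw [hb]
            exact (ConcreteCategory.congr_hom ((D ⋙ stk y).map_comp b (IsFiltered.coeqHom a b)) _).symm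
    rw [germ_stk, germ_stk] at e1
    obtain ⟨W, hyW, iU, iV, hW⟩ := TopCat.Presheaf.germ_eq (D.obj _).obj y hy hy _ _ e1
    exact ⟨_, a', W, leOfHom iU, hyW, hW⟩
  choose k a W hWU hyW heq using hloc
  obtain ⟨t, ht⟩ := hU.elim_finite_subcover (fun y => (W y : Set X)) (fun y => (W y).2)
    (fun y hy => Set.mem_iUnion.mpr ⟨⟨y, hy⟩, hyW ⟨y, hy⟩⟩)
  obtain ⟨K, e, he⟩ := exists_common t a
  refine ⟨K, e, TopCat.Sheaf.eq_of_locally_eq' (D.obj K : TopCat.Sheaf AddCommGrpCat X)
    (fun y : t => W y.1) U (fun y => homOfLE (hWU y.1)) (fun x hx => ?_) _ _ fun y => ?_⟩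
  · obtain ⟨y, hy, hxy⟩ := Set.mem_iUnion₂.mp (ht hx)
    exact Opens.mem_iSup.mpr ⟨⟨y, hy⟩, hxy⟩
  · obtain ⟨b, hb⟩ := he y.1 y.2
    subst hb
    rw [app_map_comp, app_map_comp]
    change rsS (D.obj K) (hWU y.1) _ = rsS (D.obj K) (hWU y.1) _
    exact (rsS_app _ _ _).symm.trans ((congrArg _ (heq y.1)).trans (rsS_app _ _ _))

/-- Every section over a quasi-compact open of the colimit comes from a stage. -/
theorem exists_stage_section (hqs : ∀ V W : Opens X, IsCompact (V : Set X) → IsCompact (W : Set X) →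
      IsCompact ((V ⊓ W : Opens X) : Set X))
    (hB : Opens.IsBasis {V : Opens X | IsCompact (V : Set X)})
    (U : Opens X) (hU : IsCompact (U : Set X)) (s : c.pt.obj.obj (op U)) :
    ∃ (k : J) (t : (D.obj k).obj.obj (op U)), (c.ι.app k).hom.app (op U) t = s := by
  classical
  have hloc : ∀ y : (U : Set X), ∃ (W : Opens X) (hW : W ≤ U) (_ : IsCompact (W : Set X)) (k : J)
      (t : (D.obj k).obj.obj (op W)), y.1 ∈ W ∧ (c.ι.app k).hom.app (op W) t = rsS c.pt hW s := by
    rintro ⟨y, hy⟩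
    have hc' := isColimitOfPreserves (stk y) hc
    obtain ⟨k, z, hz⟩ := Concrete.isColimit_exists_rep (D ⋙ stk y) hc'
      (TopCat.Presheaf.germ (X := X) c.pt.obj U y hy s)
    obtain ⟨V, hyV, t, rfl⟩ := TopCat.Presheaf.germ_exist (x := y) (D.obj k).obj z
    have e1 := (germ_stk y (c.ι.app k) V hyV t).symm.trans hz
    obtain ⟨W, hyW, iV, iU, hW⟩ := TopCat.Presheaf.germ_eq c.pt.obj y hyV hy _ _ e1
    obtain ⟨W', hW'c, hyW', hle⟩ := Opens.isBasis_iff_nbhd.mp hB hyW
    refine ⟨W', hle.trans (leOfHom iU), hW'c, k, rsS _ (hle.trans (leOfHom iV)) t, hyW', ?_⟩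
    have h2 : rsS c.pt (leOfHom iV) ((c.ι.app k).hom.app (op V) t) = rsS c.pt (leOfHom iU) s := hW
    exact (rsS_app _ _ _).trans ((rsS_rsS c.pt (leOfHom iV) hle _).symm.trans
      ((congrArg _ h2).trans (rsS_rsS c.pt _ _ s)))
  choose W hWU hWc k t hyW ht using hloc
  obtain ⟨S, hS⟩ := hU.elim_finite_subcover (fun y => (W y : Set X)) (fun y => (W y).2)
    (fun y hy => Set.mem_iUnion.mpr ⟨⟨y, hy⟩, hyW ⟨y, hy⟩⟩)
  obtain ⟨K₀, hK₀⟩ := IsFiltered.sup_objs_exists (S.image k)
  let b : ∀ y : S, k y.1 ⟶ K₀ := fun y =>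
    (hK₀ (Finset.mem_image_of_mem k y.2)).some
  let u : ∀ y : S, (D.obj K₀).obj.obj (op (W y.1)) := fun y => (D.map (b y)).hom.app _ (t y.1)
  have hu : ∀ y : S, (c.ι.app K₀).hom.app (op (W y.1)) (u y) = rsS c.pt (hWU y.1) s := fun y =>
    (app_w (W y.1) (b y) (t y.1)).trans (ht y.1)
  have hp : ∀ p : S × S, ∃ (K : J) (a : K₀ ⟶ K),
      (D.map a).hom.app _ (rsS (D.obj K₀) (inf_le_left : W p.1.1 ⊓ W p.2.1 ≤ _) (u p.1)) =
        (D.map a).hom.app _ (rsS (D.obj K₀) (inf_le_right : W p.1.1 ⊓ W p.2.1 ≤ _) (u p.2)) := fun p =>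
    exists_stage_eq hc _ (hqs _ _ (hWc p.1.1) (hWc p.2.1)) _ _ (by
      rw [rsS_app, rsS_app, hu, hu]
      exact (rsS_rsS c.pt _ _ s).trans (rsS_rsS c.pt _ _ s).symm)
  choose kk aa haa using hp
  obtain ⟨K, e, he⟩ := exists_common (Finset.univ : Finset (S × S)) aa
  let v : ∀ y : S, (D.obj K).obj.obj (op (W y.1)) := fun y => (D.map e).hom.app _ (u y)
  have hcomp : TopCat.Presheaf.IsCompatible (D.obj K).obj (fun y : S => W y.1) v := fun y z => by
    obtain ⟨b, hb⟩ := he (y, z) (Finset.mem_univ _)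
    change rsS (D.obj K) inf_le_left (v y) = rsS (D.obj K) inf_le_right (v z)
    change rsS (D.obj K) inf_le_left ((D.map e).hom.app _ (u y)) =
      rsS (D.obj K) inf_le_right ((D.map e).hom.app _ (u z))
    rw [← hb]
    exact (rsS_app _ _ _).symm.trans ((app_map_comp _ (aa (y, z)) b _).trans ((congrArg _ (haa (y, z))).trans
      ((app_map_comp _ (aa (y, z)) b _).symm.trans (rsS_app _ _ _))))
  have hcov : U ≤ ⨆ y : S, W y.1 := fun x hx => by
    obtain ⟨y, hy, hxy⟩ := Set.mem_iUnion₂.mp (hS hx)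
    exact Opens.mem_iSup.mpr ⟨⟨y, hy⟩, hxy⟩
  obtain ⟨r, hr, -⟩ := TopCat.Sheaf.existsUnique_gluing' (D.obj K : TopCat.Sheaf AddCommGrpCat X)
    (fun y : S => W y.1) U (fun y => homOfLE (hWU y.1)) hcov v hcomp
  refine ⟨K, r, TopCat.Sheaf.eq_of_locally_eq' (c.pt : TopCat.Sheaf AddCommGrpCat X)
    (fun y : S => W y.1) U (fun y => homOfLE (hWU y.1)) hcov _ _ fun y => ?_⟩
  change rsS c.pt (hWU y.1) _ = rsS c.pt (hWU y.1) s
  rw [← rsS_app]
  exact (congrArg _ (hr y)).trans ((app_w (W y.1) e (u y)).trans (hu y))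

omit hc in
/-- A filtered colimit of flasque sheaves on a Noetherian space is flasque. -/
theorem isFlasque_of_isColimit [NoetherianSpace X] (hc : IsColimit c)
    (hD : ∀ j, TopCat.Sheaf.IsFlasque (D.obj j : TopCat.Sheaf AddCommGrpCat X)) :
    TopCat.Sheaf.IsFlasque (c.pt : TopCat.Sheaf AddCommGrpCat X) := by
  refine ⟨fun {U V} i => ?_⟩
  rw [AddCommGrpCat.epi_iff_surjective]
  intro s
  have hB : Opens.IsBasis {V : Opens X | IsCompact (V : Set X)} := Opens.isBasis_iff_nbhd.mpr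
    fun {O x} hx => ⟨O, NoetherianSpace.isCompact _, hx, le_rfl⟩
  obtain ⟨k, t, rfl⟩ := exists_stage_section hc (fun _ _ _ _ => NoetherianSpace.isCompact _) hB
    V.unop (NoetherianSpace.isCompact _) s
  obtain ⟨t', rfl⟩ := (AddCommGrpCat.epi_iff_surjective _).mp
    ((hD k).epi i) t
  exact ⟨(c.ι.app k).hom.app U t', (ConcreteCategory.congr_hom ((c.ι.app k).hom.naturality i) t').symm⟩

end CohTopLib
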