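import Mathlib.Algebra.Homology.Homotopy
import Mathlib.CategoryTheory.Abelian.Basic
import Mathlib.CategoryTheory.Limits.Preserves.Shapes.Kernels

/-!
# Resolution of a complex indexed by `ℕ` by mapping cones

Given monomorphisms `η_D : D ⟶ T D`, one builds `G` with `G^k = T (D_k)` and `F ⟶ G`. Under a functor
`Φ` in which every `η_D` splits, the map becomes a homotopy equivalence.
-/

open CategoryTheory CategoryTheory.Limits

namespace CohTopLib.ConeRes

universe v v' w w'

variable {A : Type w} [Category.{v} A] [Abelian A] (T : A → A) (η : ∀ D, D ⟶ T D)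
  (F : CochainComplex A ℕ)

/-- The data of the construction in degree `k`. -/
structure St (k : ℕ) where
  D : A
  δ : D ⟶ F.X (k + 1)
  hδ : δ ≫ F.d (k + 1) (k + 2) = 0
  α : F.X k ⟶ D
  hα : α ≫ δ = F.d k (k + 1)

variable {F} {k : ℕ}

/-- The map to the next mapping cone term. -/
noncomputable abbrev dbar (S : St F k) : S.D ⟶ F.X (k + 1) ⊞ T S.D :=
  biprod.lift (-S.δ) (η S.D)

/-- The next step. -/
noncomputable def next (S : St F k) : St F (k + 1) where
  D := cokernel (dbar T η S)
  δ := cokernel.desc _ (biprod.fst ≫ F.d (k + 1) (k + 2)) (by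
    rw [biprod.lift_fst_assoc, Preadditive.neg_comp, S.hδ, neg_zero])
  hδ := by
    rw [← cancel_epi (cokernel.π (dbar T η S)), cokernel.π_desc_assoc, Category.assoc,
      F.d_comp_d, comp_zero, comp_zero]
  α := biprod.inl ≫ cokernel.π _
  hα := by rw [Category.assoc, cokernel.π_desc, biprod.inl_fst_assoc]

/-- The projection to the next step. -/
noncomputable def π (S : St F k) : F.X (k + 1) ⊞ T S.D ⟶ (next T η S).D := cokernel.π _

theorem epi_π (S : St F k) : Epi (π T η S) := inferInstanceAs (Epi (cokernel.π _))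

theorem dbar_π (S : St F k) : dbar T η S ≫ π T η S = 0 := cokernel.condition _

theorem π_δ (S : St F k) : π T η S ≫ (next T η S).δ = biprod.fst ≫ F.d (k + 1) (k + 2) :=
  cokernel.π_desc _ _ _

theorem next_α (S : St F k) : (next T η S).α = biprod.inl ≫ π T η S := rfl

theorem rel (S : St F k) : η S.D ≫ biprod.inr ≫ π T η S = S.δ ≫ biprod.inl ≫ π T η S := by
  have h := dbar_π T η S
  rw [dbar, biprod.lift_eq, Preadditive.add_comp, Preadditive.neg_comp, Preadditive.neg_comp,
    Category.assoc, Category.assoc, neg_add_eq_zero] at h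
  exact h.symm

theorem inr_π_δ (S : St F k) : biprod.inr ≫ π T η S ≫ (next T η S).δ = 0 := by
  rw [π_δ, biprod.inr_fst_assoc, zero_comp]

variable (F)

/-- All the steps. -/
noncomputable def st : (k : ℕ) → St F k
  | 0 => { D := F.X 0, δ := F.d 0 1, hδ := F.d_comp_d 0 1 2, α := 𝟙 _, hα := Category.id_comp _ }
  | k + 1 => next T η (st k)

/-- The differential of the resolution. -/
noncomputable def dT (k : ℕ) : T (st T η F k).D ⟶ T (st T η F (k + 1)).D :=
  biprod.inr ≫ π T η (st T η F k) ≫ η (next T η (st T η F k)).D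

theorem dT_dT (k : ℕ) : dT T η F k ≫ dT T η F (k + 1) = 0 := by
  let S := st T η F k
  change (biprod.inr ≫ π T η S ≫ η (next T η S).D) ≫
    biprod.inr ≫ π T η (next T η S) ≫ η (next T η (next T η S)).D = 0
  have h := congrArg (fun m => biprod.inr ≫ π T η S ≫ m ≫ η (next T η (next T η S)).D)
    (rel T η (next T η S))
  simp only [Category.assoc] at h ⊢
  rw [h]
  simp only [← Category.assoc]
  rw [Category.assoc biprod.inr, inr_π_δ]
  simp

/-- The resolution. -/
noncomputable def res : CochainComplex A ℕ :=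
  CochainComplex.of (fun k => T (st T η F k).D) (dT T η F) (dT_dT T η F)

theorem res_d (k : ℕ) : (res T η F).d k (k + 1) = dT T η F k :=
  CochainComplex.of_d (fun k => T (st T η F k).D) (dT T η F) k

theorem comm_succ (S : St F k) : (S.α ≫ η S.D) ≫ biprod.inr ≫ π T η S ≫ η (next T η S).D =
    F.d k (k + 1) ≫ (next T η S).α ≫ η (next T η S).D := by
  rw [next_α, ← S.hα]
  have h := congrArg (fun m => S.α ≫ m ≫ η (next T η S).D) (rel T η S)
  simp only [Category.assoc] at h ⊢
  exact h

/-- The map to the resolution. -/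
noncomputable def toRes : F ⟶ res T η F where
  f k := (st T η F k).α ≫ η (st T η F k).D
  comm' i j h := by
    subst h
    exact (congrArg (((st T η F i).α ≫ η (st T η F i).D) ≫ ·) (res_d T η F i)).trans
      (comm_succ T η F (st T η F i))

section Split

variable {B : Type w'} [Category.{v'} B] [Abelian B] (Φ : A ⥤ B) [Φ.Additive]
  [∀ {P Q : A} (f : P ⟶ Q), PreservesColimit (parallelPair f 0) Φ]
  (r : ∀ D : A, Φ.obj (T D) ⟶ Φ.obj D) (hr : ∀ D, Φ.map (η D) ≫ r D = 𝟙 _)

variable {F}

/-- Retraction of `dbar`. -/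
noncomputable def rho (S : St F k) : Φ.obj (F.X (k + 1) ⊞ T S.D) ⟶ Φ.obj S.D :=
  Φ.map biprod.snd ≫ r S.D

include hr in
theorem dbar_rho (S : St F k) : Φ.map (dbar T η S) ≫ rho T Φ r S = 𝟙 _ := by
  rw [rho, ← Category.assoc, ← Functor.map_comp, biprod.lift_snd, hr]

/-- The section of the projection. -/
noncomputable def sigma (S : St F k) : Φ.obj (next T η S).D ⟶ Φ.obj (F.X (k + 1) ⊞ T S.D) :=
  (PreservesCokernel.iso Φ (dbar T η S)).hom ≫
    cokernel.desc _ (𝟙 _ - rho T Φ r S ≫ Φ.map (dbar T η S)) (by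
      rw [Preadditive.comp_sub, ← Category.assoc, dbar_rho T η Φ r hr, Category.id_comp,
        Category.comp_id, sub_self])

theorem π_sigma (S : St F k) :
    Φ.map (π T η S) ≫ sigma T η Φ r hr S = 𝟙 _ - rho T Φ r S ≫ Φ.map (dbar T η S) := by
  change Φ.map (cokernel.π _) ≫ (PreservesCokernel.iso Φ (dbar T η S)).hom ≫ _ = _
  rw [PreservesCokernel.π_iso_hom_assoc, cokernel.π_desc]

theorem epi_map_π (S : St F k) : Epi (Φ.map (π T η S)) := by
  have e := PreservesCokernel.π_iso_hom Φ (dbar T η S)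
  rw [← Iso.eq_comp_inv] at e
  change Epi (Φ.map (cokernel.π _))
  rw [e]
  infer_instance

theorem π_sigma_fst (S : St F k) :
    Φ.map (π T η S) ≫ sigma T η Φ r hr S ≫ Φ.map biprod.fst =
      Φ.map biprod.fst + Φ.map biprod.snd ≫ r S.D ≫ Φ.map S.δ := by
  rw [← Category.assoc, π_sigma, Preadditive.sub_comp, Category.id_comp, Category.assoc,
    ← Functor.map_comp, biprod.lift_fst, Functor.map_neg, Preadditive.comp_neg, sub_neg_eq_add,
    rho, Category.assoc]

theorem π_sigma_snd (S : St F k) :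
    Φ.map (π T η S) ≫ sigma T η Φ r hr S ≫ Φ.map biprod.snd =
      Φ.map biprod.snd - Φ.map biprod.snd ≫ r S.D ≫ Φ.map (η S.D) := by
  rw [← Category.assoc, π_sigma, Preadditive.sub_comp, Category.id_comp, Category.assoc,
    ← Functor.map_comp, biprod.lift_snd, rho, Category.assoc]

theorem sigma_π (S : St F k) : sigma T η Φ r hr S ≫ Φ.map (π T η S) = 𝟙 _ := by
  have := epi_map_π T η Φ S
  rw [← cancel_epi (Φ.map (π T η S)), ← Category.assoc, π_sigma, Preadditive.sub_comp,
    Category.id_comp, Category.assoc, ← Functor.map_comp, dbar_π, Functor.map_zero, comp_zero,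
    sub_zero, Category.comp_id]

theorem sigma_fst_d (S : St F k) :
    (sigma T η Φ r hr S ≫ Φ.map biprod.fst) ≫ Φ.map (F.d (k + 1) (k + 2)) =
      Φ.map (next T η S).δ := by
  have := epi_map_π T η Φ S
  rw [← cancel_epi (Φ.map (π T η S)), ← Category.assoc, π_sigma_fst, Preadditive.add_comp,
    Category.assoc, Category.assoc, ← Φ.map_comp S.δ, S.hδ, Functor.map_zero, comp_zero,
    comp_zero, add_zero, ← Φ.map_comp, ← Φ.map_comp, π_δ]

theorem α_sigma_fst (S : St F k) :
    Φ.map (next T η S).α ≫ sigma T η Φ r hr S ≫ Φ.map biprod.fst = 𝟙 _ := by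
  rw [next_α, Functor.map_comp, Category.assoc, π_sigma_fst, Preadditive.comp_add,
    ← Functor.map_comp, biprod.inl_fst, Φ.map_id, ← Category.assoc (Φ.map biprod.inl),
    ← Functor.map_comp, biprod.inl_snd, Functor.map_zero, zero_comp, add_zero]

include hr in
theorem dT_r (S : St F k) :
    Φ.map (biprod.inr ≫ π T η S ≫ η (next T η S).D) ≫ r _ = Φ.map biprod.inr ≫ Φ.map (π T η S) := by
  simp only [Functor.map_comp, Category.assoc, hr, Category.comp_id]

theorem dT_inv (S : St F k) :
    Φ.map (biprod.inr ≫ π T η S ≫ η (next T η S).D) ≫ r _ ≫ sigma T η Φ r hr S ≫ Φ.map biprod.fst =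
      r S.D ≫ Φ.map S.δ := by
  rw [← Category.assoc, dT_r T η Φ r hr, Category.assoc, π_sigma_fst, Preadditive.comp_add,
    ← Functor.map_comp, biprod.inr_fst, Functor.map_zero, zero_add, ← Category.assoc,
    ← Functor.map_comp, biprod.inr_snd, Φ.map_id, Category.id_comp]

theorem dT_htpy (S : St F k) :
    Φ.map (biprod.inr ≫ π T η S ≫ η (next T η S).D) ≫ r _ ≫ sigma T η Φ r hr S ≫ Φ.map biprod.snd =
      𝟙 _ - r S.D ≫ Φ.map (η S.D) := by
  rw [← Category.assoc, dT_r T η Φ r hr, Category.assoc, π_sigma_snd, Preadditive.comp_sub,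
    ← Functor.map_comp, biprod.inr_snd, Φ.map_id, ← Category.assoc (Φ.map biprod.inr),
    ← Functor.map_comp, biprod.inr_snd, Φ.map_id, Category.id_comp]

theorem decomp (S : St F k) :
    (r (next T η S).D ≫ sigma T η Φ r hr S ≫ Φ.map biprod.fst) ≫
        Φ.map ((next T η S).α ≫ η (next T η S).D) +
      (r (next T η S).D ≫ sigma T η Φ r hr S ≫ Φ.map biprod.snd) ≫
        Φ.map (biprod.inr ≫ π T η S ≫ η (next T η S).D) =
      r (next T η S).D ≫ Φ.map (η (next T η S).D) := by
  have h : Φ.map biprod.fst ≫ Φ.map biprod.inl + Φ.map biprod.snd ≫ Φ.map biprod.inr =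
      𝟙 (Φ.obj (F.X (k + 1) ⊞ T S.D)) := by
    rw [← Functor.map_comp, ← Functor.map_comp, ← Functor.map_add, biprod.total, Φ.map_id]
  have e := congrArg (fun m => r (next T η S).D ≫ sigma T η Φ r hr S ≫ m ≫ Φ.map (π T η S) ≫
    Φ.map (η (next T η S).D)) h
  simp only [Preadditive.add_comp, Preadditive.comp_add, Category.assoc, Category.id_comp] at e
  rw [← Category.assoc (sigma T η Φ r hr S) (Φ.map (π T η S)), sigma_π, Category.id_comp] at e
  simp only [next_α, Functor.map_comp, Category.assoc]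
  exact e

variable (F)

/-- The inverse up to homotopy, in degree `k`. -/
noncomputable def invF : (k : ℕ) → (Φ.obj (T (st T η F k).D) ⟶ Φ.obj (F.X k))
  | 0 => r (F.X 0)
  | k + 1 => r (next T η (st T η F k)).D ≫ sigma T η Φ r hr (st T η F k) ≫ Φ.map biprod.fst

/-- The homotopy, in degree `k`. -/
noncomputable def htpy (k : ℕ) : Φ.obj (T (st T η F (k + 1)).D) ⟶ Φ.obj (T (st T η F k).D) :=
  -(r (next T η (st T η F k)).D ≫ sigma T η Φ r hr (st T η F k) ≫ Φ.map biprod.snd)

theorem invF_d (k : ℕ) :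
    invF T η F Φ r hr k ≫ Φ.map (F.d k (k + 1)) =
      r (st T η F k).D ≫ Φ.map (st T η F k).δ :=
  match k with
  | 0 => rfl
  | k + 1 => ((Category.assoc _ _ _).trans
      (congrArg (r _ ≫ ·) (sigma_fst_d T η Φ r hr (st T η F k))))

/-- The inverse up to homotopy. -/
noncomputable def inv : (Φ.mapHomologicalComplex (ComplexShape.up ℕ)).obj (res T η F) ⟶
    (Φ.mapHomologicalComplex (ComplexShape.up ℕ)).obj F where
  f k := invF T η F Φ r hr k
  comm' i j h := by
    subst h
    exact (invF_d T η F Φ r hr i).trans ((dT_inv T η Φ r hr (st T η F i)).symm.trans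
      (congrArg (fun m => Φ.map m ≫ invF T η F Φ r hr (i + 1)) (res_d T η F i).symm))

include hr in
theorem map_comp_inv :
    (Φ.mapHomologicalComplex (ComplexShape.up ℕ)).map (toRes T η F) ≫ inv T η F Φ r hr = 𝟙 _ :=
  HomologicalComplex.hom_ext _ _ fun k => by
    change Φ.map ((st T η F k).α ≫ η (st T η F k).D) ≫ invF T η F Φ r hr k = 𝟙 (Φ.obj (F.X k))
    match k with
    | 0 =>
      change Φ.map (𝟙 (F.X 0) ≫ η (F.X 0)) ≫ r (F.X 0) = _
      rw [Category.id_comp, hr]
    | k + 1 =>
      change Φ.map ((next T η (st T η F k)).α ≫ η (next T η (st T η F k)).D) ≫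
        r _ ≫ sigma T η Φ r hr (st T η F k) ≫ Φ.map biprod.fst = _
      rw [Functor.map_comp, Category.assoc, ← Category.assoc (Φ.map (η _)), hr, Category.id_comp,
        α_sigma_fst]

theorem comm_zero : invF T η F Φ r hr 0 ≫ Φ.map ((st T η F 0).α ≫ η (st T η F 0).D) =
    Φ.map (dT T η F 0) ≫ htpy T η F Φ r hr 0 + 0 + 𝟙 (Φ.obj (T (st T η F 0).D)) := by
  have h : invF T η F Φ r hr 0 ≫ Φ.map ((st T η F 0).α ≫ η (st T η F 0).D) =
      r (st T η F 0).D ≫ Φ.map (η (st T η F 0).D) :=
    congrArg (fun m => r (F.X 0) ≫ Φ.map m) (Category.id_comp _)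
  have e : Φ.map (dT T η F 0) ≫ htpy T η F Φ r hr 0 =
      -(𝟙 _ - r (st T η F 0).D ≫ Φ.map (η (st T η F 0).D)) :=
    (Preadditive.comp_neg _ _).trans (congrArg Neg.neg (dT_htpy T η Φ r hr (st T η F 0)))
  rw [e, h]
  abel

theorem comm_add_one (j : ℕ) :
    invF T η F Φ r hr (j + 1) ≫ Φ.map ((st T η F (j + 1)).α ≫ η (st T η F (j + 1)).D) =
      Φ.map (dT T η F (j + 1)) ≫ htpy T η F Φ r hr (j + 1) +
        htpy T η F Φ r hr j ≫ Φ.map (dT T η F j) + 𝟙 (Φ.obj (T (st T η F (j + 1)).D)) := by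
  have e : Φ.map (dT T η F (j + 1)) ≫ htpy T η F Φ r hr (j + 1) =
      -(𝟙 _ - r (st T η F (j + 1)).D ≫ Φ.map (η (st T η F (j + 1)).D)) :=
    (Preadditive.comp_neg _ _).trans (congrArg Neg.neg (dT_htpy T η Φ r hr (st T η F (j + 1))))
  have d : invF T η F Φ r hr (j + 1) ≫ Φ.map ((st T η F (j + 1)).α ≫ η (st T η F (j + 1)).D) +
      (-htpy T η F Φ r hr j) ≫ Φ.map (dT T η F j) =
        r (st T η F (j + 1)).D ≫ Φ.map (η (st T η F (j + 1)).D) :=
    (congrArg (fun m => _ + m ≫ Φ.map (dT T η F j)) (neg_neg _)).trans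
      (decomp T η Φ r hr (st T η F j))
  rw [e, ← d, Preadditive.neg_comp]
  abel

/-- Under `Φ` the map to the resolution is a homotopy equivalence. -/
noncomputable def homotopyEquiv :
    HomotopyEquiv ((Φ.mapHomologicalComplex (ComplexShape.up ℕ)).obj F)
      ((Φ.mapHomologicalComplex (ComplexShape.up ℕ)).obj (res T η F)) where
  hom := (Φ.mapHomologicalComplex (ComplexShape.up ℕ)).map (toRes T η F)
  inv := inv T η F Φ r hr
  homotopyHomInvId := Homotopy.ofEq (map_comp_inv T η F Φ r hr)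
  homotopyInvHomId :=
    { hom := fun i j => if h : j + 1 = i then
        eqToHom (congrArg (fun n => Φ.obj (T (st T η F n).D)) h.symm) ≫ htpy T η F Φ r hr j else 0
      zero := fun i j h => dif_neg h
      comm := fun k => by
        rw [dNext_eq _ (show (ComplexShape.up ℕ).Rel k (k + 1) from rfl)]
        rw [dif_pos rfl]
        refine Eq.trans ?_ (congrArg (fun m => m + _ + _) ((congrArg (fun m => Φ.map m ≫ _)
          (res_d T η F k)).trans (congrArg (Φ.map (dT T η F k) ≫ ·)
            (Category.id_comp (htpy T η F Φ r hr k)))).symm)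
        match k with
        | 0 =>
          rw [prevD_eq_zero _ _ (by simp)]
          exact comm_zero T η F Φ r hr
        | j + 1 =>
          rw [prevD_eq _ (show (ComplexShape.up ℕ).Rel j (j + 1) from rfl), dif_pos rfl]
          exact (comm_add_one T η F Φ r hr j).trans (congrArg (fun m => _ + m + _)
            ((congrArg (fun m => _ ≫ Φ.map m) (res_d T η F j)).trans
              (congrArg (· ≫ Φ.map (dT T η F j)) (Category.id_comp (htpy T η F Φ r hr j)))).symm) }

end Split

end CohTopLib.ConeRes
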