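import Groth.Agent.CohTopLib.FibreCoh
import Groth.Agent.CohTopLib.ColimCoh
import Groth.Agent.CohTopLib.Coarse
import Mathlib.Topology.Spectral.ConstructibleTopology
import Mathlib.Topology.Spectral.Hom

/-!
# Generalisation-closed quasi-compact subspaces of spectral spaces
-/

set_option autoImplicit false
set_option linter.unusedSectionVars false
set_option linter.style.haveILetI false
set_option backward.isDefEq.respectTransparency false
set_option backward.isDefEq.respectTransparency.types false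

universe u
open CategoryTheory CategoryTheory.Limits TopologicalSpace Opposite
open Topology

namespace CohTopLib.SpecGen

open GermFam

variable {X : TopCat.{u}} [SpectralSpace X]

/-- Constructible compactness: containing the intersection of compact opens is a finite condition. -/
theorem exists_finset {ι : Type*} (V : ι → Opens X) (hV : ∀ i, IsCompact (V i : Set X)) (A O : Opens X)
    (hA : IsCompact (A : Set X)) (h : ∀ x ∈ A, (∀ i, x ∈ V i) → x ∈ O) :
    ∃ s : Finset ι, ∀ x ∈ A, (∀ i ∈ s, x ∈ V i) → x ∈ O := by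
  classical
  let p : WithConstructibleTopology X → X := WithTopology.ofTopology
  have ho : ∀ B : Set X, IsOpen B → IsCompact B → IsOpen (p ⁻¹' B) := fun B hB hBc =>
    WithConstructibleTopology.isOpen_iff.mpr (IsCompact.isOpen_constructibleTopology_of_isOpen hBc hB :)
  have hcl : ∀ B : Set X, IsOpen B → IsCompact B → IsClosed (p ⁻¹' B) := fun B hB hBc =>
    ⟨WithConstructibleTopology.isOpen_iff.mpr
      (IsCompact.isOpen_constructibleTopology_of_isClosed (s := Bᶜ) (by rwa [compl_compl]) hB.isClosed_compl :)⟩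
  have hO : IsOpen (p ⁻¹' (O : Set X)) := by
    rw [isOpen_iff_forall_mem_open]
    intro x hx
    obtain ⟨B, ⟨hB1, hB2⟩, hxB, hBO⟩ :=
      PrespectralSpace.isTopologicalBasis.exists_subset_of_mem_open (u := (O : Set X)) hx O.2
    exact ⟨p ⁻¹' B, Set.preimage_mono hBO, ho B hB1 hB2, hxB⟩
  have hK : IsCompact (p ⁻¹' ((A : Set X) ∩ (O : Set X)ᶜ)) := by
    rw [Set.preimage_inter, Set.preimage_compl]
    exact ((hcl _ A.2 hA).inter hO.isClosed_compl).isCompact
  obtain ⟨s, hs⟩ := hK.elim_finite_subcover (fun i => (p ⁻¹' (V i : Set X))ᶜ)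
    (fun i => (hcl _ (V i).2 (hV i)).isOpen_compl) (fun x hx => by
      by_contra hn
      simp only [Set.mem_iUnion, Set.mem_compl_iff, not_exists, not_not] at hn
      exact hx.2 (h (p x) hx.1 hn))
  refine ⟨s, fun x hxA hxV => ?_⟩
  by_contra hxO
  obtain ⟨x', rfl⟩ := WithTopology.ofTopology_surjective (constructibleTopology X) x
  have := hs (show x' ∈ p ⁻¹' ((A : Set X) ∩ (O : Set X)ᶜ) from ⟨hxA, hxO⟩)
  simp only [Set.mem_iUnion] at this
  obtain ⟨i, hi, hx'⟩ := this
  exact hx' (hxV i hi)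

/-- A compact open between a compact set and an open. -/
theorem exists_qc_between {K : Set X} (hK : IsCompact K) (O : Opens X) (h : K ⊆ O) :
    ∃ V : Opens X, K ⊆ V ∧ V ≤ O ∧ IsCompact (V : Set X) := by
  classical
  have hB : ∀ x : X, x ∈ O → ∃ B : Opens X, IsCompact (B : Set X) ∧ x ∈ B ∧ B ≤ O := fun x hx => by
    obtain ⟨B, ⟨hB1, hB2⟩, hxB, hBO⟩ :=
      PrespectralSpace.isTopologicalBasis.exists_subset_of_mem_open (u := (O : Set X)) hx O.2
    exact ⟨⟨B, hB1⟩, hB2, hxB, hBO⟩
  choose B hBc hxB hBO using hB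
  obtain ⟨s, hs⟩ := hK.elim_finite_subcover (fun x : {x : X // x ∈ O} => (B x.1 x.2 : Set X))
    (fun x => (B x.1 x.2).2) (fun x hx => Set.mem_iUnion.mpr ⟨⟨x, h hx⟩, hxB _ _⟩)
  refine ⟨⟨⋃ x ∈ s, (B x.1 x.2 : Set X), isOpen_biUnion fun x _ => (B x.1 x.2).2⟩, hs, ?_,
    s.finite_toSet.isCompact_biUnion fun x _ => hBc _ _⟩
  exact Set.iUnion₂_subset fun x _ => hBO x.1 x.2

/-- Points outside are cut off by compact open neighbourhoods. -/
theorem exists_qc_not_mem {K : Set X} (hK : IsCompact K) (hg : StableUnderGeneralization K) {x : X}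
    (hx : x ∉ K) : ∃ V : Opens X, K ⊆ V ∧ IsCompact (V : Set X) ∧ x ∉ V := by
  obtain ⟨V, h1, h2, h3⟩ := exists_qc_between hK ⟨(closure {x})ᶜ, isClosed_closure.isOpen_compl⟩
    fun y hy hyx => hx (hg (specializes_iff_mem_closure.mpr hyx) hy)
  exact ⟨V, h1, h3, fun hxV => (h2 hxV : x ∈ (closure {x})ᶜ) (subset_closure rfl)⟩

/-- The finite intersection of compact opens. -/
theorem isCompact_finset_inf {ι : Type*} (s : Finset ι) (V : ι → Opens X)
    (hV : ∀ i ∈ s, IsCompact (V i : Set X)) : IsCompact ((s.inf V : Opens X) : Set X) := by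
  classical
  induction s using Finset.induction with
  | empty => simpa using isCompact_univ
  | insert a s has ih =>
    rw [Finset.inf_insert]
    exact ColimCoh.qs_inf _ _ (hV a (Finset.mem_insert_self a s))
      (ih fun i hi => hV i (Finset.mem_insert_of_mem hi))

theorem mem_finset_inf {ι : Type*} (s : Finset ι) (V : ι → Opens X) {x : X} :
    x ∈ (s.inf V : Opens X) ↔ ∀ i ∈ s, x ∈ V i := by
  classical
  induction s using Finset.induction with
  | empty => simp
  | insert a s has ih =>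
    rw [Finset.inf_insert, Finset.forall_mem_insert, ← ih]
    rfl

/-- Containing a generalisation-closed compact set inside a compact open is an open condition. -/
theorem exists_qc_nhd {K : Set X} (hK : IsCompact K) (hg : StableUnderGeneralization K) (A O : Opens X)
    (hA : IsCompact (A : Set X)) (h : ∀ x ∈ A, x ∈ K → x ∈ O) :
    ∃ V : Opens X, K ⊆ V ∧ IsCompact (V : Set X) ∧ ∀ x ∈ A, x ∈ V → x ∈ O := by
  let ι := {V : Opens X // K ⊆ V ∧ IsCompact (V : Set X)}
  obtain ⟨s, hs⟩ := exists_finset (fun V : ι => V.1) (fun V => V.2.2) A O hA fun x hxA hxV => h x hxA (by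
    by_contra hx
    obtain ⟨V, h1, h2, h3⟩ := exists_qc_not_mem hK hg hx
    exact h3 (hxV ⟨V, h1, h2⟩))
  exact ⟨s.inf fun V => V.1, fun x hx => (mem_finset_inf s _).mpr fun V _ => V.2.1 hx,
    isCompact_finset_inf s _ fun V _ => V.2.2, fun x hxA hxV => hs x hxA ((mem_finset_inf s _).mp hxV)⟩

/-- Intersections of compact opens are compact. -/
theorem isCompact_iInter {ι : Type*} (V : ι → Opens X) (hV : ∀ i, IsCompact (V i : Set X)) :
    IsCompact (⋂ i, (V i : Set X)) := by
  classical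
  refine isCompact_of_finite_subcover fun {κ} U hUo hU => ?_
  obtain ⟨s, hs⟩ := exists_finset V hV ⊤ ⟨⋃ k, U k, isOpen_iUnion hUo⟩ isCompact_univ
    fun x _ hx => hU (Set.mem_iInter.mpr hx)
  obtain ⟨t, ht⟩ := (isCompact_finset_inf s V fun i _ => hV i).elim_finite_subcover U hUo
    fun x hx => hs x trivial ((mem_finset_inf s V).mp hx)
  exact ⟨t, fun x hx => ht ((mem_finset_inf s V).mpr fun i _ => Set.mem_iInter.mp hx i)⟩

variable {Z : TopCat.{u}} {e : Z ⟶ X}

theorem stableUnderGeneralization_image (he : IsInducing e) (hg : StableUnderGeneralization (Set.range e))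
    (U : Opens Z) : StableUnderGeneralization (e '' (U : Set Z)) := by
  rintro x y hxy ⟨z, hz, rfl⟩
  obtain ⟨w, rfl⟩ := hg hxy ⟨z, rfl⟩
  exact ⟨w, (he.specializes_iff.mp hxy).mem_open U.2 hz, rfl⟩

/-- A section over a compact open of the subspace extends to a neighbourhood. -/
theorem exists_extension (he : IsInducing e) (hg : StableUnderGeneralization (Set.range e))
    {F : QCohLib.AbSh X} {U : Opens Z} (hU : IsCompact (U : Set Z))
    (σ : ((CohTop.pull e).obj F).obj.obj (op U)) :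
    ∃ (V : Opens X) (t : F.obj.obj (op V)) (hV : U ≤ (Opens.map e).obj V), IsCompact (V : Set X) ∧
      ((CohTop.pull e).obj F).obj.map (homOfLE hV).op (pullSec e F V t) = σ := by
  classical
  let φ : ∀ z : Z, Stk ((CohTop.pull e).obj F) z := fun z =>
    if h : z ∈ U then germ _ U z h σ else 0
  have hfam : IsFam e F U (down e F φ) := isFam_down e F he fun z hz =>
    ⟨U, hz, σ, fun y hy1 hy => (show φ y = _ from dif_pos hy1).symm⟩
  have hex : ∀ z : U, ∃ (A : Opens X) (t : F.obj.obj (op A)), e z.1 ∈ A ∧ IsCompact (A : Set X) ∧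
      ∀ y ∈ U, ∀ hy : e y ∈ A, germ F A (e y) hy t = down e F φ y := fun z => by
    obtain ⟨W, hW, t, ht⟩ := hfam z.1 z.2
    obtain ⟨B, ⟨hB1, hB2⟩, hzB, hBW⟩ :=
      PrespectralSpace.isTopologicalBasis.exists_subset_of_mem_open (u := (W : Set X)) hW W.2
    refine ⟨⟨B, hB1⟩, F.obj.map (homOfLE (hBW : (⟨B, hB1⟩ : Opens X) ≤ W)).op t, hzB, hB2, fun y hy hyB => ?_⟩
    exact (germ_rs F _ _ hyB t).trans (ht y hy (hBW hyB))
  choose A t hA hAc ht using hex
  obtain ⟨I, hI⟩ := hU.elim_finite_subcover (fun z : U => e ⁻¹' (A z : Set X))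
    (fun z => (A z).2.preimage e.hom.continuous) (fun z hz => Set.mem_iUnion.mpr ⟨⟨z, hz⟩, hA ⟨z, hz⟩⟩)
  have hKc : IsCompact (e '' (U : Set Z)) := hU.image e.hom.continuous
  have hKg := stableUnderGeneralization_image he hg U
  have hpair : ∀ p : U × U, ∃ V : Opens X, e '' (U : Set Z) ⊆ V ∧ IsCompact (V : Set X) ∧
      ∀ x ∈ V, ∀ (h1 : x ∈ A p.1) (h2 : x ∈ A p.2), germ F _ x h1 (t p.1) = germ F _ x h2 (t p.2) := fun p => by
    let O : Set X := {x | ∃ (h1 : x ∈ A p.1) (h2 : x ∈ A p.2), germ F _ x h1 (t p.1) = germ F _ x h2 (t p.2)}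
    have hO : IsOpen O := isOpen_iff_mem_nhds.mpr fun x ⟨hx, hx', hxe⟩ => by
      obtain ⟨W', hxW', hle, hW'⟩ := exists_eq_nhd F hx hx' (t p.1) (t p.2) hxe
      exact Filter.mem_of_superset (W'.isOpen.mem_nhds hxW') fun y hy =>
        ⟨(hle hy).1, (hle hy).2, hW' y hy _ _⟩
    obtain ⟨V, h1, h2, h3⟩ := exists_qc_nhd hKc hKg (A p.1 ⊓ A p.2) ⟨O, hO⟩
      (ColimCoh.qs_inf _ _ (hAc _) (hAc _)) (by
        rintro x ⟨hx1, hx2⟩ ⟨z, hz, rfl⟩
        exact ⟨hx1, hx2, (ht p.1 z hz hx1).trans (ht p.2 z hz hx2).symm⟩)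
    exact ⟨V, h1, h2, fun x hx hx1 hx2 => (h3 x ⟨hx1, hx2⟩ hx).choose_spec.choose_spec⟩
  choose P hP1 hP2 hP3 using hpair
  let O : {z // z ∈ I} → Opens X := fun i => A i.1 ⊓ (I ×ˢ I).inf P
  have hKP : ∀ x ∈ e '' (U : Set Z), x ∈ (I ×ˢ I).inf P := fun x hx =>
    (mem_finset_inf _ _).mpr fun p _ => hP1 p hx
  let τ : ∀ i, F.obj.obj (op (O i)) := fun i => F.obj.map (homOfLE (inf_le_left : O i ≤ A i.1)).op (t i.1)
  obtain ⟨r, hr, -⟩ := TopCat.Sheaf.existsUnique_gluing' (F : TopCat.Sheaf AddCommGrpCat X) O (iSup O)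
    (fun i => homOfLE (le_iSup O i)) le_rfl τ (fun b c => by
      refine TopCat.Presheaf.section_ext (F : TopCat.Sheaf AddCommGrpCat X) _ _ _ fun x hx => ?_
      refine (germ_rs F (inf_le_left : O b ⊓ O c ≤ O b) x hx (τ b)).trans ?_
      refine Eq.trans ?_ (germ_rs F (inf_le_right : O b ⊓ O c ≤ O c) x hx (τ c)).symm
      refine (germ_rs F (inf_le_left : O b ≤ A b.1) x hx.1 (t b.1)).trans ?_
      refine Eq.trans ?_ (germ_rs F (inf_le_left : O c ≤ A c.1) x hx.2 (t c.1)).symm
      exact hP3 (b.1, c.1) x ((mem_finset_inf _ _).mp hx.1.2 (b.1, c.1)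
        (Finset.mem_product.mpr ⟨b.2, c.2⟩)) _ _)
  have hUV : U ≤ (Opens.map e).obj (iSup O) := fun z hz => by
    obtain ⟨i, hi, hzi⟩ := Set.mem_iUnion₂.mp (hI hz)
    exact Opens.mem_iSup.mpr ⟨⟨i, hi⟩, hzi, hKP _ ⟨z, hz, rfl⟩⟩
  refine ⟨iSup O, r, hUV, ?_, ?_⟩
  · rw [Opens.coe_iSup]
    exact isCompact_iUnion fun i => ColimCoh.qs_inf _ _ (hAc _) (isCompact_finset_inf _ _ fun p _ => hP2 p)
  refine TopCat.Presheaf.section_ext ((CohTop.pull e).obj F : TopCat.Sheaf AddCommGrpCat Z) _ _ _ fun z hz => ?_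
  refine (germ_rs _ hUV z hz _).trans ((pullStalk_germ e F z _ (hUV hz) r).symm.trans ?_)
  obtain ⟨i, hi⟩ := Opens.mem_iSup.mp (hUV hz : e z ∈ iSup O)
  have : germ F (iSup O) (e z) (hUV hz) r = down e F φ z :=
    ((germ_rs F (le_iSup O i) (e z) hi r).symm.trans (congrArg (germ F (O i) (e z) hi) (hr i))).trans
      ((germ_rs F (inf_le_left : O i ≤ A i.1) (e z) hi (t i.1)).trans (ht i.1 z hz hi.1))
  rw [this, pullStalk_down]
  exact dif_pos hz

theorem qs_inf_sub (he : IsInducing e) (hg : StableUnderGeneralization (Set.range e)) {V W : Opens Z}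
    (hV : IsCompact (V : Set Z)) (hW : IsCompact (W : Set Z)) : IsCompact ((V ⊓ W : Opens Z) : Set Z) := by
  have hgi := fun U : Opens Z => stableUnderGeneralization_image he hg U
  refine he.isCompact_iff.mpr ?_
  let ι := {A : Opens X // (e '' (V : Set Z) ⊆ A ∨ e '' (W : Set Z) ⊆ A) ∧ IsCompact (A : Set X)}
  suffices e '' ((V ⊓ W : Opens Z) : Set Z) = ⋂ A : ι, (A.1 : Set X) by
    rw [this]; exact isCompact_iInter _ fun A => A.2.2
  refine Set.Subset.antisymm ?_ fun x hx => ?_
  · rintro _ ⟨z, ⟨hzV, hzW⟩, rfl⟩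
    exact Set.mem_iInter.mpr fun A => A.2.1.elim (fun h => h ⟨z, hzV, rfl⟩) (fun h => h ⟨z, hzW, rfl⟩)
  · have h1 : x ∈ e '' (V : Set Z) := by
      by_contra hx'
      obtain ⟨A, hA1, hA2, hA3⟩ := exists_qc_not_mem (hV.image e.hom.continuous) (hgi V) hx'
      exact hA3 (Set.mem_iInter.mp hx ⟨A, Or.inl hA1, hA2⟩)
    have h2 : x ∈ e '' (W : Set Z) := by
      by_contra hx'
      obtain ⟨A, hA1, hA2, hA3⟩ := exists_qc_not_mem (hW.image e.hom.continuous) (hgi W) hx'
      exact hA3 (Set.mem_iInter.mp hx ⟨A, Or.inr hA1, hA2⟩)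
    obtain ⟨z, hz, rfl⟩ := h1
    obtain ⟨w, hw, hwz⟩ := h2
    refine ⟨z, ⟨hz, ?_⟩, rfl⟩
    exact ((he.specializes_iff.mp (specializes_of_eq hwz.symm)).mem_open W.2 hw : z ∈ W)

/-- Compact opens are a basis of the subspace. -/
theorem exists_qc_basis (he : IsInducing e) (hg : StableUnderGeneralization (Set.range e))
    (hc : IsCompact (Set.range e)) {U : Opens Z} {z : Z} (hz : z ∈ U) :
    ∃ V : Opens Z, IsCompact (V : Set Z) ∧ z ∈ V ∧ V ≤ U := by
  obtain ⟨O, hO, hOU⟩ := he.isOpen_iff.mp U.2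
  obtain ⟨B, ⟨hB1, hB2⟩, hzB, hBO⟩ := PrespectralSpace.isTopologicalBasis.exists_subset_of_mem_open
    (u := O) (show e z ∈ O from (Set.ext_iff.mp hOU z).mpr hz) hO
  refine ⟨⟨e ⁻¹' B, hB1.preimage e.hom.continuous⟩, he.isCompact_iff.mpr ?_, hzB,
    fun w hw => (Set.ext_iff.mp hOU w).mp (hBO hw)⟩
  let ι := Option {A : Opens X // Set.range e ⊆ A ∧ IsCompact (A : Set X)}
  let V : ι → Opens X := fun i => i.elim ⟨B, hB1⟩ fun A => A.1
  suffices e '' (e ⁻¹' B) = ⋂ i, (V i : Set X) by
    change IsCompact (e '' (e ⁻¹' B))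
    rw [this]
    exact isCompact_iInter _ fun i => by
      cases i with
      | none => exact hB2
      | some A => exact A.2.2
  rw [Set.image_preimage_eq_inter_range]
  refine Set.Subset.antisymm (fun x hx => Set.mem_iInter.mpr fun i => ?_) fun x hx => ⟨Set.mem_iInter.mp hx none, ?_⟩
  · cases i with
    | none => exact hx.1
    | some A => exact A.2.1 hx.2
  · by_contra hx'
    obtain ⟨A, hA1, hA2, hA3⟩ := exists_qc_not_mem hc hg hx'
    exact hA3 (Set.mem_iInter.mp hx (some ⟨A, hA1, hA2⟩))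

/-- Flasque sheaves restrict to acyclic sheaves. -/
theorem subsingleton_HU_pull_of_isFlasque (he : IsInducing e) (hg : StableUnderGeneralization (Set.range e))
    (hc : IsCompact (Set.range e)) (I : QCohLib.AbSh X)
    [TopCat.Sheaf.IsFlasque (I : TopCat.Sheaf AddCommGrpCat X)] (q : ℕ) :
    Subsingleton (QCohLib.HU ((CohTop.pull e).obj I) (q + 1) ⊤) := by
  classical
  refine CechLib.subsingleton_HU_of_cartan {V : Opens Z | IsCompact (V : Set Z)}
    (fun κ V => Finite κ ∧ ∀ i, IsCompact (V i : Set Z)) ?_ ?_ _ ?_ q ⊤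
    (he.isCompact_iff.mpr (by rwa [Opens.coe_top, Set.image_univ]))
  · rintro κ V ⟨-, hV⟩ p a
    change IsCompact (CechLib.cap V a : Set Z)
    induction p with
    | zero =>
      have h : CechLib.cap V a = V (a 0) := le_antisymm (CechLib.cap_le V a 0)
        ((CechLib.le_cap_iff V).mpr fun b => by rw [Fin.fin_one_eq_zero b])
      rw [h]; exact hV _
    | succ p ih =>
      have h : CechLib.cap V a = V (a 0) ⊓ CechLib.cap V (fun b => a b.succ) :=
        le_antisymm (le_inf (CechLib.cap_le V a 0) ((CechLib.le_cap_iff V).mpr fun b => CechLib.cap_le V a b.succ))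
          ((CechLib.le_cap_iff V).mpr fun b => by
            cases b using Fin.cases with
            | zero => exact inf_le_left
            | succ b => exact inf_le_right.trans (CechLib.cap_le V (fun c => a c.succ) b))
      rw [h]
      exact qs_inf_sub he hg (hV _) (ih _)
  · rintro U hU κ W rfl
    have hB : ∀ z : (iSup W : Opens Z), ∃ k, ∃ B : Opens Z, IsCompact (B : Set Z) ∧ z.1 ∈ B ∧ B ≤ W k := fun z => by
      obtain ⟨k, hk⟩ := Opens.mem_iSup.mp z.2
      exact ⟨k, exists_qc_basis he hg hc hk⟩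
    choose k B hB hzB hBW using hB
    obtain ⟨s, hs⟩ := hU.elim_finite_subcover (fun z : (iSup W : Opens Z) => (B z : Set Z)) (fun z => (B z).2)
      (fun z hz => Set.mem_iUnion.mpr ⟨⟨z, hz⟩, hzB _⟩)
    refine ⟨{z // z ∈ s}, fun z => B z.1, ⟨inferInstance, fun z => hB _⟩, le_antisymm (iSup_le fun z => ?_) ?_,
      fun z => ⟨k z.1, hBW z.1⟩⟩
    · exact (hBW z.1).trans (le_iSup W _)
    · intro z hz
      obtain ⟨i, hi, hzi⟩ := Set.mem_iUnion₂.mp (hs hz)
      exact Opens.mem_iSup.mpr ⟨⟨i, hi⟩, hzi⟩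
  · rintro κ V ⟨hκ, hV⟩ p
    refine CohTopLib.isZero_cechH_of_surjective (fun μ a σ => ?_) p
    have hcov : IsCompact ((⨆ m, ⨅ j, V ((a m).2 j) : Opens Z) : Set Z) := by
      rw [Opens.coe_iSup]
      haveI := Fintype.ofFinite κ
      let S : μ → Finset κ := fun m => Finset.univ.image (a m).2
      have heq : ∀ m, (⨅ j, V ((a m).2 j)) = (S m).inf V := fun m => by
        rw [Finset.inf_image, Finset.inf_univ_eq_iInf]; rfl
      simp only [heq]
      rw [show (⋃ m, (((S m).inf V : Opens Z) : Set Z)) = ⋃ T ∈ Set.range S, ((T.inf V : Opens Z) : Set Z) by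
        ext z; simp]
      refine (Set.toFinite _).isCompact_biUnion ?_
      rintro _ ⟨m, rfl⟩
      refine (?_ : ∀ T : Finset κ, T.Nonempty → IsCompact ((T.inf V : Opens Z) : Set Z)) (S m)
        (Finset.univ_nonempty.image _)
      intro T hT
      induction hT using Finset.Nonempty.cons_induction with
      | singleton i => rw [Finset.inf_singleton]; exact hV i
      | cons i T hiT hT ih => rw [Finset.inf_cons]; exact qs_inf_sub he hg (hV i) ih
    obtain ⟨A, t, hA, -, ht⟩ := exists_extension he hg hcov σ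
    obtain ⟨T, hT⟩ := (AddCommGrpCat.epi_iff_surjective (I.obj.map (homOfLE (le_top : A ≤ ⊤)).op)).mp
      ((‹TopCat.Sheaf.IsFlasque (I : TopCat.Sheaf AddCommGrpCat X)›).epi (homOfLE (le_top : A ≤ ⊤)).op) t
    refine ⟨((CohTop.pull e).obj I).obj.map (homOfLE (show iSup V ≤ (Opens.map e).obj ⊤ from fun _ _ => trivial)).op
      (pullSec e I ⊤ T), ?_⟩
    rw [← ht, ← hT]
    refine Eq.trans ?_ (FibreCoh.pullSec_res e (homOfLE (le_top : A ≤ ⊤)).op T hA (fun _ _ => trivial)).symm
    exact (ConcreteCategory.congr_hom (((CohTop.pull e).obj I).obj.map_comp _ _) _).symm.trans rfl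

section Near

variable (e)
variable (P : ObjectProperty (Opens X)ᵒᵖ) (hP : ∀ U, P U → Set.range e ⊆ (U.unop : Set X))

/-- Restriction to the subspace. -/
noncomputable def nearCocone (F : QCohLib.AbSh X) : Cocone (P.ι ⋙ F.obj) where
  pt := (FibreCoh.GZ e).obj F
  ι :=
    { app := fun U => ((TopCat.Sheaf.pullbackPushforwardAdjunction AddCommGrpCat.{u} e).unit.app F).hom.app U.obj ≫
        ((CohTop.pull e).obj F).obj.map
          (homOfLE (fun z _ => hP _ U.property ⟨z, rfl⟩ : (⊤ : Opens Z) ≤ (Opens.map e).obj U.obj.unop)).op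
      naturality := fun U V i => by
        ext s
        exact FibreCoh.pullSec_res e i.hom s _ _ }

/-- Sections near the subspace, along a family of neighbourhoods. -/
noncomputable abbrev nearPre : ((Opens X)ᵒᵖ ⥤ AddCommGrpCat.{u}) ⥤ AddCommGrpCat.{u} :=
  (Functor.whiskeringLeft _ _ AddCommGrpCat.{u}).obj P.ι ⋙ colim

variable (hPcof : ∀ O : Opens X, Set.range e ⊆ (O : Set X) → ∃ U : Opens X, U ≤ O ∧ P (op U))
  [IsFiltered P.FullSubcategory]
  (he : IsInducing e) (hg : StableUnderGeneralization (Set.range e)) (hc : IsCompact (Set.range e))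

include hPcof he hg hc in
theorem isIso_nearDesc (F : QCohLib.AbSh X) :
    IsIso (colimit.desc (P.ι ⋙ F.obj) (nearCocone e P hP F)) := by
  refine (ConcreteCategory.isIso_iff_bijective _).mpr ⟨(injective_iff_map_eq_zero _).mpr fun a ha => ?_,
    fun σ => ?_⟩
  · obtain ⟨U, s, rfl⟩ := Concrete.colimit_exists_rep (P.ι ⋙ F.obj) a
    obtain ⟨U', hle, hU', h0⟩ := FibreCoh.exists_zero_nhd e (fun z => hP _ U.property ⟨z, rfl⟩) s
      ((ConcreteCategory.congr_hom (colimit.ι_desc (nearCocone e P hP F) U) s).symm.trans ha)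
    obtain ⟨U₂, hle₂, hU₂⟩ := hPcof U' (Set.range_subset_iff.mpr hU')
    let U'' : P.FullSubcategory := ⟨op U₂, hU₂⟩
    let i : U ⟶ U'' := ObjectProperty.homMk (homOfLE (hle₂.trans hle)).op
    refine (ConcreteCategory.congr_hom (colimit.w (P.ι ⋙ F.obj) i) s).symm.trans ?_
    refine (congrArg (colimit.ι (P.ι ⋙ F.obj) U'') ?_).trans (map_zero _)
    refine Eq.trans ?_ ((congrArg (F.obj.map (homOfLE hle₂).op) h0).trans (map_zero (F.obj.map (homOfLE hle₂).op).hom))
    exact ConcreteCategory.congr_hom (F.obj.map_comp (homOfLE hle).op (homOfLE hle₂).op) s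
  · obtain ⟨V, t, hV, -, ht⟩ := exists_extension he hg (U := ⊤)
      (he.isCompact_iff.mpr (by rwa [Opens.coe_top, Set.image_univ])) σ
    obtain ⟨U, hle, hU⟩ := hPcof V (Set.range_subset_iff.mpr fun z => hV trivial)
    refine ⟨colimit.ι (P.ι ⋙ F.obj) (⟨op U, hU⟩ : P.FullSubcategory) (F.obj.map (homOfLE hle).op t), ?_⟩
    refine (ConcreteCategory.congr_hom (colimit.ι_desc (nearCocone e P hP F) _) _).trans ?_
    exact (FibreCoh.pullSec_res e (homOfLE hle).op t _ _).trans ht

/-- Sections near the subspace are sections on it. -/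
noncomputable def nearIso :
    sheafToPresheaf (Opens.grothendieckTopology X) AddCommGrpCat.{u} ⋙ nearPre P ≅ FibreCoh.GZ e :=
  haveI := isIso_nearDesc e P hP hPcof he hg hc
  NatIso.ofComponents (fun F => asIso (colimit.desc (P.ι ⋙ F.obj) (nearCocone e P hP F)))
    (fun {F G} φ => by
      refine colimit.hom_ext fun U => ?_
      change colimit.ι _ U ≫ colim.map _ ≫ colimit.desc _ _ = colimit.ι _ U ≫ colimit.desc _ _ ≫ _
      rw [colimit.ι_map_assoc, colimit.ι_desc, colimit.ι_desc_assoc]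
      ext s
      change ((CohTop.pull e).obj G).obj.map _ (((TopCat.Sheaf.pullbackPushforwardAdjunction
        AddCommGrpCat.{u} e).unit.app G).hom.app U.obj (φ.hom.app U.obj s)) =
        ((CohTop.pull e).map φ).hom.app (op ⊤) (((CohTop.pull e).obj F).obj.map _
          (((TopCat.Sheaf.pullbackPushforwardAdjunction AddCommGrpCat.{u} e).unit.app F).hom.app U.obj s))
      rw [NatTrans.naturality_apply]
      refine congrArg _ ?_
      exact ConcreteCategory.congr_hom (congrArg (fun ψ => ψ.hom.app U.obj)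
        ((TopCat.Sheaf.pullbackPushforwardAdjunction AddCommGrpCat.{u} e).unit.naturality φ)) s)

end Near

include Z in
theorem nonempty_rightDerived_GZ (he : IsInducing e) (hg : StableUnderGeneralization (Set.range e))
    (hc : IsCompact (Set.range e)) (F : QCohLib.AbSh X) (p : ℕ) :
    Nonempty (((FibreCoh.GZ e).rightDerived p).obj F ≅
      AddCommGrpCat.of (CohTop.H ((CohTop.pull e).obj F) p)) := by
  obtain ⟨i⟩ := SpSeqLib.nonempty_rightDerived_comp_iso (FibreCoh.secTop Z)
    (CohTop.pull e) (fun Q hQ q hq => by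
      obtain ⟨k⟩ := FibreCoh.nonempty_rightDerived_secTop Z ((CohTop.pull e).obj Q) q
      haveI : TopCat.Sheaf.IsFlasque (Q : TopCat.Sheaf AddCommGrpCat X) :=
        haveI : Injective Q := hQ
        QCohLib.isFlasque_of_injective Q
      obtain ⟨m, rfl⟩ := Nat.exists_eq_succ_of_ne_zero hq.ne'
      haveI := subsingleton_HU_pull_of_isFlasque he hg hc Q m
      exact (AddCommGrpCat.isZero_of_subsingleton _).of_iso k) F p
  obtain ⟨j⟩ := FibreCoh.nonempty_rightDerived_secTop Z ((CohTop.pull e).obj F) p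
  exact ⟨i ≪≫ j ≪≫ (QCohLib.hEquiv _ p).symm.toAddCommGrpIso⟩

section Stalk

variable (e)
variable {Y : TopCat.{u}} (f : X ⟶ Y) (y : Y) (hey : ∀ z, f (e z) ⤳ y)

/-- Restriction of germs of the direct image. -/
noncomputable def stalkCocone (F : QCohLib.AbSh X) :
    Cocone ((OpenNhds.inclusion y).op ⋙ ((CohTop.push f).obj F).obj) where
  pt := (FibreCoh.GZ e).obj F
  ι :=
    { app := fun V =>
        ((TopCat.Sheaf.pullbackPushforwardAdjunction AddCommGrpCat.{u} e).unit.app F).hom.app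
            (op ((Opens.map f).obj V.unop.1)) ≫
          ((CohTop.pull e).obj F).obj.map (homOfLE (fun z _ => show f (e z) ∈ V.unop.1 from
            (hey z).mem_open V.unop.1.2 V.unop.2 :
            (⊤ : Opens Z) ≤ (Opens.map e).obj ((Opens.map f).obj V.unop.1))).op
      naturality := fun V W i => by
        ext s
        exact FibreCoh.pullSec_res e ((Opens.map f).map ((OpenNhds.inclusion y).map i.unop)).op s _ _ }

variable (htube : ∀ U : Opens X, (∀ z, e z ∈ U) → ∃ V : Opens Y, y ∈ V ∧ (Opens.map f).obj V ≤ U)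
  (he : IsInducing e) (hg : StableUnderGeneralization (Set.range e)) (hc : IsCompact (Set.range e))

include htube he hg hc in
theorem isIso_stalkDesc (F : QCohLib.AbSh X) :
    IsIso (colimit.desc _ (stalkCocone e f y hey F)) := by
  refine (ConcreteCategory.isIso_iff_bijective _).mpr ⟨(injective_iff_map_eq_zero _).mpr fun a ha => ?_,
    fun σ => ?_⟩
  · obtain ⟨V, s, rfl⟩ := Concrete.colimit_exists_rep ((OpenNhds.inclusion y).op ⋙ ((CohTop.push f).obj F).obj) a
    obtain ⟨U', hle, hU', h0⟩ := FibreCoh.exists_zero_nhd e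
      (U := (Opens.map f).obj V.unop.1) (fun z => (hey z).mem_open V.unop.1.2 V.unop.2) s
      ((ConcreteCategory.congr_hom (colimit.ι_desc (stalkCocone e f y hey F) V) s).symm.trans ha)
    obtain ⟨W, hyW, hW⟩ := htube U' hU'
    let V' : OpenNhds y := ⟨V.unop.1 ⊓ W, V.unop.2, hyW⟩
    let i : V ⟶ op V' := (homOfLE (show V' ≤ V.unop from (inf_le_left : V.unop.1 ⊓ W ≤ V.unop.1)) : V' ⟶ V.unop).op
    refine (ConcreteCategory.congr_hom (colimit.w ((OpenNhds.inclusion y).op ⋙ ((CohTop.push f).obj F).obj) i) s).symm.trans ?_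
    refine (congrArg (colimit.ι ((OpenNhds.inclusion y).op ⋙ ((CohTop.push f).obj F).obj) (op V')) ?_).trans (map_zero _)
    have hle' : (Opens.map f).obj V'.1 ≤ U' := fun x hx => hW hx.2
    refine Eq.trans ?_ ((congrArg (F.obj.map (homOfLE hle').op) h0).trans (map_zero (F.obj.map (homOfLE hle').op).hom))
    exact ConcreteCategory.congr_hom (F.obj.map_comp (homOfLE hle).op (homOfLE hle').op) s
  · obtain ⟨U, t, hU, -, ht⟩ := exists_extension he hg (U := ⊤)
      (he.isCompact_iff.mpr (by rwa [Opens.coe_top, Set.image_univ])) σ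
    obtain ⟨W, hyW, hW⟩ := htube U fun z => hU trivial
    refine ⟨colimit.ι ((OpenNhds.inclusion y).op ⋙ ((CohTop.push f).obj F).obj) (op (⟨W, hyW⟩ : OpenNhds y))
      (F.obj.map (homOfLE hW).op t), ?_⟩
    refine (ConcreteCategory.congr_hom (colimit.ι_desc (stalkCocone e f y hey F) _) _).trans ?_
    refine Eq.trans ?_ ht
    exact FibreCoh.pullSec_res e (homOfLE hW).op t _ _

/-- The stalk of the direct image is the sections on the subspace. -/
noncomputable def stalkPushIso : CohTop.push f ⋙ FlasqueRes.stk y ≅ FibreCoh.GZ e :=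
  haveI := isIso_stalkDesc e f y hey htube he hg hc
  NatIso.ofComponents (fun F => asIso (colimit.desc _ (stalkCocone e f y hey F)))
    (fun {F G} φ => by
      refine TopCat.Presheaf.stalk_hom_ext _ fun V hV => ?_
      ext s
      change colimit.desc _ (stalkCocone e f y hey G)
          ((TopCat.Presheaf.stalkFunctor AddCommGrpCat.{u} y).map ((CohTop.push f).map φ).hom
            (TopCat.Presheaf.germ ((CohTop.push f).obj F).obj V y hV s)) =
        (FibreCoh.GZ e).map φ (colimit.desc _ (stalkCocone e f y hey F)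
            (TopCat.Presheaf.germ ((CohTop.push f).obj F).obj V y hV s))
      rw [TopCat.Presheaf.stalkFunctor_map_germ_apply]
      refine (ConcreteCategory.congr_hom (colimit.ι_desc (stalkCocone e f y hey G) (op (⟨V, hV⟩ : OpenNhds y))) _).trans ?_
      refine Eq.trans ?_ (congrArg _ (ConcreteCategory.congr_hom (colimit.ι_desc (stalkCocone e f y hey F) (op (⟨V, hV⟩ : OpenNhds y))) _)).symm
      change ((CohTop.pull e).obj G).obj.map _ (((TopCat.Sheaf.pullbackPushforwardAdjunction
        AddCommGrpCat.{u} e).unit.app G).hom.app _ (φ.hom.app _ s)) =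
        ((CohTop.pull e).map φ).hom.app (op ⊤) (((CohTop.pull e).obj F).obj.map _
          (((TopCat.Sheaf.pullbackPushforwardAdjunction AddCommGrpCat.{u} e).unit.app F).hom.app _ s))
      rw [NatTrans.naturality_apply]
      refine congrArg _ ?_
      exact ConcreteCategory.congr_hom (congrArg (fun ψ => ψ.hom.app (op ((Opens.map f).obj V)))
        ((TopCat.Sheaf.pullbackPushforwardAdjunction AddCommGrpCat.{u} e).unit.naturality φ)) s)

theorem nonempty_stalk_Rpush_iso (hey : ∀ z, f (e z) ⤳ y)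
    (htube : ∀ U : Opens X, (∀ z, e z ∈ U) → ∃ V : Opens Y, y ∈ V ∧ (Opens.map f).obj V ≤ U)
    (he : IsInducing e) (hg : StableUnderGeneralization (Set.range e)) (hc : IsCompact (Set.range e))
    (F : QCohLib.AbSh X) (p : ℕ) :
    Nonempty (CohTop.stalk ((CohTop.Rpush f p).obj F) y ≅ ((FibreCoh.GZ e).rightDerived p).obj F) := by
  haveI : PreservesFiniteColimits (FlasqueRes.stk y) :=
    haveI := (Adjunction.ofIsLeftAdjoint (FlasqueRes.stk y)).leftAdjoint_preservesColimits
    inferInstance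
  haveI : (FlasqueRes.stk y).PreservesHomology := Functor.preservesHomologyOfExact _
  exact ⟨((Groth.Agent.RightDerCompLib.rightDerivedCompExact (CohTop.push f) (FlasqueRes.stk y) p).app F).symm ≪≫
    (Groth.Agent.RightDerCompLib.rightDerivedCongr (stalkPushIso e f y hey htube he hg hc) p).app F⟩

/-- Preimages of small neighbourhoods of a point under a spectral map. -/
theorem exists_tube [SpectralSpace Y] (hf : IsSpectralMap f) (y : Y) (U : Opens X)
    (hU : ∀ x, f x ⤳ y → x ∈ U) : ∃ V : Opens Y, y ∈ V ∧ (Opens.map f).obj V ≤ U := by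
  let ι := {V : Opens Y // y ∈ V ∧ IsCompact (V : Set Y)}
  obtain ⟨s, hs⟩ := exists_finset (fun V : ι => (Opens.map f).obj V.1)
    (fun V => hf.isCompact_preimage_of_isOpen V.1.2 V.2.2) ⊤ U isCompact_univ fun x _ hx => hU x
      (specializes_iff_forall_open.mpr fun O hO hyO => by
        obtain ⟨B, ⟨hB1, hB2⟩, hyB, hBO⟩ :=
          PrespectralSpace.isTopologicalBasis.exists_subset_of_mem_open (u := O) hyO hO
        exact hBO (hx ⟨⟨B, hB1⟩, hyB, hB2⟩))
  refine ⟨s.inf fun V => V.1, (mem_finset_inf s _).mpr fun V _ => V.2.1, fun x hx => hs x trivial fun V hV => ?_⟩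
  exact (mem_finset_inf s _).mp (show f x ∈ s.inf fun V => V.1 from hx) V hV

/-- The points mapping to generalisations of a point form a compact set. -/
theorem isCompact_preimage_gen [SpectralSpace Y] (hf : IsSpectralMap f) (y : Y) :
    IsCompact {x : X | f x ⤳ y} := by
  refine isCompact_of_finite_subcover fun {κ} U hUo hU => ?_
  obtain ⟨V, hyV, hV⟩ := exists_tube f hf y ⟨⋃ k, U k, isOpen_iUnion hUo⟩ fun x hx => hU hx
  obtain ⟨B, ⟨hB1, hB2⟩, hyB, hBV⟩ :=
    PrespectralSpace.isTopologicalBasis.exists_subset_of_mem_open (u := (V : Set Y)) hyV V.2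
  obtain ⟨t, ht⟩ := (hf.isCompact_preimage_of_isOpen hB1 hB2).elim_finite_subcover U hUo
    fun x hx => hV (show f x ∈ V from hBV hx)
  exact ⟨t, fun x hx => ht (hx.mem_open hB1 hyB)⟩

end Stalk

end CohTopLib.SpecGen
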