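import Groth.Agent.CohTopLib.SubSheaf
import Groth.Agent.CohTopLib.SpecGen

/-!
# Constructibly-locally-given families of germs
-/

set_option autoImplicit false
set_option linter.unusedSectionVars false
set_option linter.style.haveILetI false
set_option backward.isDefEq.respectTransparency false
set_option backward.isDefEq.respectTransparency.types false

universe u
open CategoryTheory CategoryTheory.Limits TopologicalSpace Opposite
open Topology

namespace CohTopLib.ConsLoc

open GermFam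

variable {X : TopCat.{u}} [SpectralSpace X]

/-- Sheaves with surjective restrictions between compact opens are acyclic on compact opens. -/
theorem subsingleton_HU_of_surjective (G : QCohLib.AbSh X)
    (h : ∀ (U V : Opens X) (hle : V ≤ U), IsCompact (U : Set X) → IsCompact (V : Set X) →
      Function.Surjective (G.obj.map (homOfLE hle).op))
    (q : ℕ) (U : Opens X) (hU : IsCompact (U : Set X)) : Subsingleton (QCohLib.HU G (q + 1) U) := by
  classical
  refine CechLib.subsingleton_HU_of_cartan {V : Opens X | IsCompact (V : Set X)}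
    (fun κ V => Finite κ ∧ ∀ i, IsCompact (V i : Set X)) ?_ ?_ _ ?_ q U hU
  · rintro κ V ⟨-, hV⟩ p a
    exact ColimCoh.isCompact_cap V hV a
  · rintro U hU κ W rfl
    have hB : ∀ z : (iSup W : Opens X), ∃ k, ∃ B : Opens X, IsCompact (B : Set X) ∧ z.1 ∈ B ∧ B ≤ W k := fun z => by
      obtain ⟨k, hk⟩ := Opens.mem_iSup.mp z.2
      obtain ⟨B, hB, hzB, hle⟩ := Opens.isBasis_iff_nbhd.mp (ColimCoh.isBasis_compact (X := X)) hk
      exact ⟨k, B, hB, hzB, hle⟩
    choose k B hB hzB hBW using hB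
    obtain ⟨s, hs⟩ := hU.elim_finite_subcover (fun z : (iSup W : Opens X) => (B z : Set X)) (fun z => (B z).2)
      (fun z hz => Set.mem_iUnion.mpr ⟨⟨z, hz⟩, hzB _⟩)
    refine ⟨{z // z ∈ s}, fun z => B z.1, ⟨inferInstance, fun z => hB _⟩, le_antisymm (iSup_le fun z => ?_) ?_,
      fun z => ⟨k z.1, hBW z.1⟩⟩
    · exact (hBW z.1).trans (le_iSup W _)
    · intro z hz
      obtain ⟨i, hi, hzi⟩ := Set.mem_iUnion₂.mp (hs hz)
      exact Opens.mem_iSup.mpr ⟨⟨i, hi⟩, hzi⟩
  · rintro κ V ⟨hκ, hV⟩ p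
    refine CohTopLib.isZero_cechH_of_surjective (fun μ a => h _ _ _ ?_ ?_) p
    · rw [Opens.coe_iSup]
      exact isCompact_iUnion hV
    · haveI := Fintype.ofFinite κ
      rw [Opens.coe_iSup]
      let S : μ → Finset κ := fun m => Finset.univ.image (a m).2
      have heq : ∀ m, (⨅ j, V ((a m).2 j)) = (S m).inf V := fun m => by
        rw [Finset.inf_image, Finset.inf_univ_eq_iInf]; rfl
      simp only [heq]
      rw [show (⋃ m, (((S m).inf V : Opens X) : Set X)) = ⋃ T ∈ Set.range S, ((T.inf V : Opens X) : Set X) by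
        ext z; simp]
      exact (Set.toFinite _).isCompact_biUnion fun T _ => SpecGen.isCompact_finset_inf T V fun i _ => hV i

variable (F : QCohLib.AbSh X)

/-- The family is given near each point, for the constructible topology, by sections. -/
def IsCL (U : Opens X) (f : ∀ x : U, Stk F x.1) : Prop :=
  ∀ x : U, ∃ (A B : Opens X) (hA : A ≤ U) (t : F.obj.obj (op A)), IsCompact (A : Set X) ∧
    IsCompact (B : Set X) ∧ x.1 ∈ A ∧ x.1 ∉ B ∧
      ∀ (y : X) (hy : y ∈ A), y ∉ B → f ⟨y, hA hy⟩ = germ F A y hy t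

/-- The condition defining the sheaf of such families. -/
noncomputable def cond : SubSheaf.Cond (CechLib.gd F) where
  ok U :=
    { carrier := {f | IsCL F U f}
      zero_mem' := fun x => by
        obtain ⟨A, hA, hxA, hle⟩ := Opens.isBasis_iff_nbhd.mp (ColimCoh.isBasis_compact (X := X)) x.2
        exact ⟨A, ⊥, hle, 0, hA, isCompact_empty, hxA, fun h => h, fun y hy _ => (map_zero _).symm⟩
      add_mem' := fun {f g} hf hg x => by
        obtain ⟨A, B, hA, t, hAc, hBc, hxA, hxB, ht⟩ := hf x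
        obtain ⟨A', B', hA', t', hAc', hBc', hxA', hxB', ht'⟩ := hg x
        refine ⟨A ⊓ A', B ⊔ B', inf_le_left.trans hA,
          F.obj.map (homOfLE (inf_le_left : A ⊓ A' ≤ A)).op t + F.obj.map (homOfLE (inf_le_right : A ⊓ A' ≤ A')).op t',
          ColimCoh.qs_inf _ _ hAc hAc', by rw [Opens.coe_sup]; exact hBc.union hBc', ⟨hxA, hxA'⟩,
          fun h => h.elim hxB hxB', fun y hy hyB => ?_⟩
        refine Eq.trans ?_ (map_add (TopCat.Presheaf.germ (X := X) F.obj (A ⊓ A') y hy).hom _ _).symm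
        exact congrArg₂ (· + ·) ((ht y hy.1 fun h => hyB (Or.inl h)).trans (germ_rs F (inf_le_left : A ⊓ A' ≤ A) y hy t).symm)
          ((ht' y hy.2 fun h => hyB (Or.inr h)).trans (germ_rs F (inf_le_right : A ⊓ A' ≤ A') y hy t').symm)
      neg_mem' := fun {f} hf x => by
        obtain ⟨A, B, hA, t, hAc, hBc, hxA, hxB, ht⟩ := hf x
        exact ⟨A, B, hA, -t, hAc, hBc, hxA, hxB, fun y hy hyB =>
          (congrArg Neg.neg (ht y hy hyB)).trans (map_neg (TopCat.Presheaf.germ (X := X) F.obj A y hy).hom t).symm⟩ }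
  res {U V} h s hs := fun x => by
    obtain ⟨A, B, hA, t, hAc, hBc, hxA, hxB, ht⟩ := hs ⟨x.1, h x.2⟩
    obtain ⟨A', hAc', hxA', hle⟩ := Opens.isBasis_iff_nbhd.mp (ColimCoh.isBasis_compact (X := X))
      (show x.1 ∈ V ⊓ A from ⟨x.2, hxA⟩)
    exact ⟨A', B, hle.trans inf_le_left, F.obj.map (homOfLE (hle.trans inf_le_right)).op t, hAc', hBc, hxA', hxB,
      fun y hy hyB => (ht y (hle hy).2 hyB).trans (germ_rs F (hle.trans inf_le_right : A' ≤ A) y hy t).symm⟩
  loc U s h := fun x => by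
    obtain ⟨V, hle, hxV, hs⟩ := h x.1 x.2
    obtain ⟨A, B, hA, t, hAc, hBc, hxA, hxB, ht⟩ := hs ⟨x.1, hxV⟩
    exact ⟨A, B, hA.trans hle, t, hAc, hBc, hxA, hxB, ht⟩

/-- The sheaf of constructibly-locally-given families. -/
noncomputable def cl : QCohLib.AbSh X := SubSheaf.sh (cond F)

/-- Sections give families. -/
noncomputable def clι : F ⟶ cl F :=
  SubSheaf.lift (cond F) (CechLib.gdι F) fun U s x => by
    obtain ⟨A, hA, hxA, hle⟩ := Opens.isBasis_iff_nbhd.mp (ColimCoh.isBasis_compact (X := X)) x.2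
    exact ⟨A, ⊥, hle, F.obj.map (homOfLE hle).op s, hA, isCompact_empty, hxA, fun h => h,
      fun y hy _ => (germ_rs F hle y hy s).symm⟩

instance mono_clι : Mono (clι F) :=
  mono_of_mono_fac (SubSheaf.lift_incl (cond F) (CechLib.gdι F) _ : clι F ≫ SubSheaf.incl (cond F) = CechLib.gdι F)

theorem surjective_res (U V : Opens X) (hle : V ≤ U) (hV : IsCompact (V : Set X)) :
    Function.Surjective ((cl F).obj.map (homOfLE hle).op) := by
  classical
  intro s
  let f : ∀ x : V, Stk F x.1 := (show (cond F).ok V from s).1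
  let g : ∀ x : U, Stk F x.1 := fun x => if h : x.1 ∈ V then f ⟨x.1, h⟩ else 0
  have hg : IsCL F U g := fun x => by
    by_cases h : x.1 ∈ V
    · obtain ⟨A, B, hA, t, hAc, hBc, hxA, hxB, ht⟩ := (show (cond F).ok V from s).2 ⟨x.1, h⟩
      exact ⟨A, B, hA.trans hle, t, hAc, hBc, hxA, hxB, fun y hy hyB => (dif_pos (hA hy)).trans (ht y hy hyB)⟩
    · obtain ⟨A, hA, hxA, hAU⟩ := Opens.isBasis_iff_nbhd.mp (ColimCoh.isBasis_compact (X := X)) x.2
      exact ⟨A, V, hAU, 0, hA, hV, hxA, h, fun y hy hyV => (dif_neg hyV).trans (map_zero _).symm⟩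
  exact ⟨(⟨g, hg⟩ : (cond F).ok U), Subtype.ext (funext fun x => dif_pos x.2)⟩

/-- The families are acyclic on compact opens. -/
theorem subsingleton_HU_cl (q : ℕ) (U : Opens X) (hU : IsCompact (U : Set X)) :
    Subsingleton (QCohLib.HU (cl F) (q + 1) U) :=
  subsingleton_HU_of_surjective _ (fun U V hle _ hV => surjective_res F U V hle hV) q U hU

/-- A point with no further generalisation. -/
def IsGen (x : X) : Prop := ∀ y : X, y ⤳ x → y = x

/-- Near a generic point the families are sections. -/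
theorem exists_section_of_isGen {x : X} (hx : IsGen x) (U : Opens X) (hxU : x ∈ U) (s : (cl F).obj.obj (op U)) :
    ∃ (W : Opens X) (hW : W ≤ U) (t : F.obj.obj (op W)), x ∈ W ∧
      (clι F).hom.app (op W) t = (cl F).obj.map (homOfLE hW).op s := by
  obtain ⟨A, B, hA, t, hAc, hBc, hxA, hxB, ht⟩ := (show (cond F).ok U from s).2 ⟨x, hxU⟩
  obtain ⟨V, hV, -, hVB⟩ := SpecGen.exists_qc_nhd (isCompact_singleton (x := x))
    (fun a b hab (ha : a = x) => hx b (ha ▸ hab)) B ⊥ hBc
    fun y hyB hyx => (hxB ((Set.mem_singleton_iff.mp hyx) ▸ hyB)).elim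
  refine ⟨A ⊓ V, inf_le_left.trans hA, F.obj.map (homOfLE (inf_le_left : A ⊓ V ≤ A)).op t, ⟨hxA, hV rfl⟩, ?_⟩
  refine Subtype.ext (funext fun y => ?_)
  exact (germ_rs F _ y.1 y.2 t).trans (ht y.1 y.2.1 fun h => hVB y.1 h y.2.2).symm

end CohTopLib.ConsLoc
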