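import Groth.Agent.CohTopLib.Basic
import Mathlib.CategoryTheory.Sites.ConstantSheaf
import Mathlib.Topology.Sheaves.LocallySurjective

/-!
# Constant sheaves on irreducible spaces are flasque
-/

universe u
open CategoryTheory CategoryTheory.Limits TopologicalSpace Opposite CategoryTheory.Abelian

namespace CohTopLib

open QCohLib

variable {X : TopCat.{u}} [IrreducibleSpace X] (A : Type u) [AddCommGroup A]

/-- The constant presheaf. -/
abbrev constPre : (Opens X)ᵒᵖ ⥤ AddCommGrpCat.{u} :=
  (Functor.const (Opens X)ᵒᵖ).obj (AddCommGrpCat.of A)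

/-- A constant section. -/
noncomputable def constSec (V : Opens X) (a : A) : (CohTop.const X A).obj.obj (op V) :=
  (toSheafify (Opens.grothendieckTopology X) (constPre A)).app (op V) a

theorem res_constSec {V W : Opens X} (i : W ⟶ V) (a : A) :
    (CohTop.const X A).obj.map i.op (constSec A V a) = constSec A W a :=
  (congr($((toSheafify (Opens.grothendieckTopology X) (constPre A)).naturality i.op) a)).symm

theorem exists_constSec (V : Opens X) (s : (CohTop.const X A).obj.obj (op V)) (p : X) (hp : p ∈ V) :
    ∃ (W : Opens X) (i : W ⟶ V) (a : A), p ∈ W ∧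
      (CohTop.const X A).obj.map i.op s = constSec A W a := by
  have hls : TopCat.Presheaf.IsLocallySurjective (ℱ := (constPre A : TopCat.Presheaf AddCommGrpCat.{u} X))
      (𝒢 := (CohTop.const X A).obj) (toSheafify (Opens.grothendieckTopology X) (constPre A)) :=
    (inferInstance : Presheaf.IsLocallySurjective (Opens.grothendieckTopology X)
      (toSheafify (Opens.grothendieckTopology X) (constPre A)))
  obtain ⟨W, hW, ⟨a, ha⟩, hpW⟩ := (TopCat.Presheaf.isLocallySurjective_iff
    (X := X) (ℱ := (constPre A : TopCat.Presheaf AddCommGrpCat.{u} X)) _).mp hls V s p hp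
  exact ⟨W, homOfLE hW, a, hpW, ha.symm⟩

theorem constSec_injective (W : Opens X) (hW : (W : Set X).Nonempty) :
    Function.Injective (constSec (X := X) A W) := fun a b h => by
  obtain ⟨p, hp⟩ := hW
  have hs := Presheaf.equalizerSieve_mem (Opens.grothendieckTopology X)
    (toSheafify (Opens.grothendieckTopology X) (constPre A)) (X := op W) a b h
  obtain ⟨W', i, hi, -⟩ := hs p hp
  exact hi

theorem exists_eq_constSec (V : Opens X) (s : (CohTop.const X A).obj.obj (op V)) :
    ∃ a : A, s = constSec A V a := by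
  rcases (V : Set X).eq_empty_or_nonempty with h | ⟨p, hp⟩
  · refine ⟨0, TopCat.Presheaf.section_ext (CohTop.const X A : TopCat.Sheaf AddCommGrpCat X) V s _
      fun x hx => absurd hx (by rw [← SetLike.mem_coe, h]; exact Set.notMem_empty x)⟩
  obtain ⟨W, i, a, hpW, ha⟩ := exists_constSec A V s p hp
  refine ⟨a, TopCat.Presheaf.section_ext (CohTop.const X A : TopCat.Sheaf AddCommGrpCat X) V s _
    fun x hx => ?_⟩
  obtain ⟨W', i', a', hxW', ha'⟩ := exists_constSec A V s x hx
  obtain ⟨y, hy, hy'⟩ := nonempty_preirreducible_inter W.isOpen W'.isOpen ⟨p, hpW⟩ ⟨x, hxW'⟩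
  have e : a = a' := by
    refine constSec_injective A (W ⊓ W') ⟨y, hy, hy'⟩ ?_
    rw [← res_constSec A (homOfLE inf_le_left : W ⊓ W' ⟶ W), ← ha,
      ← res_constSec A (homOfLE inf_le_right : W ⊓ W' ⟶ W'), ← ha',
      ← ConcreteCategory.comp_apply, ← ConcreteCategory.comp_apply, ← Functor.map_comp,
      ← Functor.map_comp]
    rfl
  let C : TopCat.Presheaf AddCommGrpCat.{u} X := (CohTop.const X A).obj
  change C.germ V x hx s = C.germ V x hx (constSec A V a)
  rw [← TopCat.Presheaf.germ_res_apply C i' x hxW' s,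
    ← TopCat.Presheaf.germ_res_apply C i' x hxW' (constSec A V a)]
  refine congrArg _ (ha'.trans ?_)
  rw [← e]
  exact (res_constSec A i' a).symm

instance isFlasque_const :
    TopCat.Sheaf.IsFlasque (CohTop.const X A : TopCat.Sheaf AddCommGrpCat X) where
  epi {U V} i := by
    rw [AddCommGrpCat.epi_iff_surjective]
    intro s
    obtain ⟨a, rfl⟩ := exists_eq_constSec A V.unop s
    exact ⟨constSec A U.unop a, res_constSec A i.unop a⟩

theorem subsingleton_H_const (p : ℕ) :
    Subsingleton (CategoryTheory.Sheaf.H (CohTop.const X A) (p + 1)) :=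
  (subsingleton_H_iff _ _).mpr (subsingleton_of_isFlasque p _ ⊤)

end CohTopLib
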