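import Groth.Agent.CohTopLib.FamPush
import Groth.Agent.CohTopLib.FlasqueRes
import Mathlib.Algebra.Homology.ShortComplex.Ab
import Mathlib.Algebra.Homology.Single

/-!
# The augmented coface complex of `π_* π^*` along a simplicial space
-/

set_option autoImplicit false
set_option linter.unusedSectionVars false
set_option linter.style.haveILetI false
set_option backward.isDefEq.respectTransparency false
set_option backward.isDefEq.respectTransparency.types false

universe u
open CategoryTheory CategoryTheory.Limits TopologicalSpace Opposite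
open CategoryTheory.SimplicialObject

namespace CohTopLib.DescExact

open GermFam FamPush FlasqueRes

variable {X : TopCat.{u}}

/-- Exactness from local preimages. -/
theorem exact_of_local (S : ShortComplex (QCohLib.AbSh X))
    (h : ∀ (W : Opens X) (x : X), x ∈ W → ∀ s : S.X₂.obj.obj (op W), S.g.hom.app (op W) s = 0 →
      ∃ (V : Opens X) (hV : V ≤ W) (t : S.X₁.obj.obj (op V)), x ∈ V ∧
        S.f.hom.app (op V) t = S.X₂.obj.map (homOfLE hV).op s) : S.Exact := by
  rw [ShortComplex.exact_iff_isZero_homology]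
  have hx : ∀ x, IsZero ((stk x).obj S.homology) := fun x => by
    haveI : PreservesFiniteLimits (stk x) := inferInstance
    haveI : (stk x).PreservesHomology := Functor.preservesHomologyOfExact _
    refine IsZero.of_iso ?_ (S.mapHomologyIso (stk x)).symm
    refine (ShortComplex.exact_iff_isZero_homology _).mp ((ShortComplex.ab_exact_iff _).mpr fun a ha => ?_)
    obtain ⟨W, hW, s, rfl⟩ := TopCat.Presheaf.germ_exist (X := X) S.X₂.obj a
    have h0 : germ S.X₃ W x hW (S.g.hom.app (op W) s) = germ S.X₃ W x hW 0 :=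
      ((st_germ x S.g W hW s).symm.trans ha).trans (map_zero _).symm
    obtain ⟨W', hxW', hle, hle', heq⟩ := TopCat.Presheaf.germ_eq (X := X) S.X₃.obj x hW hW _ _ h0
    obtain ⟨V, hV, t, hxV, ht⟩ := h W' x hxW' (S.X₂.obj.map hle.op s) (by
      refine (NatTrans.naturality_apply S.g.hom hle.op s).trans ?_
      exact heq.trans (map_zero _))
    refine ⟨germ S.X₁ V x hxV t, (st_germ x S.f V hxV t).trans ?_⟩
    refine (congrArg (germ S.X₂ V x hxV) ht).trans ?_
    refine (germ_rs S.X₂ hV x hxV _).trans ?_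
    exact TopCat.Presheaf.germ_res_apply (X := X) S.X₂.obj hle x hxW' s
  rw [IsZero.iff_id_eq_zero]
  refine CategoryTheory.Sheaf.hom_ext (NatTrans.ext (funext fun U => ?_))
  ext s
  exact TopCat.Presheaf.section_ext (S.homology : TopCat.Sheaf AddCommGrpCat X) U.unop _ _ fun x _ =>
    (AddCommGrpCat.subsingleton_of_isZero (hx x)).elim _ _

variable (K : SimplicialObject (Over X))

/-- Evaluation of a section at a point of a fibre is additive. -/
noncomputable def valHom (U : Over X) (F : QCohLib.AbSh X) {W : Opens X} (y : X) (hy : y ∈ W) (z : Fib U y) :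
    ((pp U).obj F).obj.obj (op W) →+ Stk F y :=
  AddMonoidHom.mk' (fun f => val f y hy z) fun _ _ => rfl

/-- The system of `π_* π^*`. -/
noncomputable abbrev cos : QCohLib.AbSh X ⥤ CosimplicialObject (QCohLib.AbSh X) :=
  (K.rightOp ⋙ ppFunctor).flip

/-- The coface complex. -/
noncomputable def coface : QCohLib.AbSh X ⥤ CochainComplex (QCohLib.AbSh X) ℕ :=
  cos K ⋙ AlgebraicTopology.alternatingCofaceMapComplex _

instance additive_coface : (coface K).Additive where
  map_add {F G φ ψ} := by
    refine HomologicalComplex.hom_ext _ _ fun n => ?_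
    exact (pp (K.obj (op (SimplexCategory.mk n)))).map_add

/-- The terms. -/
noncomputable def cofaceXIso (n : ℕ) :
    coface K ⋙ HomologicalComplex.eval _ (ComplexShape.up ℕ) n ≅ pp (K.obj (op (SimplexCategory.mk n))) :=
  NatIso.ofComponents (fun _ => Iso.refl _) fun φ => (Category.comp_id _).trans (Category.id_comp _).symm

theorem coface_d (F : QCohLib.AbSh X) (n : ℕ) :
    ((coface K).obj F).d n (n + 1) = AlgebraicTopology.AlternatingCofaceMapComplex.objD ((cos K).obj F) n :=
  CochainComplex.of_d (fun n => ((cos K).obj F).obj (SimplexCategory.mk n)) _ n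

/-- The face of a point of the fibre. -/
def face {n : ℕ} (i : Fin (n + 2)) {y : X} (z : Fib (K.obj (op (SimplexCategory.mk (n + 1)))) y) :
    Fib (K.obj (op (SimplexCategory.mk n))) y :=
  ⟨(K.δ i).left z.1, (ConcreteCategory.congr_hom (Over.w (K.δ i)) z.1).trans z.2⟩

theorem val_d (F : QCohLib.AbSh X) (n : ℕ) {W : Opens X} (c : (((coface K).obj F).X n).obj.obj (op W))
    (y : X) (hy : y ∈ W) (z : Fib (K.obj (op (SimplexCategory.mk (n + 1)))) y) :
    valHom (K.obj (op (SimplexCategory.mk (n + 1)))) F y hy z ((((coface K).obj F).d n (n + 1)).hom.app (op W) c) =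
      ∑ i : Fin (n + 2), (-1 : ℤ) ^ (i : ℕ) • valHom (K.obj (op (SimplexCategory.mk n))) F y hy (face K i z) c := by
  rw [coface_d]
  let Φ : (((cos K).obj F).obj (SimplexCategory.mk n) ⟶ ((cos K).obj F).obj (SimplexCategory.mk (n + 1))) →+
      Stk F y :=
    AddMonoidHom.mk' (fun φ => valHom (K.obj (op (SimplexCategory.mk (n + 1)))) F y hy z (φ.hom.app (op W) c))
      fun _ _ => rfl
  refine (map_sum Φ _ _).trans (Finset.sum_congr rfl fun i _ => ?_)
  exact (map_zsmul Φ _ _).trans rfl

/-- The augmentation, in degree `0`. -/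
noncomputable abbrev aug₀ (F : QCohLib.AbSh X) : F ⟶ ((coface K).obj F).X 0 :=
  (aug (K.obj (op (SimplexCategory.mk 0)))).app F

theorem aug₀_d (F : QCohLib.AbSh X) : aug₀ K F ≫ ((coface K).obj F).d 0 1 = 0 := by
  refine Sheaf.hom_ext (NatTrans.ext (funext fun W => ?_))
  ext t
  refine val_ext (W := W.unop) fun y hy z => ?_
  refine (val_d K F 0 ((aug₀ K F).hom.app W t) y hy z).trans ?_
  rw [Fin.sum_univ_two]
  simp only [Fin.val_zero, pow_zero, one_smul, Fin.val_one, pow_one]
  refine (congrArg (_ + ·) (neg_one_zsmul _)).trans ?_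
  exact add_neg_cancel (germ F W.unop y hy t)

/-- The augmentation. -/
noncomputable def coAug : CochainComplex.single₀ (QCohLib.AbSh X) ⟶ coface K where
  app F := (CochainComplex.fromSingle₀Equiv _ F).symm ⟨aug₀ K F, aug₀_d K F⟩
  naturality F G φ := by
    refine HomologicalComplex.from_single_hom_ext ?_
    simp only [HomologicalComplex.comp_f, CochainComplex.fromSingle₀Equiv_symm_apply_f_zero,
      CochainComplex.single₀ObjXSelf]
    exact congrArg (_ ≫ ·) ((aug (K.obj (op (SimplexCategory.mk 0)))).naturality φ)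

theorem coAug_f_zero (F : QCohLib.AbSh X) : ((coAug K).app F).f 0 = aug₀ K F :=
  CochainComplex.fromSingle₀Equiv_symm_apply_f_zero _ _

/-- The augmentation is a quasi-isomorphism as soon as cocycles are locally coboundaries. -/
theorem quasiIso_coAug (F : QCohLib.AbSh X)
    (h0 : ∀ y : X, Nonempty (Fib (K.obj (op (SimplexCategory.mk 0))) y))
    (h1 : ∀ (W : Opens X) (x : X), x ∈ W → ∀ c : (((coface K).obj F).X 0).obj.obj (op W),
      (((coface K).obj F).d 0 1).hom.app (op W) c = 0 →
      ∃ (V : Opens X) (hV : V ≤ W) (t : F.obj.obj (op V)), x ∈ V ∧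
        (aug₀ K F).hom.app (op V) t = (((coface K).obj F).X 0).obj.map (homOfLE hV).op c)
    (h2 : ∀ (n : ℕ) (W : Opens X) (x : X), x ∈ W → ∀ c : (((coface K).obj F).X (n + 1)).obj.obj (op W),
      (((coface K).obj F).d (n + 1) (n + 2)).hom.app (op W) c = 0 →
      ∃ (V : Opens X) (hV : V ≤ W) (b : (((coface K).obj F).X n).obj.obj (op V)), x ∈ V ∧
        (((coface K).obj F).d n (n + 1)).hom.app (op V) b =
          (((coface K).obj F).X (n + 1)).obj.map (homOfLE hV).op c) :
    QuasiIso ((coAug K).app F) := by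
  refine ⟨fun n => ?_⟩
  cases n with
  | zero =>
    rw [CochainComplex.quasiIsoAt₀_iff,
      ShortComplex.quasiIso_iff_of_zeros _ rfl rfl (((coface K).obj F).shape 0 0 (Nat.succ_ne_zero 0))]
    refine ⟨exact_of_local _ ?_, ?_⟩
    · intro W x hx s hs
      obtain ⟨V, hV, t, hxV, ht⟩ := h1 W x hx s hs
      exact ⟨V, hV, t, hxV, (congrArg (fun φ => φ.hom.app (op V) t) (coAug_f_zero K F)).trans ht⟩
    · change Mono (((coAug K).app F).f 0)
      rw [coAug_f_zero]
      refine Functor.mono_of_mono_map (sheafToPresheaf _ _) ?_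
      haveI : ∀ W, Mono (((sheafToPresheaf (Opens.grothendieckTopology X) AddCommGrpCat.{u}).map (aug₀ K F)).app W) := fun W => by
        refine (AddCommGrpCat.mono_iff_injective _).mpr fun a b hab => ?_
        refine TopCat.Presheaf.section_ext (F : TopCat.Sheaf AddCommGrpCat X) W.unop a b fun y hy => ?_
        exact congrArg (fun f => val (U := K.obj (op (SimplexCategory.mk 0))) (W := W.unop) f y hy (h0 y).some) hab
      exact NatTrans.mono_of_mono_app _
  | succ n =>
    rw [quasiIsoAt_iff_exactAt _ _ (CochainComplex.exactAt_succ_single_obj F n),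
      HomologicalComplex.exactAt_iff' _ n (n + 1) (n + 2) (by simp) (by simp)]
    exact exact_of_local _ (h2 n)

/-- A contraction of the fibres over a point. -/
structure Cone (y : X) where
  /-- the base point -/
  e : Fib (K.obj (op (SimplexCategory.mk 0))) y
  /-- the extra degeneracies -/
  h : ∀ n, Fib (K.obj (op (SimplexCategory.mk n))) y → Fib (K.obj (op (SimplexCategory.mk (n + 1)))) y
  face_zero : ∀ (n : ℕ) z, face K 0 (h n z) = z
  face_one : ∀ z, face K 1 (h 0 z) = e
  face_succ : ∀ (n : ℕ) (i : Fin (n + 2)) z, face K i.succ (h (n + 1) z) = h n (face K i z)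

variable {K}

theorem Cone.val_eq (F : QCohLib.AbSh X) {y : X} (C : Cone K y) {W : Opens X} (hy : y ∈ W)
    (c : (((coface K).obj F).X 0).obj.obj (op W)) (hc : (((coface K).obj F).d 0 1).hom.app (op W) c = 0)
    (z : Fib (K.obj (op (SimplexCategory.mk 0))) y) :
    valHom (K.obj (op (SimplexCategory.mk 0))) F y hy z c = valHom (K.obj (op (SimplexCategory.mk 0))) F y hy C.e c := by
  have := (val_d K F 0 c y hy (C.h 0 z)).symm.trans
    ((congrArg (valHom (K.obj (op (SimplexCategory.mk 1))) F y hy (C.h 0 z)) hc).trans (map_zero _))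
  rw [Fin.sum_univ_two, C.face_zero, C.face_one] at this
  simp only [Fin.val_zero, pow_zero, one_smul, Fin.val_one, pow_one, neg_one_zsmul] at this
  exact eq_of_sub_eq_zero ((sub_eq_add_neg _ _).trans this)

theorem Cone.val_d_eq (F : QCohLib.AbSh X) {y : X} (C : Cone K y) (n : ℕ) {W V : Opens X} (hy : y ∈ W) (hy' : y ∈ V)
    (c : (((coface K).obj F).X (n + 1)).obj.obj (op W))
    (hc : (((coface K).obj F).d (n + 1) (n + 2)).hom.app (op W) c = 0)
    (b : (((coface K).obj F).X n).obj.obj (op V))
    (hb : ∀ z, valHom (K.obj (op (SimplexCategory.mk n))) F y hy' z b =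
      valHom (K.obj (op (SimplexCategory.mk (n + 1)))) F y hy (C.h n z) c)
    (z : Fib (K.obj (op (SimplexCategory.mk (n + 1)))) y) :
    valHom (K.obj (op (SimplexCategory.mk (n + 1)))) F y hy' z ((((coface K).obj F).d n (n + 1)).hom.app (op V) b) =
      valHom (K.obj (op (SimplexCategory.mk (n + 1)))) F y hy z c := by
  have := (val_d K F (n + 1) c y hy (C.h (n + 1) z)).symm.trans
    ((congrArg (valHom (K.obj (op (SimplexCategory.mk (n + 2)))) F y hy (C.h (n + 1) z)) hc).trans (map_zero _))
  rw [Fin.sum_univ_succ, C.face_zero] at this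
  simp only [Fin.val_zero, pow_zero, one_smul, Fin.val_succ] at this
  refine (val_d K F n b y hy' z).trans ?_
  rw [eq_neg_of_add_eq_zero_left this, ← Finset.sum_neg_distrib]
  refine Finset.sum_congr rfl fun i _ => ?_
  rw [hb, C.face_succ, pow_succ, mul_neg_one, neg_zsmul, neg_neg]

/-- A section near a point is zero near the point, when the map is closed, if it is zero on the fibre. -/
theorem zero_near (U : Over X) (hU : IsClosedMap U.hom) (F : QCohLib.AbSh X) {W : Opens X} {x : X} (hx : x ∈ W)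
    (f : ((pp U).obj F).obj.obj (op W)) (h : ∀ z, valHom U F x hx z f = 0) :
    ∃ (V : Opens X) (hV : V ≤ W), x ∈ V ∧ ((pp U).obj F).obj.map (homOfLE hV).op f = 0 := by
  let T : Set U.left := {z | ∀ hz : U.hom z ∈ W, valHom U F (U.hom z) hz ⟨z, rfl⟩ f = 0}
  have hT : IsOpen ({z | U.hom z ∈ W} ∩ T) := by
    rw [isOpen_iff_forall_mem_open]
    rintro z ⟨hz, hzT⟩
    obtain ⟨A, hA, t, N, hN, ht⟩ := (show (cond U F).ok W from f).2 z hz
    have h0 : germ F A (U.hom z) hA t = germ F A (U.hom z) hA 0 :=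
      ((ht z hN hz hA).symm.trans (hzT hz)).trans (map_zero _).symm
    obtain ⟨A', hzA', hle, heq⟩ := exists_eq_nhd F hA hA _ _ h0
    refine ⟨N ∩ U.hom ⁻¹' (A' ⊓ W : Opens X), fun z' ⟨h1, h2, h3⟩ => ⟨h3, fun _ => ?_⟩,
      N.isOpen.inter ((A' ⊓ W).isOpen.preimage U.hom.hom.continuous), hN, hzA', hz⟩
    refine (ht z' h1 h3 (hle h2).1).trans ?_
    exact (heq _ h2 (hle h2).1 (hle h2).1).trans (map_zero _)
  let V : Opens X := ⟨(U.hom '' ({z | U.hom z ∈ W} ∩ T)ᶜ)ᶜ ∩ W, ((hU _ hT.isClosed_compl).isOpen_compl).inter W.isOpen⟩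
  refine ⟨V, fun y hy => hy.2, ⟨?_, hx⟩, val_ext fun y hy z => ?_⟩
  · rintro ⟨z, hz, hzx⟩
    refine hz ⟨by change U.hom z ∈ W; exact hzx ▸ hx, fun hz' => ?_⟩
    have key : ∀ (y : X) (e : U.hom z = y) (hy : y ∈ W), valHom U F y hy ⟨z, e⟩ f = 0 →
        valHom U F (U.hom z) hz' ⟨z, rfl⟩ f = 0 := by
      rintro y rfl hy h
      exact h
    exact key x hzx hx (h ⟨z, hzx⟩)
  · obtain ⟨z, rfl⟩ := z
    exact (not_not.mp fun hn => hy.1 ⟨z, hn, rfl⟩).2 hy.2

end CohTopLib.DescExact
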