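import Groth.Agent.QCohLib.AbPush

/-!
# Surjectivity on sections from an exact sequence of sheaves
-/

universe u
open CategoryTheory CategoryTheory.Limits TopologicalSpace Opposite CategoryTheory.Abelian

namespace CohTopLib

open QCohLib

variable {X : TopCat.{u}} (F : ChainComplex (AbSh X) ℕ)

/-- The cycles in degree `j + 1` inside `F_{j+1}`, mapping onto the cycles in degree `j`. -/
noncomputable def chainCycleSeq (j : ℕ) : ShortComplex (AbSh X) :=
  ShortComplex.mk (kernel.ι (F.d (j + 2) (j + 1)))
    (kernel.lift (F.d (j + 1) j) (F.d (j + 2) (j + 1)) (F.d_comp_d _ _ _))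
    (by rw [← cancel_mono (kernel.ι _), Category.assoc, kernel.lift_ι, kernel.condition, zero_comp])

theorem chainCycleSeq_shortExact (j : ℕ) (h : F.ExactAt (j + 1)) : (chainCycleSeq F j).ShortExact where
  exact := have : Mono (chainCycleSeq F j).f := equalizer.ι_mono
     ShortComplex.exact_of_f_is_kernel _ (KernelFork.IsLimit.ofι' _ _ fun {A} g hg =>
    ⟨kernel.lift _ g (by
      have h1 := congrArg (· ≫ kernel.ι (F.d (j + 1) j)) hg
      exact ((congrArg (g ≫ ·) (kernel.lift_ι _ _ _)).symm.trans
        ((Category.assoc _ _ _).symm.trans h1)).trans zero_comp), kernel.lift_ι _ _ _⟩)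
  mono_f := equalizer.ι_mono
  epi_g := by
    rw [F.exactAt_iff' (j + 2) (j + 1) j (by simp) (by simp), ShortComplex.exact_iff_epi_kernel_lift] at h
    exact h

/-- Surjectivity on sections of the last map of an exact sequence with vanishing cohomology. -/
theorem surjective_app_of_exact (r : ℕ) (hr : 1 ≤ r) (hmono : Mono (F.d r (r - 1)))
    (hepi : Epi (F.d 1 0)) (hex : ∀ j : ℕ, 1 ≤ j → j < r → F.ExactAt j) (U : Opens X)
    (hvan : ∀ j : ℕ, 2 ≤ j → j ≤ r → Subsingleton (HU (F.X j) (j - 1) U)) :
    Function.Surjective ((F.d 1 0).hom.app (op U)) := by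
  have key : ∀ k j : ℕ, j + k + 1 = r →
      Subsingleton (HU (kernel (F.d (j + 1) j)) (j + 1) U) := by
    intro k
    induction k with
    | zero =>
      intro j hj
      subst hj
      have hm : Mono (F.d (j + 1) j) := by simpa using hmono
      refine subsingleton_of_forall_eq 0 fun x => ?_
      rw [← Ext.comp_mk₀_id x, (isZero_kernel_of_mono (F.d (j + 1) j)).eq_of_src (𝟙 _) 0,
        Ext.mk₀_zero, Ext.comp_zero]
    | succ k ih =>
      intro j hj
      have hS := chainCycleSeq_shortExact F j (hex (j + 1) (by omega) (by omega))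
      have : Subsingleton (HU (chainCycleSeq F j).X₁ (j + 1 + 1) U) := ih (j + 1) (by omega)
      have : Subsingleton (HU (chainCycleSeq F j).X₂ (j + 1) U) := hvan (j + 2) (by omega) (by omega)
      exact subsingleton_X₃ hS
  let S : ShortComplex (AbSh X) := ShortComplex.mk _ _ (kernel.condition (F.d 1 0))
  have hS : S.ShortExact :=
    { exact := ShortComplex.exact_of_f_is_kernel _ (kernelIsKernel _)
      mono_f := inferInstanceAs (Mono (kernel.ι _))
      epi_g := hepi }
  have : Subsingleton (HU S.X₁ 1 U) := key (r - 1) 0 (by omega)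
  exact fun q => exists_lift_of_subsingleton hS q

end CohTopLib
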