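import Groth.Agent.CohTopLib.GermFam
import Groth.Agent.CohTopLib.Basic
import Groth.Agent.CohLib.Leray
import Groth.Agent.SpSeqLib.CompExact
import Groth.Agent.RightDerCompLib.Basic

/-!
# Cohomology of compact separated subspaces and of fibres
-/

set_option autoImplicit false
set_option linter.unusedSectionVars false
set_option linter.style.haveILetI false
set_option backward.isDefEq.respectTransparency false
set_option backward.isDefEq.respectTransparency.types false

universe u
open CategoryTheory CategoryTheory.Limits TopologicalSpace Opposite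
open Filter Topology

namespace CohTopLib.FibreCoh

open GermFam

/-- Global sections. -/
noncomputable abbrev secTop (Z : TopCat.{u}) : QCohLib.AbSh Z ⥤ AddCommGrpCat.{u} :=
  sheafToPresheaf (Opens.grothendieckTopology Z) AddCommGrpCat.{u} ⋙
    (evaluation (Opens Z)ᵒᵖ AddCommGrpCat.{u}).obj (op ⊤)

/-- Global sections are maps out of the free sheaf on the whole space. -/
noncomputable def secTopIso (Z : TopCat.{u}) :
    preadditiveCoyoneda.obj (op (QCohLib.zsh (⊤ : Opens Z))) ≅ secTop Z :=
  NatIso.ofComponents (fun _ => QCohLib.zEquiv.toAddCommGrpIso) (fun g => by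
    ext t
    exact QCohLib.zEquiv_comp t g)

instance preservesFiniteLimits_secTop (Z : TopCat.{u}) : PreservesFiniteLimits (secTop Z) :=
  comp_preservesFiniteLimits _ _

theorem nonempty_rightDerived_secTop (Z : TopCat.{u}) (G : QCohLib.AbSh Z) (p : ℕ) :
    Nonempty (((secTop Z).rightDerived p).obj G ≅ AddCommGrpCat.of (QCohLib.HU G p ⊤)) := by
  obtain ⟨i⟩ := CohLib.nonempty_rightDerived_coyoneda_iso_ext (QCohLib.zsh (⊤ : Opens Z)) G p
  exact ⟨((Groth.Agent.RightDerCompLib.rightDerivedCongr (secTopIso Z) p).app G).symm ≪≫ i⟩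

variable {X Z : TopCat.{u}} (e : Z ⟶ X)

/-- Global sections of the inverse image. -/
noncomputable abbrev GZ : QCohLib.AbSh X ⥤ AddCommGrpCat.{u} :=
  CohTop.pull e ⋙ secTop Z

instance additive_pull : (CohTop.pull e).Additive :=
  haveI : PreservesLimitsOfShape (Discrete WalkingPair) (CohTop.pull e) :=
    (CohTopLib.preservesFiniteLimits_pull e).preservesFiniteLimits _
  haveI : (CohTop.pull e).IsLeftAdjoint :=
    (TopCat.Sheaf.pullbackPushforwardAdjunction AddCommGrpCat.{u} e).isLeftAdjoint
  haveI : (CohTop.pull e).PreservesZeroMorphisms := Functor.preservesZeroMorphisms_of_isLeftAdjoint _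
  Functor.additive_of_preserves_binary_products _

instance preservesHomology_pull : (CohTop.pull e).PreservesHomology := by
  haveI : PreservesFiniteLimits (CohTop.pull e) := CohTopLib.preservesFiniteLimits_pull e
  haveI : PreservesColimitsOfSize.{0, 0} (CohTop.pull e) :=
    (TopCat.Sheaf.pullbackPushforwardAdjunction AddCommGrpCat.{u} e).leftAdjoint_preservesColimits
  exact Functor.preservesHomologyOfExact _

instance additive_GZ : (GZ e).Additive :=
  inferInstanceAs (CohTop.pull e ⋙ secTop Z).Additive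

/-- Injective objects pull back to sheaves acyclic on a compact separated subspace. -/
theorem subsingleton_HU_pull_of_isFlasque [CompactSpace Z] (he : IsEmbedding e) (hs : Sep (Set.range e))
    (I : QCohLib.AbSh X) [TopCat.Sheaf.IsFlasque (I : TopCat.Sheaf AddCommGrpCat X)] (q : ℕ) :
    Subsingleton (QCohLib.HU ((CohTop.pull e).obj I) (q + 1) ⊤) :=
  haveI := t2Space_of_sep e he hs
  subsingleton_HU_of_isSoft _ (isSoft_pull e I he hs) q

/-- The derived functors of sections of the inverse image. -/
theorem nonempty_rightDerived_GZ [CompactSpace Z] (he : IsEmbedding e) (hs : Sep (Set.range e))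
    (F : QCohLib.AbSh X) (p : ℕ) :
    Nonempty (((GZ e).rightDerived p).obj F ≅
      AddCommGrpCat.of (CohTop.H ((CohTop.pull e).obj F) p)) := by
  obtain ⟨i⟩ := SpSeqLib.nonempty_rightDerived_comp_iso (secTop Z)
    (CohTop.pull e) (fun Q hQ q hq => by
      obtain ⟨k⟩ := nonempty_rightDerived_secTop Z ((CohTop.pull e).obj Q) q
      haveI : TopCat.Sheaf.IsFlasque (Q : TopCat.Sheaf AddCommGrpCat X) :=
        haveI : Injective Q := hQ
        QCohLib.isFlasque_of_injective Q
      obtain ⟨m, rfl⟩ := Nat.exists_eq_succ_of_ne_zero hq.ne'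
      haveI := subsingleton_HU_pull_of_isFlasque e he hs Q m
      exact (AddCommGrpCat.isZero_of_subsingleton _).of_iso k) F p
  obtain ⟨j⟩ := nonempty_rightDerived_secTop Z ((CohTop.pull e).obj F) p
  exact ⟨i ≪≫ j ≪≫ (QCohLib.hEquiv _ p).symm.toAddCommGrpIso⟩

/-- A compact space injecting with separated image is embedded. -/
theorem isEmbedding_of_injective [CompactSpace Z] (hi : Function.Injective e) (hs : Sep (Set.range e)) :
    IsEmbedding e := by
  haveI : T2Space (Set.range e) := ⟨fun a b hab => by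
    obtain ⟨U, V, hU, hV, ha, hb, hd⟩ := hs a.1 a.2 b.1 b.2 fun h => hab (Subtype.ext h)
    exact ⟨Subtype.val ⁻¹' U, Subtype.val ⁻¹' V, hU.preimage continuous_subtype_val,
      hV.preimage continuous_subtype_val, ha, hb, hd.preimage _⟩⟩
  have hc : Continuous (Set.rangeFactorization e) :=
    e.hom.continuous.subtype_mk _
  have : IsClosedEmbedding (Set.rangeFactorization e) :=
    hc.isClosedEmbedding fun a b h => hi (congrArg Subtype.val h)
  exact IsEmbedding.subtypeVal.comp this.isEmbedding

/-- Restricting and pulling back commute. -/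
theorem pullSec_res {F : QCohLib.AbSh X} {V W : Opens X} (i : op V ⟶ op W) (s : F.obj.obj (op V))
    {U : Opens Z} (h : U ≤ (Opens.map e).obj W) (h' : U ≤ (Opens.map e).obj V) :
    ((CohTop.pull e).obj F).obj.map (homOfLE h).op (pullSec e F W (F.obj.map i s)) =
      ((CohTop.pull e).obj F).obj.map (homOfLE h').op (pullSec e F V s) := by
  refine (congrArg (((CohTop.pull e).obj F).obj.map (homOfLE h).op) (ConcreteCategory.congr_hom
    (((TopCat.Sheaf.pullbackPushforwardAdjunction AddCommGrpCat.{u} e).unit.app F).hom.naturality i) s)).trans ?_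
  refine (ConcreteCategory.congr_hom (((CohTop.pull e).obj F).obj.map_comp _ _).symm _).trans ?_
  rfl

variable {e}

/-- A section killed on the subspace dies near it. -/
theorem eventually_eq_zero {F : QCohLib.AbSh X} {U : Opens X} (s : F.obj.obj (op U))
    (h : ∀ z : Z, ∀ hz : e z ∈ U, germ F U (e z) hz s = 0) :
    ∃ U' : Opens X, ∃ hle : U' ≤ U, (∀ z : Z, e z ∈ U → e z ∈ U') ∧ F.obj.map (homOfLE hle).op s = 0 := by
  let W : Set X := {x | ∃ hx : x ∈ U, germ F U x hx s = 0}
  have hW : IsOpen W := isOpen_iff_mem_nhds.mpr fun x ⟨hx, hxe⟩ => by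
    obtain ⟨W', hxW', hle, hW'⟩ := exists_eq_nhd F hx hx s 0 (hxe.trans (map_zero _).symm)
    exact mem_of_superset (W'.isOpen.mem_nhds hxW') fun y hy =>
      ⟨(hle hy).1, (hW' y hy _ (hle hy).1).trans (map_zero _)⟩
  refine ⟨⟨W, hW⟩, fun x ⟨hx, _⟩ => hx, fun z hz => ⟨hz, h z hz⟩, ?_⟩
  refine TopCat.Presheaf.section_ext (F : TopCat.Sheaf AddCommGrpCat X) _ _ _ fun x hx => ?_
  exact (germ_rs F _ x hx s).trans (hx.2.trans (map_zero _).symm)

theorem germ_pullSec_eq {F : QCohLib.AbSh X} {V : Opens X} (t : F.obj.obj (op V)) {U : Opens Z}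
    (σ : ((CohTop.pull e).obj F).obj.obj (op U)) (z : Z) (hz : z ∈ U) (hV : e z ∈ V)
    (h : pullStalk e F z (germ F V (e z) hV t) = germ ((CohTop.pull e).obj F) U z hz σ) :
    germ ((CohTop.pull e).obj F) ((Opens.map e).obj V) z hV (pullSec e F V t) =
      germ ((CohTop.pull e).obj F) U z hz σ :=
  (pullStalk_germ e F z V hV t).symm.trans h

variable (e)

/-- Germs in the base of a section of the inverse image. -/
noncomputable def downSec {F : QCohLib.AbSh X} {U : Opens Z} (σ : ((CohTop.pull e).obj F).obj.obj (op U))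
    (z : Z) : Stk F (e z) :=
  down e F (fun w =>
    haveI := Classical.dec (w ∈ U)
    if h : w ∈ U then germ ((CohTop.pull e).obj F) U w h σ else 0) z

theorem pullStalk_downSec {F : QCohLib.AbSh X} {U : Opens Z} (σ : ((CohTop.pull e).obj F).obj.obj (op U))
    (z : Z) (hz : z ∈ U) : pullStalk e F z (downSec e σ z) = germ ((CohTop.pull e).obj F) U z hz σ :=
  (pullStalk_down e F _ z).trans (dif_pos hz)

/-- A section over the whole subspace extends to a neighbourhood. -/
theorem exists_extension [CompactSpace Z] (he : IsEmbedding e) (hs : Sep (Set.range e)) {F : QCohLib.AbSh X}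
    (σ : ((CohTop.pull e).obj F).obj.obj (op ⊤)) :
    ∃ (U : Opens X) (t : F.obj.obj (op U)) (hU : ∀ z, e z ∈ U),
      ((CohTop.pull e).obj F).obj.map (homOfLE (fun z _ => hU z : (⊤ : Opens Z) ≤ (Opens.map e).obj U)).op
        (pullSec e F U t) = σ := by
  haveI := t2Space_of_sep e he hs
  have hfam : IsFam e F Set.univ (down e F fun z => germ ((CohTop.pull e).obj F) ⊤ z trivial σ) :=
    isFam_down e F he.isInducing fun z _ => ⟨⊤, trivial, σ, fun y _ _ => rfl⟩
  obtain ⟨U, t, hU, ht⟩ := exists_section he hs isClosed_univ hfam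
  refine ⟨U, t, fun z => hU z trivial, ?_⟩
  refine TopCat.Presheaf.section_ext ((CohTop.pull e).obj F : TopCat.Sheaf AddCommGrpCat Z) _ _ _ fun z hz => ?_
  refine (germ_rs _ (fun w _ => hU w trivial : (⊤ : Opens Z) ≤ (Opens.map e).obj U) z hz _).trans ?_
  refine (pullStalk_germ e F z U (hU z trivial) t).symm.trans ?_
  rw [ht z trivial (hU z trivial)]
  exact pullStalk_down e F _ z

theorem exists_zero_nhd {F : QCohLib.AbSh X} {U : Opens X} (hU : ∀ z, e z ∈ U) (s : F.obj.obj (op U))
    (h : ((CohTop.pull e).obj F).obj.map (homOfLE (fun z _ => hU z : (⊤ : Opens Z) ≤ (Opens.map e).obj U)).op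
      (pullSec e F U s) = 0) :
    ∃ U' : Opens X, ∃ hle : U' ≤ U, (∀ z, e z ∈ U') ∧ F.obj.map (homOfLE hle).op s = 0 := by
  obtain ⟨U', hle, h1, h2⟩ := eventually_eq_zero (e := e) s fun z hz => (bijective_pullStalk e F z).1 (by
    rw [map_zero]
    refine (pullStalk_germ e F z U hz s).trans ?_
    refine ((germ_rs ((CohTop.pull e).obj F) (W := (Opens.map e).obj U) (W' := (⊤ : Opens Z))
      (fun w _ => hU w : (⊤ : Opens Z) ≤ (Opens.map e).obj U) z trivial (pullSec e F U s)).symm.trans
      (congrArg (germ ((CohTop.pull e).obj F) ⊤ z trivial) h)).trans ?_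
    exact map_zero _)
  exact ⟨U', hle, fun z => h1 z (hU z), h2⟩

section Nbhds

/-- The opens around the subspace. -/
abbrev nhdsProp : ObjectProperty (Opens X)ᵒᵖ := fun U => Set.range e ⊆ (U.unop : Set X)

instance isFiltered_nhds : IsFiltered (nhdsProp e).FullSubcategory :=
  haveI : Nonempty (nhdsProp e).FullSubcategory := ⟨⟨op ⊤, Set.subset_univ _⟩⟩
  haveI : IsFilteredOrEmpty (nhdsProp e).FullSubcategory :=
    { cocone_objs := fun A B => ⟨⟨op (A.obj.unop ⊓ B.obj.unop), fun _ hx => ⟨A.property hx, B.property hx⟩⟩,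
        ObjectProperty.homMk (homOfLE inf_le_left).op, ObjectProperty.homMk (homOfLE inf_le_right).op, trivial⟩
      cocone_maps := fun {_ B} _ _ => ⟨B, 𝟙 B, ObjectProperty.hom_ext _ (Subsingleton.elim _ _)⟩ }
  ⟨⟩

/-- Sections near the subspace. -/
noncomputable abbrev nearPre : ((Opens X)ᵒᵖ ⥤ AddCommGrpCat.{u}) ⥤ AddCommGrpCat.{u} :=
  (Functor.whiskeringLeft _ _ AddCommGrpCat.{u}).obj (nhdsProp e).ι ⋙ colim

noncomputable abbrev nearSec : QCohLib.AbSh X ⥤ AddCommGrpCat.{u} :=
  sheafToPresheaf (Opens.grothendieckTopology X) AddCommGrpCat.{u} ⋙ nearPre e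

/-- Restriction to the subspace. -/
noncomputable def nearCocone (F : QCohLib.AbSh X) : Cocone ((nhdsProp e).ι ⋙ F.obj) where
  pt := (GZ e).obj F
  ι :=
    { app := fun U => ((TopCat.Sheaf.pullbackPushforwardAdjunction AddCommGrpCat.{u} e).unit.app F).hom.app U.obj ≫
        ((CohTop.pull e).obj F).obj.map
          (homOfLE (fun z _ => U.property ⟨z, rfl⟩ : (⊤ : Opens Z) ≤ (Opens.map e).obj U.obj.unop)).op
      naturality := fun U V i => by
        ext s
        exact pullSec_res e i.hom s _ _ }

theorem isIso_nearDesc [CompactSpace Z] (he : IsEmbedding e) (hs : Sep (Set.range e)) (F : QCohLib.AbSh X) :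
    IsIso (colimit.desc ((nhdsProp e).ι ⋙ F.obj) (nearCocone e F)) := by
  refine (ConcreteCategory.isIso_iff_bijective _).mpr ⟨(injective_iff_map_eq_zero _).mpr fun a ha => ?_,
    fun σ => ?_⟩
  · obtain ⟨U, s, rfl⟩ := Concrete.colimit_exists_rep ((nhdsProp e).ι ⋙ F.obj) a
    obtain ⟨U', hle, hU', h0⟩ := exists_zero_nhd e (fun z => U.property ⟨z, rfl⟩) s
      ((ConcreteCategory.congr_hom (colimit.ι_desc (nearCocone e F) U) s).symm.trans ha)
    let U'' : (nhdsProp e).FullSubcategory := ⟨op U', Set.range_subset_iff.mpr hU'⟩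
    let i : U ⟶ U'' := ObjectProperty.homMk (homOfLE hle).op
    refine (ConcreteCategory.congr_hom (colimit.w ((nhdsProp e).ι ⋙ F.obj) i) s).symm.trans ?_
    exact (congrArg (colimit.ι ((nhdsProp e).ι ⋙ F.obj) U'') h0).trans (map_zero _)
  · obtain ⟨U, t, hU, ht⟩ := exists_extension e he hs σ
    let U₁ : (nhdsProp e).FullSubcategory := ⟨op U, Set.range_subset_iff.mpr hU⟩
    refine ⟨colimit.ι ((nhdsProp e).ι ⋙ F.obj) U₁ t, ?_⟩
    exact (ConcreteCategory.congr_hom (colimit.ι_desc (nearCocone e F) U₁) t).trans ht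

/-- Sections near a compact separated subspace are sections of the inverse image. -/
noncomputable def nearIso [CompactSpace Z] (he : IsEmbedding e) (hs : Sep (Set.range e)) : nearSec e ≅ GZ e :=
  haveI := isIso_nearDesc e he hs
  NatIso.ofComponents (fun F => asIso (colimit.desc ((nhdsProp e).ι ⋙ F.obj) (nearCocone e F)))
    (fun {F G} φ => by
      refine colimit.hom_ext fun U => ?_
      change colimit.ι _ U ≫ colim.map _ ≫ colimit.desc _ _ = colimit.ι _ U ≫ colimit.desc _ _ ≫ _
      rw [colimit.ι_map_assoc, colimit.ι_desc, colimit.ι_desc_assoc]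
      ext s
      change ((CohTop.pull e).obj G).obj.map _ (((TopCat.Sheaf.pullbackPushforwardAdjunction
        AddCommGrpCat.{u} e).unit.app G).hom.app U.obj (φ.hom.app U.obj s)) =
        ((CohTop.pull e).map φ).hom.app (op ⊤) (((CohTop.pull e).obj F).obj.map _
          (((TopCat.Sheaf.pullbackPushforwardAdjunction AddCommGrpCat.{u} e).unit.app F).hom.app U.obj s))
      rw [NatTrans.naturality_apply]
      refine congrArg _ ?_
      exact ConcreteCategory.congr_hom (congrArg (fun ψ => ψ.hom.app U.obj)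
        ((TopCat.Sheaf.pullbackPushforwardAdjunction AddCommGrpCat.{u} e).unit.naturality φ)) s)

end Nbhds

section Proper

variable {Y : TopCat.{u}} (f : X ⟶ Y)

/-- A closed map has arbitrarily small tubular neighbourhoods. -/
theorem exists_tube (hf : IsClosedMap f) (y : Y) {U : Opens X} (hU : ∀ x, f x = y → x ∈ U) :
    ∃ V : Opens Y, y ∈ V ∧ (Opens.map f).obj V ≤ U := by
  refine ⟨⟨(f '' (U : Set X)ᶜ)ᶜ, (hf _ U.isOpen.isClosed_compl).isOpen_compl⟩, fun ⟨x, hx, hxy⟩ => hx (hU x hxy),
    fun x hx => ?_⟩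
  by_contra h
  exact hx ⟨x, h, rfl⟩

variable (y : Y) (hey : ∀ z, f (e z) = y)

/-- Restriction of germs of the direct image to the fibre. -/
noncomputable def stalkCocone (F : QCohLib.AbSh X) :
    Cocone ((OpenNhds.inclusion y).op ⋙ ((CohTop.push f).obj F).obj) where
  pt := (GZ e).obj F
  ι :=
    { app := fun V =>
        ((TopCat.Sheaf.pullbackPushforwardAdjunction AddCommGrpCat.{u} e).unit.app F).hom.app
            (op ((Opens.map f).obj V.unop.1)) ≫
          ((CohTop.pull e).obj F).obj.map (homOfLE (fun z _ => show f (e z) ∈ V.unop.1 from (hey z).symm ▸ V.unop.2 :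
            (⊤ : Opens Z) ≤ (Opens.map e).obj ((Opens.map f).obj V.unop.1))).op
      naturality := fun V W i => by
        ext s
        exact pullSec_res e ((Opens.map f).map ((OpenNhds.inclusion y).map i.unop)).op s _ _ }

variable (hcl : IsClosedMap f) (hsurj : ∀ x, f x = y → x ∈ Set.range e)

include hcl hsurj in
theorem isIso_stalkDesc [CompactSpace Z] (he : IsEmbedding e) (hs : Sep (Set.range e)) (F : QCohLib.AbSh X) :
    IsIso (colimit.desc _ (stalkCocone e f y hey F)) := by
  refine (ConcreteCategory.isIso_iff_bijective _).mpr ⟨(injective_iff_map_eq_zero _).mpr fun a ha => ?_,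
    fun σ => ?_⟩
  · obtain ⟨V, s, rfl⟩ := Concrete.colimit_exists_rep ((OpenNhds.inclusion y).op ⋙ ((CohTop.push f).obj F).obj) a
    obtain ⟨U', hle, hU', h0⟩ := exists_zero_nhd e
      (U := (Opens.map f).obj V.unop.1) (fun z => show f (e z) ∈ V.unop.1 from (hey z).symm ▸ V.unop.2) s
      ((ConcreteCategory.congr_hom (colimit.ι_desc (stalkCocone e f y hey F) V) s).symm.trans ha)
    obtain ⟨W, hyW, hW⟩ := exists_tube f hcl y (U := U') fun x hx => by
      obtain ⟨z, rfl⟩ := hsurj x hx
      exact hU' z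
    let V' : OpenNhds y := ⟨V.unop.1 ⊓ W, V.unop.2, hyW⟩
    let i : V ⟶ op V' := (homOfLE (show V' ≤ V.unop from (inf_le_left : V.unop.1 ⊓ W ≤ V.unop.1)) : V' ⟶ V.unop).op
    refine (ConcreteCategory.congr_hom (colimit.w ((OpenNhds.inclusion y).op ⋙ ((CohTop.push f).obj F).obj) i) s).symm.trans ?_
    refine (congrArg (colimit.ι ((OpenNhds.inclusion y).op ⋙ ((CohTop.push f).obj F).obj) (op V')) ?_).trans (map_zero _)
    have hle' : (Opens.map f).obj V'.1 ≤ U' := fun x hx => hW hx.2
    refine Eq.trans ?_ ((congrArg (F.obj.map (homOfLE hle').op) h0).trans (map_zero (F.obj.map (homOfLE hle').op).hom))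
    exact ConcreteCategory.congr_hom (F.obj.map_comp (homOfLE hle).op (homOfLE hle').op) s
  · obtain ⟨U, t, hU, ht⟩ := exists_extension e he hs σ
    obtain ⟨W, hyW, hW⟩ := exists_tube f hcl y (U := U) fun x hx => by
      obtain ⟨z, rfl⟩ := hsurj x hx
      exact hU z
    refine ⟨colimit.ι ((OpenNhds.inclusion y).op ⋙ ((CohTop.push f).obj F).obj) (op (⟨W, hyW⟩ : OpenNhds y))
      (F.obj.map (homOfLE hW).op t), ?_⟩
    refine (ConcreteCategory.congr_hom (colimit.ι_desc (stalkCocone e f y hey F) _) _).trans ?_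
    refine Eq.trans ?_ ht
    exact pullSec_res e (homOfLE hW).op t _ _

/-- The stalk of the direct image is the sections on the fibre. -/
noncomputable def stalkPushIso [CompactSpace Z] (he : IsEmbedding e) (hs : Sep (Set.range e)) :
    CohTop.push f ⋙ FlasqueRes.stk y ≅ GZ e :=
  haveI := isIso_stalkDesc e f y hey hcl hsurj he hs
  NatIso.ofComponents (fun F => asIso (colimit.desc _ (stalkCocone e f y hey F)))
    (fun {F G} φ => by
      refine TopCat.Presheaf.stalk_hom_ext _ fun V hV => ?_
      ext s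
      change colimit.desc _ (stalkCocone e f y hey G)
          ((TopCat.Presheaf.stalkFunctor AddCommGrpCat.{u} y).map ((CohTop.push f).map φ).hom
            (TopCat.Presheaf.germ ((CohTop.push f).obj F).obj V y hV s)) =
        (GZ e).map φ (colimit.desc _ (stalkCocone e f y hey F)
            (TopCat.Presheaf.germ ((CohTop.push f).obj F).obj V y hV s))
      rw [TopCat.Presheaf.stalkFunctor_map_germ_apply]
      refine (ConcreteCategory.congr_hom (colimit.ι_desc (stalkCocone e f y hey G) (op (⟨V, hV⟩ : OpenNhds y))) _).trans ?_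
      refine Eq.trans ?_ (congrArg _ (ConcreteCategory.congr_hom (colimit.ι_desc (stalkCocone e f y hey F) (op (⟨V, hV⟩ : OpenNhds y))) _)).symm
      change ((CohTop.pull e).obj G).obj.map _ (((TopCat.Sheaf.pullbackPushforwardAdjunction
        AddCommGrpCat.{u} e).unit.app G).hom.app _ (φ.hom.app _ s)) =
        ((CohTop.pull e).map φ).hom.app (op ⊤) (((CohTop.pull e).obj F).obj.map _
          (((TopCat.Sheaf.pullbackPushforwardAdjunction AddCommGrpCat.{u} e).unit.app F).hom.app _ s))
      rw [NatTrans.naturality_apply]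
      refine congrArg _ ?_
      exact ConcreteCategory.congr_hom (congrArg (fun ψ => ψ.hom.app (op ((Opens.map f).obj V)))
        ((TopCat.Sheaf.pullbackPushforwardAdjunction AddCommGrpCat.{u} e).unit.naturality φ)) s)

theorem nonempty_stalk_Rpush_iso [CompactSpace Z] (he : IsEmbedding e) (hs : Sep (Set.range e))
    (hey : ∀ z, f (e z) = y) (hcl : IsClosedMap f) (hsurj : ∀ x, f x = y → x ∈ Set.range e)
    (F : QCohLib.AbSh X) (p : ℕ) :
    Nonempty (CohTop.stalk ((CohTop.Rpush f p).obj F) y ≅ ((GZ e).rightDerived p).obj F) := by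
  haveI : PreservesFiniteColimits (FlasqueRes.stk y) :=
    haveI := (Adjunction.ofIsLeftAdjoint (FlasqueRes.stk y)).leftAdjoint_preservesColimits
    inferInstance
  haveI : (FlasqueRes.stk y).PreservesHomology := Functor.preservesHomologyOfExact _
  exact ⟨((Groth.Agent.RightDerCompLib.rightDerivedCompExact (CohTop.push f) (FlasqueRes.stk y) p).app F).symm ≪≫
    (Groth.Agent.RightDerCompLib.rightDerivedCongr (stalkPushIso e f y hey hcl hsurj he hs) p).app F⟩

end Proper

end CohTopLib.FibreCoh
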