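import Groth.Agent.CohTopLib.SubSheaf
import Groth.Agent.CohTopLib.FibreCoh
import Mathlib.AlgebraicTopology.SimplexCategory.Basic
import Mathlib.AlgebraicTopology.AlternatingFaceMapComplex

/-!
# `π_* π^*` as families of germs, strictly functorial in the space over the base
-/

set_option autoImplicit false
set_option linter.unusedSectionVars false
set_option linter.style.haveILetI false
set_option backward.isDefEq.respectTransparency false
set_option backward.isDefEq.respectTransparency.types false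

universe u
open CategoryTheory CategoryTheory.Limits TopologicalSpace Opposite
open Topology

namespace CohTopLib.FamPush

open GermFam

variable {X : TopCat.{u}}

/-- The fibre. -/
abbrev Fib (U : Over X) (x : X) : Type u := {z : U.left // U.hom z = x}

/-- All families of germs over the fibres, as a presheaf. -/
noncomputable def famPre (U : Over X) (F : QCohLib.AbSh X) : (Opens X)ᵒᵖ ⥤ AddCommGrpCat.{u} where
  obj W := AddCommGrpCat.of (∀ x : W.unop, Fib U x.1 → Stk F x.1)
  map {W W'} i := AddCommGrpCat.ofHom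
    (AddMonoidHom.pi fun x : W'.unop =>
      Pi.evalAddMonoidHom (fun y : W.unop => Fib U y.1 → Stk F y.1) (⟨x.1, leOfHom i.unop x.2⟩ : W.unop))

/-- All families of germs over the fibres. -/
noncomputable def fam (U : Over X) (F : QCohLib.AbSh X) : QCohLib.AbSh X :=
  ⟨famPre U F, (TopCat.Presheaf.isSheaf_iff_isSheaf_comp (forget AddCommGrpCat.{u})
    (famPre U F)).mpr (TopCat.Presheaf.toTypes_isSheaf X fun x => Fib U x → Stk F x)⟩

/-- A family given near each point upstairs by a section downstairs. -/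
def IsLoc (U : Over X) (F : QCohLib.AbSh X) (W : Opens X) (f : ∀ x : W, Fib U x.1 → Stk F x.1) : Prop :=
  ∀ z : U.left, ∀ hz : U.hom z ∈ W, ∃ (A : Opens X) (_ : U.hom z ∈ A) (t : F.obj.obj (op A)) (N : Opens U.left),
    z ∈ N ∧ ∀ z' ∈ N, ∀ (hz' : U.hom z' ∈ W) (hA : U.hom z' ∈ A),
      f ⟨U.hom z', hz'⟩ ⟨z', rfl⟩ = germ F A (U.hom z') hA t

/-- The condition. -/
noncomputable def cond (U : Over X) (F : QCohLib.AbSh X) : SubSheaf.Cond (fam U F) where
  ok W :=
    { carrier := {f | IsLoc U F W f}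
      zero_mem' := fun z hz => ⟨W, hz, 0, ⊤, trivial, fun z' _ hz' hA => (map_zero _).symm⟩
      add_mem' := fun {f g} hf hg z hz => by
        obtain ⟨A, hA, t, N, hN, ht⟩ := hf z hz
        obtain ⟨A', hA', t', N', hN', ht'⟩ := hg z hz
        refine ⟨A ⊓ A', ⟨hA, hA'⟩, F.obj.map (homOfLE (inf_le_left : A ⊓ A' ≤ A)).op t +
          F.obj.map (homOfLE (inf_le_right : A ⊓ A' ≤ A')).op t', N ⊓ N', ⟨hN, hN'⟩, fun z' hz'N hz' hAA => ?_⟩
        refine Eq.trans ?_ (map_add (TopCat.Presheaf.germ (X := X) F.obj (A ⊓ A') _ hAA).hom _ _).symm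
        exact congrArg₂ (· + ·)
          ((ht z' hz'N.1 hz' hAA.1).trans (germ_rs F (inf_le_left : A ⊓ A' ≤ A) _ hAA t).symm)
          ((ht' z' hz'N.2 hz' hAA.2).trans (germ_rs F (inf_le_right : A ⊓ A' ≤ A') _ hAA t').symm)
      neg_mem' := fun {f} hf z hz => by
        obtain ⟨A, hA, t, N, hN, ht⟩ := hf z hz
        exact ⟨A, hA, -t, N, hN, fun z' h1 h2 h3 => (congrArg Neg.neg (ht z' h1 h2 h3)).trans
          (map_neg (TopCat.Presheaf.germ (X := X) F.obj A _ h3).hom t).symm⟩ }
  res {W W'} h f hf z hz := by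
    obtain ⟨A, hA, t, N, hN, ht⟩ := hf z (h hz)
    exact ⟨A, hA, t, N, hN, fun z' h1 h2 h3 => ht z' h1 (h h2) h3⟩
  loc W f h z hz := by
    obtain ⟨V, hle, hzV, hf⟩ := h (U.hom z) hz
    obtain ⟨A, hA, t, N, hN, ht⟩ := hf z hzV
    exact ⟨A, hA, t, N ⊓ (Opens.map U.hom).obj V, ⟨hN, hzV⟩, fun z' h1 _ h3 => ht z' h1.1 h1.2 h3⟩

/-- The value at a point of the fibre. -/
def val {U : Over X} {F : QCohLib.AbSh X} {W : Opens X} (f : (SubSheaf.sh (cond U F)).obj.obj (op W))
    (x : X) (hx : x ∈ W) (z : Fib U x) : Stk F x :=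
  (show (cond U F).ok W from f).1 ⟨x, hx⟩ z

theorem val_ext {U : Over X} {F : QCohLib.AbSh X} {W : Opens X} {f g : (SubSheaf.sh (cond U F)).obj.obj (op W)}
    (h : ∀ x hx z, val f x hx z = val g x hx z) : f = g :=
  Subtype.ext (funext fun x => funext fun z => h x.1 x.2 z)

theorem val_map {U : Over X} {F : QCohLib.AbSh X} {W W' : Opens X} (i : op W ⟶ op W')
    (f : (SubSheaf.sh (cond U F)).obj.obj (op W)) (x : X) (hx : x ∈ W') (z : Fib U x) :
    val ((SubSheaf.sh (cond U F)).obj.map i f) x hx z = val f x (leOfHom i.unop hx) z := rfl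

/-- Families are functorial in the sheaf. -/
noncomputable def famMap (U : Over X) {F G : QCohLib.AbSh X} (φ : F ⟶ G) : fam U F ⟶ fam U G :=
  ⟨{ app := fun W => AddCommGrpCat.ofHom
      (AddMonoidHom.mk' (fun (f : ∀ x : W.unop, Fib U x.1 → Stk F x.1) => fun x z => st x.1 φ (f x z))
        fun f g => funext fun x => funext fun z => map_add (st x.1 φ).hom (f x z) (g x z))
     naturality := fun _ _ _ => rfl }⟩

theorem isLoc_famMap (U : Over X) {F G : QCohLib.AbSh X} (φ : F ⟶ G) (W : Opens X)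
    (s : (SubSheaf.sh (cond U F)).obj.obj (op W)) :
    (SubSheaf.incl (cond U F) ≫ famMap U φ).hom.app (op W) s ∈ (cond U G).ok W := fun z hz => by
  obtain ⟨A, hA, t, N, hN, ht⟩ := (show (cond U F).ok W from s).2 z hz
  exact ⟨A, hA, φ.hom.app (op A) t, N, hN, fun z' h1 h2 h3 =>
    (congrArg (st (U.hom z') φ) (ht z' h1 h2 h3)).trans (st_germ (U.hom z') φ A h3 t)⟩

/-- `π_* π^*`, as families. -/
noncomputable def pp (U : Over X) : QCohLib.AbSh X ⥤ QCohLib.AbSh X where
  obj F := SubSheaf.sh (cond U F)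
  map {F G} φ := SubSheaf.lift (cond U G) (SubSheaf.incl (cond U F) ≫ famMap U φ) (isLoc_famMap U φ)
  map_id F := by
    refine Sheaf.hom_ext (NatTrans.ext (funext fun W => ?_))
    ext s
    refine Subtype.ext (funext fun x => funext fun z => ?_)
    exact ConcreteCategory.congr_hom ((TopCat.Presheaf.stalkFunctor AddCommGrpCat.{u} (X := X) x.1).map_id F.obj) _
  map_comp {F G H} φ ψ := by
    refine Sheaf.hom_ext (NatTrans.ext (funext fun W => ?_))
    ext s
    refine Subtype.ext (funext fun x => funext fun z => ?_)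
    exact ConcreteCategory.congr_hom ((TopCat.Presheaf.stalkFunctor AddCommGrpCat.{u} (X := X) x.1).map_comp φ.hom ψ.hom) _

theorem val_pp_map (U : Over X) {F G : QCohLib.AbSh X} (φ : F ⟶ G) {W : Opens X}
    (f : ((pp U).obj F).obj.obj (op W)) (x : X) (hx : x ∈ W) (z : Fib U x) :
    val (((pp U).map φ).hom.app (op W) f) x hx z = st x φ (val f x hx z) := rfl

instance additive_pp (U : Over X) : (pp U).Additive where
  map_add {F G φ ψ} := by
    refine Sheaf.hom_ext (NatTrans.ext (funext fun W => ?_))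
    ext s
    refine Subtype.ext (funext fun x => funext fun z => ?_)
    exact ConcreteCategory.congr_hom
      ((CohTopLib.FlasqueRes.stk x.1).map_add (f := φ) (g := ψ)) ((show (cond U F).ok W.unop from s).1 x z)

/-- Precomposition of families. -/
noncomputable def famPull {U V : Over X} (g : U ⟶ V) (F : QCohLib.AbSh X) : fam V F ⟶ fam U F :=
  ⟨{ app := fun W => AddCommGrpCat.ofHom
      (AddMonoidHom.mk' (fun (f : ∀ x : W.unop, Fib V x.1 → Stk F x.1) => fun x z =>
        f x ⟨g.left z.1, (ConcreteCategory.congr_hom (Over.w g) z.1).trans z.2⟩) fun _ _ => rfl)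
     naturality := fun _ _ _ => rfl }⟩

theorem val_comp_eq {U V : Over X} (g : U ⟶ V) {F : QCohLib.AbSh X} {W A : Opens X} (t : F.obj.obj (op A))
    (f : ∀ x : W, Fib V x.1 → Stk F x.1) (z : U.left) (hz : U.hom z ∈ W) (hA : U.hom z ∈ A)
    (h : ∀ (hz' : V.hom (g.left z) ∈ W) (hA' : V.hom (g.left z) ∈ A),
      f ⟨V.hom (g.left z), hz'⟩ ⟨g.left z, rfl⟩ = germ F A (V.hom (g.left z)) hA' t) :
    f ⟨U.hom z, hz⟩ ⟨g.left z, ConcreteCategory.congr_hom (Over.w g) z⟩ = germ F A (U.hom z) hA t := by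
  have key : ∀ (x : X) (e : V.hom (g.left z) = x) (hx : x ∈ W) (hxA : x ∈ A),
      f ⟨x, hx⟩ ⟨g.left z, e⟩ = germ F A x hxA t := by
    rintro x rfl hx hxA
    exact h hx hxA
  exact key _ _ hz hA

theorem isLoc_famPull {U V : Over X} (g : U ⟶ V) (F : QCohLib.AbSh X) (W : Opens X)
    (s : (SubSheaf.sh (cond V F)).obj.obj (op W)) :
    (SubSheaf.incl (cond V F) ≫ famPull g F).hom.app (op W) s ∈ (cond U F).ok W := fun z hz => by
  have e : V.hom (g.left z) = U.hom z := ConcreteCategory.congr_hom (Over.w g) z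
  obtain ⟨A, hA, t, N, hN, ht⟩ := (show (cond V F).ok W from s).2 (g.left z) (e.symm ▸ hz)
  exact ⟨A, e ▸ hA, t, (Opens.map g.left).obj N, hN, fun z' h1 h2 h3 =>
    val_comp_eq g t (show (cond V F).ok W from s).1 z' h2 h3 (ht (g.left z') h1)⟩

/-- Precomposition. -/
noncomputable def ppPull {U V : Over X} (g : U ⟶ V) : pp V ⟶ pp U where
  app F := SubSheaf.lift (cond U F) (SubSheaf.incl (cond V F) ≫ famPull g F) (isLoc_famPull g F)
  naturality _ _ _ := rfl

theorem val_ppPull {U V : Over X} (g : U ⟶ V) (F : QCohLib.AbSh X) {W : Opens X}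
    (f : ((pp V).obj F).obj.obj (op W)) (x : X) (hx : x ∈ W) (z : Fib U x) :
    val (((ppPull g).app F).hom.app (op W) f) x hx z =
      val f x hx ⟨g.left z.1, (ConcreteCategory.congr_hom (Over.w g) z.1).trans z.2⟩ := rfl

/-- The system of all `π_* π^*`. -/
noncomputable def ppFunctor : (Over X)ᵒᵖ ⥤ (QCohLib.AbSh X ⥤ QCohLib.AbSh X) where
  obj U := pp U.unop
  map g := ppPull g.unop
  map_id _ := rfl
  map_comp _ _ := rfl

/-- The augmentation of families. -/
noncomputable def famAug (U : Over X) (F : QCohLib.AbSh X) : F ⟶ fam U F :=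
  ⟨{ app := fun W => AddCommGrpCat.ofHom
      (AddMonoidHom.mk' (fun (t : F.obj.obj W) => (fun x _ => germ F W.unop x.1 x.2 t : ∀ x : W.unop, Fib U x.1 → Stk F x.1))
        fun a b => funext fun x => funext fun _ => map_add (TopCat.Presheaf.germ (X := X) F.obj W.unop x.1 x.2).hom a b)
     naturality := fun W W' i => by
      ext t
      funext x z
      exact TopCat.Presheaf.germ_res_apply (X := X) F.obj i.unop x.1 x.2 t }⟩

/-- The augmentation. -/
noncomputable def aug (U : Over X) : 𝟭 (QCohLib.AbSh X) ⟶ pp U where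
  app F := SubSheaf.lift (cond U F) (famAug U F) fun W t _ hz =>
    ⟨W, hz, t, ⊤, trivial, fun _ _ _ _ => rfl⟩
  naturality F G φ := by
    refine Sheaf.hom_ext (NatTrans.ext (funext fun W => ?_))
    ext t
    refine Subtype.ext (funext fun x => funext fun z => ?_)
    exact (st_germ x.1 φ W.unop x.2 t).symm

theorem val_aug (U : Over X) (F : QCohLib.AbSh X) {W : Opens X} (t : F.obj.obj (op W)) (x : X) (hx : x ∈ W)
    (z : Fib U x) : val (((aug U).app F).hom.app (op W) t) x hx z = germ F W x hx t := rfl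

theorem aug_comp_ppPull {U V : Over X} (g : U ⟶ V) : aug V ≫ ppPull g = aug U := rfl

section PushPull

variable (U : Over X) (F : QCohLib.AbSh X)

/-- From the stalk upstairs to the stalk downstairs. -/
noncomputable def toBase (x : X) (z : Fib U x) : Stk ((CohTop.pull U.hom).obj F) z.1 →+ Stk F x :=
  haveI := isIso_pullStalk U.hom F z.1
  (inv (pullStalk U.hom F z.1) ≫ eqToHom (by rw [z.2])).hom

theorem toBase_pullStalk (z : U.left) (a : Stk F (U.hom z)) :
    toBase U F (U.hom z) ⟨z, rfl⟩ (pullStalk U.hom F z a) = a :=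
  haveI := isIso_pullStalk U.hom F z
  ConcreteCategory.congr_hom (IsIso.hom_inv_id (pullStalk U.hom F z)) a

theorem pullStalk_toBase (z : U.left) (a : Stk ((CohTop.pull U.hom).obj F) z) :
    pullStalk U.hom F z (toBase U F (U.hom z) ⟨z, rfl⟩ a) = a := by
  obtain ⟨b, rfl⟩ := (bijective_pullStalk U.hom F z).2 a
  rw [toBase_pullStalk]

/-- The comparison of families with `π_* π^*`. -/
noncomputable def ofPushFam : (CohTop.push U.hom).obj ((CohTop.pull U.hom).obj F) ⟶ fam U F :=
  ⟨{ app := fun W => AddCommGrpCat.ofHom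
      (AddMonoidHom.mk' (fun (s : ((CohTop.pull U.hom).obj F).obj.obj (op ((Opens.map U.hom).obj W.unop))) =>
        (fun x z => toBase U F x.1 z (germ ((CohTop.pull U.hom).obj F) ((Opens.map U.hom).obj W.unop) z.1
          (show U.hom z.1 ∈ W.unop from z.2.symm ▸ x.2) s) : ∀ x : W.unop, Fib U x.1 → Stk F x.1))
        fun a b => funext fun x => funext fun z =>
          (congrArg (toBase U F x.1 z) (map_add (TopCat.Presheaf.germ (X := U.left) ((CohTop.pull U.hom).obj F).obj
            ((Opens.map U.hom).obj W.unop) z.1 (show U.hom z.1 ∈ W.unop from z.2.symm ▸ x.2)).hom a b)).trans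
            (map_add (toBase U F x.1 z) _ _))
     naturality := fun W W' i => by
      ext s
      funext x z
      exact congrArg (toBase U F x.1 z) (TopCat.Presheaf.germ_res_apply (X := U.left)
        ((CohTop.pull U.hom).obj F).obj _ z.1 _ s) }⟩

theorem ofPush_loc (W : Opens X) (s : ((CohTop.push U.hom).obj ((CohTop.pull U.hom).obj F)).obj.obj (op W)) :
    (ofPushFam U F).hom.app (op W) s ∈ (cond U F).ok W := fun z hz => by
  obtain ⟨A, hA, t, hAt⟩ := TopCat.Presheaf.germ_exist (X := X) F.obj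
    (toBase U F (U.hom z) ⟨z, rfl⟩ (germ ((CohTop.pull U.hom).obj F) ((Opens.map U.hom).obj W) z hz s))
  have h0 : germ ((CohTop.pull U.hom).obj F) ((Opens.map U.hom).obj A) z hA (pullSec U.hom F A t) =
      germ ((CohTop.pull U.hom).obj F) ((Opens.map U.hom).obj W) z hz s :=
    (pullStalk_germ U.hom F z A hA t).symm.trans ((congrArg (pullStalk U.hom F z) hAt).trans (pullStalk_toBase U F z _))
  obtain ⟨N, hzN, hle, hN⟩ := exists_eq_nhd _ (show z ∈ (Opens.map U.hom).obj A from hA)
    (show z ∈ (Opens.map U.hom).obj W from hz) _ _ h0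
  refine ⟨A, hA, t, N, hzN, fun z' h1 h2 h3 => ?_⟩
  change toBase U F (U.hom z') ⟨z', rfl⟩ (germ _ _ z' h2 s) = _
  rw [← hN z' h1 h3 h2, ← pullStalk_germ U.hom F z' A h3 t, toBase_pullStalk]

/-- The comparison. -/
noncomputable def ofPush : (CohTop.push U.hom).obj ((CohTop.pull U.hom).obj F) ⟶ (pp U).obj F :=
  SubSheaf.lift (cond U F) (ofPushFam U F) (ofPush_loc U F)

theorem val_ofPush {W : Opens X} (s : ((CohTop.pull U.hom).obj F).obj.obj (op ((Opens.map U.hom).obj W)))
    (z : U.left) (hz : U.hom z ∈ W) :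
    pullStalk U.hom F z (val ((ofPush U F).hom.app (op W) s) (U.hom z) hz ⟨z, rfl⟩) =
      germ ((CohTop.pull U.hom).obj F) ((Opens.map U.hom).obj W) z hz s :=
  pullStalk_toBase U F z _

instance isIso_ofPush : IsIso (ofPush U F) := by
  haveI : ∀ W, IsIso ((ofPush U F).hom.app W) := fun W => by
    refine (ConcreteCategory.isIso_iff_bijective _).mpr ⟨fun s s' h => ?_, fun f => ?_⟩
    · refine TopCat.Presheaf.section_ext ((CohTop.pull U.hom).obj F : TopCat.Sheaf AddCommGrpCat U.left) _ _ _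
        fun z hz => ?_
      exact (val_ofPush U F (W := W.unop) s z hz).symm.trans
        ((congrArg (fun t => pullStalk U.hom F z (val (W := W.unop) t (U.hom z) hz ⟨z, rfl⟩)) h).trans
          (val_ofPush U F (W := W.unop) s' z hz))
    · let f' : ((pp U).obj F).obj.obj (op W.unop) := f
      have hloc : ∀ z : (Opens.map U.hom).obj W.unop, ∃ (N : Opens U.left) (_ : N ≤ (Opens.map U.hom).obj W.unop)
          (r : ((CohTop.pull U.hom).obj F).obj.obj (op N)), z.1 ∈ N ∧ ∀ z' (h : z' ∈ N) (hz' : U.hom z' ∈ W.unop),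
            germ _ N z' h r = pullStalk U.hom F z' (val f' (U.hom z') hz' ⟨z', rfl⟩) := fun z => by
        obtain ⟨A, hA, t, N, hN, ht⟩ := (show (cond U F).ok W.unop from f').2 z.1 z.2
        refine ⟨N ⊓ (Opens.map U.hom).obj (A ⊓ W.unop), fun y hy => hy.2.2,
          ((CohTop.pull U.hom).obj F).obj.map (homOfLE (fun y hy => hy.2.1 :
            N ⊓ (Opens.map U.hom).obj (A ⊓ W.unop) ≤ (Opens.map U.hom).obj A)).op (pullSec U.hom F A t),
          ⟨hN, hA, z.2⟩, fun z' h hz' => ?_⟩
        refine (germ_rs _ _ z' h _).trans ((pullStalk_germ U.hom F z' A h.2.1 t).symm.trans ?_)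
        exact congrArg (pullStalk U.hom F z') (ht z' h.1 hz' h.2.1).symm
      choose N hle r hzN hr using hloc
      obtain ⟨s, hs, -⟩ := TopCat.Sheaf.existsUnique_gluing' ((CohTop.pull U.hom).obj F : TopCat.Sheaf AddCommGrpCat U.left)
        N ((Opens.map U.hom).obj W.unop) (fun z => homOfLE (hle z))
        (fun z hz => Opens.mem_iSup.mpr ⟨⟨z, hz⟩, hzN ⟨z, hz⟩⟩) r (fun a b => by
          refine TopCat.Presheaf.section_ext ((CohTop.pull U.hom).obj F : TopCat.Sheaf AddCommGrpCat U.left) _ _ _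
            fun z hz => ?_
          exact (germ_rs _ (inf_le_left : N a ⊓ N b ≤ N a) z hz (r a)).trans ((hr a z hz.1 (hle a hz.1)).trans
            ((hr b z hz.2 (hle b hz.2)).symm.trans (germ_rs _ (inf_le_right : N a ⊓ N b ≤ N b) z hz (r b)).symm)))
      refine ⟨s, val_ext (W := W.unop) ?_⟩
      rintro x hx ⟨z, rfl⟩
      apply (bijective_pullStalk U.hom F z).1
      refine (val_ofPush U F (W := W.unop) s z hx).trans ?_
      refine (germ_rs _ (hle ⟨z, hx⟩) z (hzN ⟨z, hx⟩) s).symm.trans ?_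
      exact (congrArg (germ _ (N ⟨z, hx⟩) z (hzN ⟨z, hx⟩)) (hs ⟨z, hx⟩)).trans (hr ⟨z, hx⟩ z (hzN ⟨z, hx⟩) hx)
  haveI : IsIso ((sheafToPresheaf _ _).map (ofPush U F)) := NatIso.isIso_of_isIso_app (ofPush U F).hom
  exact isIso_of_reflects_iso (ofPush U F) (sheafToPresheaf _ _)

end PushPull

theorem pullStalk_naturality {Z : TopCat.{u}} (e : Z ⟶ X) {F G : QCohLib.AbSh X} (φ : F ⟶ G) (z : Z)
    (a : Stk F (e z)) :
    pullStalk e G z (st (e z) φ a) = st z ((CohTop.pull e).map φ) (pullStalk e F z a) := by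
  obtain ⟨V, hV, t, rfl⟩ := TopCat.Presheaf.germ_exist (X := X) F.obj a
  refine (congrArg (pullStalk e G z) (st_germ (e z) φ V hV t)).trans ?_
  refine (pullStalk_germ e G z V hV _).trans ?_
  refine Eq.trans ?_ (congrArg (st z ((CohTop.pull e).map φ)) (pullStalk_germ e F z V hV t)).symm
  refine Eq.trans ?_ (st_germ (Z := Z) z ((CohTop.pull e).map φ) _ hV _).symm
  exact congrArg _ (ConcreteCategory.congr_hom (congrArg (fun ψ => ψ.hom.app (op V))
    ((TopCat.Sheaf.pullbackPushforwardAdjunction AddCommGrpCat.{u} e).unit.naturality φ)) t)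

/-- Families compute `π_* π^*`. -/
noncomputable def ppIso (U : Over X) : CohTop.pull U.hom ⋙ CohTop.push U.hom ≅ pp U :=
  NatIso.ofComponents (fun F => asIso (ofPush U F)) fun {F G} φ => by
    refine Sheaf.hom_ext (NatTrans.ext (funext fun W => ?_))
    ext s
    refine val_ext (W := W.unop) ?_
    rintro x hx ⟨z, rfl⟩
    apply (bijective_pullStalk U.hom G z).1
    refine (val_ofPush U G (W := W.unop) _ z hx).trans ?_
    refine Eq.trans ?_ (pullStalk_naturality U.hom φ z _).symm
    refine Eq.trans ?_ (congrArg (st z ((CohTop.pull U.hom).map φ)) (val_ofPush U F (W := W.unop) s z hx)).symm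
    exact (st_germ (Z := U.left) z ((CohTop.pull U.hom).map φ) _ hx s).symm

end CohTopLib.FamPush
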