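import Groth.Agent.CohTopLib.ClosedCover
import Mathlib.Topology.IsLocalHomeomorph
import Mathlib.Order.Zorn

/-!
# Flasqueness is local; inverse images along local homeomorphisms
-/

set_option autoImplicit false
set_option linter.unusedSectionVars false
set_option linter.style.haveILetI false
set_option backward.isDefEq.respectTransparency false
set_option backward.isDefEq.respectTransparency.types false

universe u
open CategoryTheory CategoryTheory.Limits TopologicalSpace Opposite Topology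

namespace CohTopLib.FlasqueLocal

variable {T : TopCat.{u}}

theorem mapmap (G : QCohLib.AbSh T) {A B C : Opens T} (a : B ≤ A) (b : C ≤ B) (z : G.obj.obj (op A)) :
    G.obj.map (homOfLE b).op (G.obj.map (homOfLE a).op z) = G.obj.map (homOfLE (b.trans a)).op z :=
  (ConcreteCategory.congr_hom (G.obj.map_comp (homOfLE a).op (homOfLE b).op) z).symm

theorem mapid (G : QCohLib.AbSh T) {A : Opens T} (z : G.obj.obj (op A)) (h : A ≤ A) :
    G.obj.map (homOfLE h).op z = z :=
  ConcreteCategory.congr_hom (G.obj.map_id (op A)) z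

theorem isFlasque_of_iso {F G : QCohLib.AbSh T} (e : F ≅ G) (hF : TopCat.Sheaf.IsFlasque (F : TopCat.Sheaf AddCommGrpCat T)) :
    TopCat.Sheaf.IsFlasque (G : TopCat.Sheaf AddCommGrpCat T) where
  epi {U V} i := by
    haveI := hF.epi i
    change Epi (((sheafToPresheaf _ _).obj G).map i)
    have h2 : ((sheafToPresheaf _ _).obj G).map i = ((sheafToPresheaf _ _).map e.inv).app U ≫
        ((sheafToPresheaf _ _).obj F).map i ≫ ((sheafToPresheaf _ _).map e.hom).app V := by
      rw [NatTrans.naturality, ← Category.assoc, ← NatTrans.comp_app, ← Functor.map_comp,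
        e.inv_hom_id, CategoryTheory.Functor.map_id]
      exact (Category.id_comp _).symm
    rw [h2]
    have : Epi (((sheafToPresheaf _ _).obj F).map i) := hF.epi i
    infer_instance

/-- A sheaf which is flasque near each point is flasque. -/
theorem isFlasque_of_local (G : QCohLib.AbSh T)
    (h : ∀ x : T, ∃ N : Opens T, x ∈ N ∧ ∀ (W : Opens T) (hW : W ≤ N) (s : G.obj.obj (op W)),
      ∃ t : G.obj.obj (op N), G.obj.map (homOfLE hW).op t = s) :
    TopCat.Sheaf.IsFlasque (G : TopCat.Sheaf AddCommGrpCat T) where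
  epi {U V} i := by
    rw [AddCommGrpCat.epi_iff_surjective]
    intro s
    let s₀ : G.obj.obj (op V.unop) := s
    have hVU : V.unop ≤ U.unop := leOfHom i.unop
    let α := {p : Σ A : Opens T, G.obj.obj (op A) // ∃ (h₁ : V.unop ≤ p.1) (_ : p.1 ≤ U.unop),
      G.obj.map (homOfLE h₁).op p.2 = s₀}
    let r : α → α → Prop := fun a b => ∃ h : a.1.1 ≤ b.1.1, G.obj.map (homOfLE h).op b.1.2 = a.1.2
    have hr : ∀ {a b c : α}, r a b → r b c → r a c := by
      rintro a b c ⟨h1, e1⟩ ⟨h2, e2⟩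
      exact ⟨h1.trans h2, by rw [← mapmap G h2 h1, e2, e1]⟩
    have hub : ∀ c : Set α, IsChain r c → ∃ ub, ∀ a ∈ c, r a ub := by
      intro c hc
      rcases c.eq_empty_or_nonempty with rfl | ⟨a₀, ha₀⟩
      · exact ⟨⟨⟨V.unop, s₀⟩, le_rfl, hVU, mapid G s₀ _⟩, fun a ha => absurd ha (Set.notMem_empty a)⟩
      · obtain ⟨g, hg, -⟩ := TopCat.Sheaf.existsUnique_gluing' (G : TopCat.Sheaf AddCommGrpCat T)
          (fun a : c => a.1.1.1) (⨆ a : c, a.1.1.1) (fun a => homOfLE (le_iSup (fun a : c => a.1.1.1) a)) le_rfl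
          (fun a => a.1.1.2) (fun a b => by
            by_cases hab : a.1 = b.1
            · obtain rfl : a = b := Subtype.ext hab
              rfl
            · rcases hc a.2 b.2 hab with ⟨h, e⟩ | ⟨h, e⟩
              · exact (congrArg (G.obj.map (homOfLE inf_le_left).op) e).symm.trans (mapmap G h inf_le_left _)
              · exact (mapmap G h inf_le_right _).symm.trans (congrArg (G.obj.map (homOfLE inf_le_right).op) e))
        obtain ⟨h₁, h₂, e₀⟩ := a₀.2
        refine ⟨⟨⟨⨆ a : c, a.1.1.1, g⟩, h₁.trans (le_iSup (fun a : c => a.1.1.1) ⟨a₀, ha₀⟩),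
          iSup_le fun a => a.1.2.2.1, ?_⟩, fun a ha => ⟨le_iSup (fun a : c => a.1.1.1) ⟨a, ha⟩, hg ⟨a, ha⟩⟩⟩
        refine (mapmap G _ h₁ g).symm.trans ((congrArg (G.obj.map (homOfLE h₁).op) (hg ⟨a₀, ha₀⟩)).trans e₀)
    obtain ⟨m, hm⟩ := exists_maximal_of_chains_bounded hub hr
    obtain ⟨h₁, h₂, e₁⟩ := m.2
    have hU : U.unop ≤ m.1.1 := fun x hxU => by
      by_contra hx
      obtain ⟨N, hxN, hN⟩ := h x
      obtain ⟨t, ht⟩ := hN (m.1.1 ⊓ N) inf_le_right (G.obj.map (homOfLE inf_le_left).op m.1.2)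
      let A : Bool → Opens T := fun b => bif b then m.1.1 else N ⊓ U.unop
      let sA : ∀ b, G.obj.obj (op (A b)) := fun b => match b with
        | true => m.1.2
        | false => G.obj.map (homOfLE inf_le_left).op t
      have hA : ∀ b, A b ≤ m.1.1 ⊔ (N ⊓ U.unop) := by
        rintro (_|_)
        · exact le_sup_right
        · exact le_sup_left
      have key : G.obj.map (homOfLE (inf_le_left : m.1.1 ⊓ (N ⊓ U.unop) ≤ m.1.1)).op m.1.2 =
          G.obj.map (homOfLE ((inf_le_right : m.1.1 ⊓ (N ⊓ U.unop) ≤ N ⊓ U.unop).trans inf_le_left)).op t := by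
        have h' := congrArg (G.obj.map (homOfLE (inf_le_inf le_rfl inf_le_left : m.1.1 ⊓ (N ⊓ U.unop) ≤ m.1.1 ⊓ N)).op) ht
        rw [mapmap, mapmap] at h'
        exact h'.symm
      obtain ⟨g, hg, -⟩ := TopCat.Sheaf.existsUnique_gluing' (G : TopCat.Sheaf AddCommGrpCat T) (ι := ULift.{u} Bool)
        (fun b => A b.down) (m.1.1 ⊔ (N ⊓ U.unop)) (fun b => homOfLE (hA b.down))
        (sup_le (le_iSup (fun b : ULift.{u} Bool => A b.down) ⟨true⟩)
          (le_iSup (fun b : ULift.{u} Bool => A b.down) ⟨false⟩)) (fun b => sA b.down) (by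
          rintro ⟨_|_⟩ ⟨_|_⟩
          · rfl
          · have h' := congrArg (G.obj.map (homOfLE (le_inf inf_le_right inf_le_left :
              (N ⊓ U.unop) ⊓ m.1.1 ≤ m.1.1 ⊓ (N ⊓ U.unop))).op) key
            rw [mapmap, mapmap] at h'
            exact (mapmap G inf_le_left inf_le_left t).trans h'.symm
          · exact key.trans (mapmap G inf_le_left inf_le_right t).symm
          · rfl)
      let n : α := ⟨⟨m.1.1 ⊔ (N ⊓ U.unop), g⟩, h₁.trans le_sup_left, sup_le h₂ inf_le_right, by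
        refine (mapmap G le_sup_left h₁ g).symm.trans ((congrArg (G.obj.map (homOfLE h₁).op) (hg ⟨true⟩)).trans e₁)⟩
      obtain ⟨hle, -⟩ := hm n ⟨le_sup_left, hg ⟨true⟩⟩
      exact hx (hle (Or.inr ⟨hxN, hxU⟩))
    refine ⟨G.obj.map (homOfLE hU).op m.1.2, ?_⟩
    exact ((mapmap G hU hVU m.1.2)).trans e₁

theorem exists_ext_of_sheafPullback {Z : TopCat.{u}} (j : Z ⟶ T) (hj : IsOpenEmbedding j) (G : QCohLib.AbSh T)
    (h : TopCat.Sheaf.IsFlasque ((hj.sheafPullback AddCommGrpCat.{u}).obj G : TopCat.Sheaf AddCommGrpCat Z))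
    (W : Opens T) (hW : W ≤ hj.functor.obj ⊤) (s : G.obj.obj (op W)) :
    ∃ t : G.obj.obj (op (hj.functor.obj ⊤)), G.obj.map (homOfLE hW).op t = s := by
  let W' : Opens Z := (Opens.map j).obj W
  have e : hj.functor.obj W' = W := Opens.ext (Set.image_preimage_eq_of_subset fun x hx => by
    obtain ⟨z, -, rfl⟩ := hW hx
    exact ⟨z, rfl⟩)
  obtain ⟨t, ht⟩ := (AddCommGrpCat.epi_iff_surjective _).mp (h.epi (homOfLE (le_top : W' ≤ ⊤)).op)
    (G.obj.map (homOfLE e.le).op s)
  refine ⟨t, ?_⟩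
  have h1 : G.obj.map (homOfLE (e.le.trans hW)).op t = G.obj.map (homOfLE e.le).op s := ht
  have h2 := congrArg (G.obj.map (homOfLE e.ge).op) h1
  rw [mapmap, mapmap] at h2
  exact h2.trans (mapid G s _)

/-- The inverse image of a flasque sheaf along a local homeomorphism is flasque. -/
theorem isFlasque_pull {X : TopCat.{u}} (π : T ⟶ X) (hπ : IsLocalHomeomorph π) (I : QCohLib.AbSh X)
    [TopCat.Sheaf.IsFlasque (I : TopCat.Sheaf AddCommGrpCat X)] :
    TopCat.Sheaf.IsFlasque ((CohTop.pull π).obj I : TopCat.Sheaf AddCommGrpCat T) := by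
  refine isFlasque_of_local _ fun x => ?_
  obtain ⟨U, hU, hemb⟩ := isLocalHomeomorph_iff_isOpenEmbedding_restrict.mp hπ x
  obtain ⟨O, hOU, hO, hxO⟩ := mem_nhds_iff.mp hU
  let N : Opens T := ⟨O, hO⟩
  let j : TopCat.of N ⟶ T := N.inclusion'
  have hj : IsOpenEmbedding j := N.isOpenEmbedding
  have hjπ : IsOpenEmbedding (j ≫ π) :=
    hemb.comp (IsOpenEmbedding.of_isEmbedding_isOpenMap (f := Set.inclusion hOU) (IsEmbedding.inclusion hOU)
      fun W hW => by
        have e : Set.inclusion hOU '' W = Subtype.val ⁻¹' (Subtype.val '' W) := Set.ext fun z => by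
          constructor
          · rintro ⟨w, hw, rfl⟩; exact ⟨w, hw, rfl⟩
          · rintro ⟨w, hw, hwz⟩; exact ⟨w, hw, Subtype.ext hwz⟩
        rw [e]
        exact (hO.isOpenMap_subtype_val W hW).preimage continuous_subtype_val)
  obtain ⟨c⟩ := ClosedCover.nonempty_pull_comp j π _ rfl
  have h1 : TopCat.Sheaf.IsFlasque ((hjπ.sheafPullback AddCommGrpCat.{u}).obj I : TopCat.Sheaf AddCommGrpCat (TopCat.of N)) :=
    ⟨fun {V W} i => TopCat.Presheaf.IsFlasque.epi (F := (I : TopCat.Sheaf AddCommGrpCat X).obj)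
      (hjπ.functor.map i.unop).op⟩
  have h2 := isFlasque_of_iso ((c.app I ≪≫ (hjπ.sheafPullbackIso AddCommGrpCat.{u}).app I).symm ≪≫
    (hj.sheafPullbackIso AddCommGrpCat.{u}).app _) h1
  refine ⟨hj.functor.obj ⊤, ⟨⟨x, hxO⟩, trivial, rfl⟩, exists_ext_of_sheafPullback j hj _ h2⟩

end CohTopLib.FlasqueLocal
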