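import Groth.Agent.S3093
import Groth.Agent.CohTopLib.FlasqueRes
import Groth.Agent.CechLib.Cartan
import Groth.Agent.EtH0Lib.TopPull
import Mathlib.Topology.Separation.Regular

/-!
# Families of germs on compact separated subsets, softness and acyclicity
-/

set_option autoImplicit false
set_option linter.unusedSectionVars false
set_option linter.style.haveILetI false
set_option backward.isDefEq.respectTransparency false
set_option backward.isDefEq.respectTransparency.types false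

universe u
open CategoryTheory CategoryTheory.Limits TopologicalSpace Opposite
open Filter Topology

namespace CohTopLib.GermFam

variable {X Z : TopCat.{u}}

/-- The stalk as a type. -/
abbrev Stk {X : TopCat.{u}} (F : QCohLib.AbSh X) (x : X) : Type u :=
  ↑(TopCat.Presheaf.stalk (C := AddCommGrpCat.{u}) (X := X) F.obj x)

/-- The germ of a section. -/
noncomputable abbrev germ (F : QCohLib.AbSh X) (W : Opens X) (x : X) (hx : x ∈ W) (t : F.obj.obj (op W)) :
    Stk F x := TopCat.Presheaf.germ (X := X) F.obj W x hx t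

theorem germ_rs (F : QCohLib.AbSh X) {W W' : Opens X} (h : W' ≤ W) (x : X) (hx : x ∈ W') (t : F.obj.obj (op W)) :
    germ F W' x hx (F.obj.map (homOfLE h).op t) = germ F W x (h hx) t :=
  TopCat.Presheaf.germ_res_apply (X := X) F.obj (homOfLE h) x hx t

/-- Points near which two sections agree. -/
theorem exists_eq_nhd (F : QCohLib.AbSh X) {V W : Opens X} {x : X} (hV : x ∈ V) (hW : x ∈ W)
    (s : F.obj.obj (op V)) (t : F.obj.obj (op W)) (h : germ F V x hV s = germ F W x hW t) :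
    ∃ W' : Opens X, x ∈ W' ∧ W' ≤ V ⊓ W ∧
      ∀ y (_ : y ∈ W') (h1 : y ∈ V) (h2 : y ∈ W), germ F V y h1 s = germ F W y h2 t := by
  obtain ⟨W', hxW', iV, iW, e⟩ := TopCat.Presheaf.germ_eq (X := X) F.obj x hV hW s t h
  refine ⟨W', hxW', le_inf (leOfHom iV) (leOfHom iW), fun y hy h1 h2 => ?_⟩
  have := congrArg (germ F W' y hy) e
  exact (TopCat.Presheaf.germ_res_apply (X := X) F.obj iV y hy s).symm.trans
    (this.trans (TopCat.Presheaf.germ_res_apply (X := X) F.obj iW y hy t))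

/-- Two points of the set have disjoint neighbourhoods in the space. -/
def Sep (K : Set X) : Prop :=
  ∀ x ∈ K, ∀ y ∈ K, x ≠ y → ∃ U V : Set X, IsOpen U ∧ IsOpen V ∧ x ∈ U ∧ y ∈ V ∧ Disjoint U V

/-- A family of germs which is locally given by sections. -/
def IsFam (e : Z ⟶ X) (F : QCohLib.AbSh X) (C : Set Z)
    (φ : ∀ z : Z, Stk F (e z)) : Prop :=
  ∀ z ∈ C, ∃ (W : Opens X) (_ : e z ∈ W) (t : F.obj.obj (op W)),
    ∀ y ∈ C, ∀ hy : e y ∈ W, germ F W (e y) hy t = φ y

variable {e : Z ⟶ X} {F : QCohLib.AbSh X}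

theorem IsFam.mono {C D : Set Z} {φ : ∀ z : Z, Stk F (e z)}
    (h : IsFam e F C φ) (hDC : D ⊆ C) : IsFam e F D φ := fun z hz => by
  obtain ⟨W, hW, t, ht⟩ := h z (hDC hz)
  exact ⟨W, hW, t, fun y hy => ht y (hDC hy)⟩

section Compact

variable (he : IsEmbedding e) [CompactSpace Z] [T2Space Z] (hs : Sep (Set.range e))

include he hs

/-- Closed subsets are separated by opens of the ambient space, modulo their intersection. -/
theorem exists_separate {A B : Set Z} (hA : IsClosed A) (hB : IsClosed B) {W : Set X} (hW : IsOpen W)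
    (h : ∀ z ∈ A ∩ B, e z ∈ W) :
    ∃ U V : Opens X, (∀ z ∈ A, e z ∈ U) ∧ (∀ z ∈ B, e z ∈ V) ∧ ((U : Set X) ∩ V ⊆ W) := by
  have hc : ∀ {S : Set Z}, IsClosed S → IsClosed (Subtype.val ⁻¹' (e '' S) : Set (Set.range e)) := by
    intro S hS
    have hpre : (Subtype.val ⁻¹' (e '' S) : Set (Set.range e)) = Set.rangeFactorization e '' S := by
      ext ⟨x, hx⟩
      simp [Set.rangeFactorization, Subtype.ext_iff]
    rw [hpre]
    exact (he.toHomeomorph.isClosedMap S hS)
  obtain ⟨U, V, hU, hV, hAU, hBV, hUV⟩ := Groth.Agent.S3093.result (isCompact_range e.hom.continuous) hs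
    (Set.image_subset_range e A) (Set.image_subset_range e B) (hc hA) (hc hB) hW (by
      rintro _ ⟨⟨a, ha, rfl⟩, b, hb, hab⟩
      obtain rfl := he.injective hab
      exact h b ⟨ha, hb⟩)
  exact ⟨⟨U, hU⟩, ⟨V, hV⟩, fun z hz => hAU ⟨z, hz, rfl⟩, fun z hz => hBV ⟨z, hz, rfl⟩, hUV⟩

/-- Families of germs on closed subsets come from neighbourhood sections. -/
theorem exists_section {C : Set Z} (hC : IsClosed C)
    {φ : ∀ z : Z, Stk F (e z)} (h : IsFam e F C φ) :
    ∃ (U : Opens X) (t : F.obj.obj (op U)), (∀ z ∈ C, e z ∈ U) ∧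
      ∀ z ∈ C, ∀ hz : e z ∈ U, germ F U (e z) hz t = φ z := by
  suffices ∃ (U : Opens X) (t : F.obj.obj (op U)), (∀ z ∈ closure (C ∩ C), e z ∈ U) ∧
      ∀ z ∈ C, ∀ hz : e z ∈ U, germ F U (e z) hz t = φ z by
    obtain ⟨U, t, h1, h2⟩ := this
    exact ⟨U, t, fun z hz => h1 z (subset_closure ⟨hz, hz⟩), h2⟩
  refine (hC.isCompact).induction_on (p := fun S => ∃ (U : Opens X) (t : F.obj.obj (op U)),
    (∀ z ∈ closure (S ∩ C), e z ∈ U) ∧ ∀ z ∈ C, ∀ hz : e z ∈ U, germ F U (e z) hz t = φ z) ?_ ?_ ?_ ?_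
  · exact ⟨⊥, 0, fun z hz => by simp at hz, fun z _ hz => hz.elim⟩
  · exact fun S T hST ⟨U, t, h1, h2⟩ =>
      ⟨U, t, fun z hz => h1 z (closure_mono (Set.inter_subset_inter_left _ hST) hz), h2⟩
  · rintro S T ⟨U, t, h1, h2⟩ ⟨U', t', h1', h2'⟩
    have hsub : ∀ {S : Set Z} {z : Z}, z ∈ closure (S ∩ C) → z ∈ C := fun hz =>
      hC.closure_subset (closure_mono Set.inter_subset_right hz)
    let W : Set X := {x | ∃ (hx : x ∈ U) (hx' : x ∈ U'), germ F U x hx t = germ F U' x hx' t'}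
    have hW : IsOpen W := isOpen_iff_mem_nhds.mpr fun x ⟨hx, hx', hxe⟩ => by
      obtain ⟨W', hxW', hle, hW'⟩ := exists_eq_nhd F hx hx' t t' hxe
      exact mem_of_superset (W'.isOpen.mem_nhds hxW') fun y hy =>
        ⟨(hle hy).1, (hle hy).2, hW' y hy _ _⟩
    obtain ⟨A, B, hA, hB, hAB⟩ := exists_separate he hs (A := closure (S ∩ C)) (B := closure (T ∩ C))
      isClosed_closure isClosed_closure hW
      (fun z hz => ⟨h1 z hz.1, h1' z hz.2, (h2 z (hsub hz.1) _).trans (h2' z (hsub hz.2) _).symm⟩)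
    let O : ULift.{u} Bool → Opens X := fun b => if b.down then U ⊓ A else U' ⊓ B
    let σ : ∀ b, F.obj.obj (op (O b)) := fun b =>
      match b with
      | ⟨true⟩ => F.obj.map (homOfLE (inf_le_left : U ⊓ A ≤ U)).op t
      | ⟨false⟩ => F.obj.map (homOfLE (inf_le_left : U' ⊓ B ≤ U')).op t'
    have hσ : ∀ b (x : X) (hx : x ∈ O b) c (hx' : x ∈ O c), germ F (O b) x hx (σ b) = germ F (O c) x hx' (σ c) := by
      rintro ⟨_ | _⟩ x hx ⟨_ | _⟩ hx'
      · rfl
      · obtain ⟨_, _, hxe⟩ := hAB (show x ∈ (A : Set X) ∩ B from ⟨hx'.2, hx.2⟩)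
        exact (germ_rs F (inf_le_left : U' ⊓ B ≤ U') x hx t').trans
          (hxe.symm.trans (germ_rs F (inf_le_left : U ⊓ A ≤ U) x hx' t).symm)
      · obtain ⟨_, _, hxe⟩ := hAB (show x ∈ (A : Set X) ∩ B from ⟨hx.2, hx'.2⟩)
        exact (germ_rs F (inf_le_left : U ⊓ A ≤ U) x hx t).trans
          (hxe.trans (germ_rs F (inf_le_left : U' ⊓ B ≤ U') x hx' t').symm)
      · rfl
    obtain ⟨r, hr, -⟩ := TopCat.Sheaf.existsUnique_gluing' (F : TopCat.Sheaf AddCommGrpCat X) O (iSup O)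
      (fun b => homOfLE (le_iSup O b)) le_rfl σ (fun b c => by
        refine TopCat.Presheaf.section_ext (F : TopCat.Sheaf AddCommGrpCat X) _ _ _ fun x hx => ?_
        exact (germ_rs F (inf_le_left : O b ⊓ O c ≤ O b) x hx (σ b)).trans
          ((hσ b x hx.1 c hx.2).trans (germ_rs F (inf_le_right : O b ⊓ O c ≤ O c) x hx (σ c)).symm))
    refine ⟨iSup O, r, fun z hz => ?_, fun z hz hzU => ?_⟩
    · rw [Set.union_inter_distrib_right, closure_union] at hz
      rcases hz with hz | hz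
      · exact Opens.mem_iSup.mpr ⟨⟨true⟩, h1 z hz, hA z hz⟩
      · exact Opens.mem_iSup.mpr ⟨⟨false⟩, h1' z hz, hB z hz⟩
    · obtain ⟨b, hb⟩ := Opens.mem_iSup.mp hzU
      refine ((germ_rs F (le_iSup O b) (e z) hb r).symm.trans (congrArg (germ F (O b) (e z) hb) (hr b))).trans ?_
      rcases b with ⟨_ | _⟩
      · exact (germ_rs F _ _ hb t').trans (h2' z hz hb.1)
      · exact (germ_rs F _ _ hb t).trans (h2 z hz hb.1)
  · intro z hz
    obtain ⟨W, hW, t, ht⟩ := h z hz
    obtain ⟨D, hD, hDc, hDW⟩ := exists_mem_nhds_isClosed_subset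
      ((W.isOpen.preimage e.hom.continuous).mem_nhds hW)
    exact ⟨D, mem_nhdsWithin_of_mem_nhds hD, W, t,
      fun y hy => hDW (hDc.closure_subset (closure_mono Set.inter_subset_left hy)),
      fun y hy hyW => ht y hy hyW⟩

end Compact

section Soft

/-- Every family of germs on a closed subset extends to a global section. -/
def IsSoft (G : QCohLib.AbSh Z) : Prop :=
  ∀ (C : Set Z), IsClosed C → ∀ φ : ∀ z : Z, Stk G z,
    IsFam (𝟙 Z) G C φ → ∃ T : G.obj.obj (op ⊤), ∀ z ∈ C, germ G ⊤ z trivial T = φ z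

/-- The germs of a flasque sheaf on a separated compact subset extend. -/
theorem exists_global [CompactSpace Z] [T2Space Z] (he : IsEmbedding e) (hs : Sep (Set.range e))
    [TopCat.Sheaf.IsFlasque (F : TopCat.Sheaf AddCommGrpCat X)] {C : Set Z} (hC : IsClosed C)
    {φ : ∀ z : Z, Stk F (e z)} (h : IsFam e F C φ) :
    ∃ T : F.obj.obj (op ⊤), ∀ z ∈ C, germ F ⊤ (e z) trivial T = φ z := by
  obtain ⟨U, t, h1, h2⟩ := exists_section he hs hC h
  obtain ⟨T, hT⟩ := (AddCommGrpCat.epi_iff_surjective (F.obj.map (homOfLE (le_top : U ≤ ⊤)).op)).mp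
    ((‹TopCat.Sheaf.IsFlasque (F : TopCat.Sheaf AddCommGrpCat X)›).epi (homOfLE (le_top : U ≤ ⊤)).op) t
  refine ⟨T, fun z hz => ?_⟩
  rw [← h2 z hz (h1 z hz), ← hT]
  exact (germ_rs F (le_top : U ≤ ⊤) (e z) (h1 z hz) T).symm

theorem sep_of_t2 [T2Space Z] (K : Set Z) : Sep K := fun _ _ _ _ hne => t2_separation hne

theorem isSoft_of_isFlasque [CompactSpace Z] [T2Space Z] (G : QCohLib.AbSh Z)
    [TopCat.Sheaf.IsFlasque (G : TopCat.Sheaf AddCommGrpCat Z)] : IsSoft G := fun _ hC φ hφ =>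
  exists_global (e := 𝟙 Z) (F := G) Topology.IsEmbedding.id (sep_of_t2 _) hC (φ := φ) hφ

variable {S : ShortComplex (QCohLib.AbSh Z)} (hS : S.ShortExact)

/-- The map on stalks. -/
noncomputable abbrev st (x : Z) {A B : QCohLib.AbSh Z} (f : A ⟶ B) :=
  (TopCat.Presheaf.stalkFunctor AddCommGrpCat.{u} (X := Z) x).map f.hom

theorem st_germ (x : Z) {A B : QCohLib.AbSh Z} (f : A ⟶ B) (W : Opens Z) (hx : x ∈ W) (t : A.obj.obj (op W)) :
    st x f (germ A W x hx t) = germ B W x hx (f.hom.app (op W) t) :=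
  TopCat.Presheaf.stalkFunctor_map_germ_apply (X := Z) W x hx f.hom t

include hS

/-- A family of germs lifts along an epimorphism with soft kernel. -/
theorem exists_lift [CompactSpace Z] [T2Space Z] (hsoft : IsSoft S.X₁) {C : Set Z} (hC : IsClosed C)
    {φ : ∀ z : Z, Stk S.X₃ z} (h : IsFam (𝟙 Z) S.X₃ C φ) :
    ∃ ψ : ∀ z : Z, Stk S.X₂ z, IsFam (𝟙 Z) S.X₂ C ψ ∧
      ∀ z ∈ C, st z S.g (ψ z) = φ z := by
  classical
  have hex : ∀ z : Z, (S.map (CohTopLib.FlasqueRes.stk z)).ShortExact := fun z => hS.map_of_exact _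
  suffices ∃ ψ : ∀ z : Z, Stk S.X₂ z,
      IsFam (𝟙 Z) S.X₂ (closure (C ∩ C)) ψ ∧ ∀ z ∈ closure (C ∩ C), st z S.g (ψ z) = φ z by
    rwa [Set.inter_self, hC.closure_eq] at this
  refine (hC.isCompact).induction_on (p := fun D => ∃ ψ : ∀ z : Z, Stk S.X₂ z,
      IsFam (𝟙 Z) S.X₂ (closure (D ∩ C)) ψ ∧ ∀ z ∈ closure (D ∩ C), st z S.g (ψ z) = φ z) ?_ ?_ ?_ ?_
  · exact ⟨fun _ => 0, fun z hz => by simp at hz, fun z hz => by simp at hz⟩
  · intro D D' hDD ⟨ψ, h1, h2⟩
    have hsub := closure_mono (Set.inter_subset_inter_left C hDD)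
    exact ⟨ψ, h1.mono hsub, fun z hz => h2 z (hsub hz)⟩
  · rintro D D' ⟨ψ, h1, h2⟩ ⟨ψ', h1', h2'⟩
    rw [Set.union_inter_distrib_right, closure_union]
    set E := closure (D ∩ C)
    set E' := closure (D' ∩ C)
    have hker : ∀ z ∈ E ∩ E', ∃ a, st z S.f a = ψ z - ψ' z := fun z hz =>
      (ShortComplex.ab_exact_iff _).1 (hex z).exact (ψ z - ψ' z)
        (by
          refine (map_sub (st z S.g).hom _ _).trans ?_
          exact sub_eq_zero.mpr ((h2 z hz.1).trans (h2' z hz.2).symm))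
    let a : ∀ z : Z, Stk S.X₁ z := fun z =>
      if hz : z ∈ E ∩ E' then (hker z hz).choose else 0
    have ha : ∀ z ∈ E ∩ E', st z S.f (a z) = ψ z - ψ' z := fun z hz => by
      simp only [a, dif_pos hz]
      exact (hker z hz).choose_spec
    have hinj : ∀ z : Z, Function.Injective (st z S.f) := fun z => (hex z).ab_injective_f
    have hafam : IsFam (𝟙 Z) S.X₁ (E ∩ E') a := by
      intro z hz
      obtain ⟨W, hW, t, ht⟩ := h1 z hz.1
      obtain ⟨W', hW', t', ht'⟩ := h1' z hz.2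
      let d := S.X₂.obj.map (homOfLE (inf_le_left : W ⊓ W' ≤ W)).op t -
        S.X₂.obj.map (homOfLE (inf_le_right : W ⊓ W' ≤ W')).op t'
      have hd : ∀ y ∈ E ∩ E', ∀ hy : y ∈ W ⊓ W', germ S.X₂ (W ⊓ W') y hy d = ψ y - ψ' y := fun y hy hyW => by
        refine (map_sub (TopCat.Presheaf.germ (X := Z) S.X₂.obj (W ⊓ W') y hyW).hom _ _).trans ?_
        exact congrArg₂ (· - ·) ((germ_rs _ _ y hyW t).trans (ht y hy.1 hyW.1))
          ((germ_rs _ _ y hyW t').trans (ht' y hy.2 hyW.2))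
      obtain ⟨V, hzV, iV, iV', hV⟩ := TopCat.Presheaf.germ_eq (X := Z) (U := W ⊓ W') (V := W ⊓ W') S.X₃.obj z
        ⟨hW, hW'⟩ ⟨hW, hW'⟩ (S.g.hom.app (op (W ⊓ W')) d) 0 (by
          rw [map_zero]
          refine (st_germ z S.g _ _ d).symm.trans ?_
          rw [hd z hz ⟨hW, hW'⟩]
          refine (map_sub (st z S.g).hom _ _).trans ?_
          exact sub_eq_zero.mpr ((h2 z hz.1).trans (h2' z hz.2).symm))
      obtain ⟨r, hr⟩ := CechLib.exists_of_app_eq_zero hS V (S.X₂.obj.map iV.op d) (by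
        rw [NatTrans.naturality_apply, hV, map_zero])
      refine ⟨V, hzV, r, fun y hy hyV => hinj y ?_⟩
      refine (st_germ y S.f V hyV r).trans ?_
      rw [hr, ha y hy]
      exact (TopCat.Presheaf.germ_res_apply (X := Z) S.X₂.obj iV y hyV d).trans (hd y hy (leOfHom iV hyV))
    obtain ⟨T, hT⟩ := hsoft (E ∩ E') (isClosed_closure.inter isClosed_closure) a hafam
    let T₂ := S.f.hom.app (op ⊤) T
    let χ : ∀ z : Z, Stk S.X₂ z := fun z =>
      if z ∈ E then ψ z else ψ' z + germ S.X₂ ⊤ z trivial T₂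
    have hχ' : ∀ z ∈ E', χ z = ψ' z + germ S.X₂ ⊤ z trivial T₂ := fun z hz => by
      by_cases hzE : z ∈ E
      · simp only [χ, if_pos hzE]
        rw [← st_germ z S.f ⊤ trivial T, hT z ⟨hzE, hz⟩, ha z ⟨hzE, hz⟩]
        abel
      · simp only [χ, if_neg hzE]
    have hT₂ : ∀ z : Z, st z S.g (germ S.X₂ ⊤ z trivial T₂) = 0 := fun z => by
      rw [← st_germ z S.f ⊤ trivial T]
      exact ConcreteCategory.congr_hom (S.map (CohTopLib.FlasqueRes.stk z)).zero _
    refine ⟨χ, ?_, ?_⟩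
    · intro z hz
      have loc : ∀ (A : Set Z), IsClosed A → z ∉ A → ∀ (W : Opens Z), z ∈ W →
          ∃ V : Opens Z, z ∈ V ∧ V ≤ W ∧ ∀ y ∈ V, y ∉ A := fun A hA hzA W hzW =>
        ⟨W ⊓ ⟨Aᶜ, hA.isOpen_compl⟩, ⟨hzW, hzA⟩, inf_le_left, fun y hy => hy.2⟩
      by_cases hzE : z ∈ E
      · obtain ⟨W, hW, t, ht⟩ := h1 z hzE
        by_cases hzE' : z ∈ E'
        · obtain ⟨W', hW', t', ht'⟩ := h1' z hzE'
          let t'' := S.X₂.obj.map (homOfLE (le_refl W')).op t' +
            S.X₂.obj.map (homOfLE (le_top : W' ≤ ⊤)).op T₂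
          have ht'' : ∀ y ∈ E', ∀ hy : y ∈ W', germ S.X₂ W' y hy t'' = χ y := fun y hy hyW => by
            refine (map_add (TopCat.Presheaf.germ (X := Z) S.X₂.obj W' y hyW).hom _ _).trans ?_
            rw [hχ' y hy]
            exact congrArg₂ (· + ·) ((germ_rs _ _ y hyW t').trans (ht' y hy hyW)) (germ_rs _ _ y hyW T₂)
          obtain ⟨V, hzV, hVle, hV⟩ := exists_eq_nhd S.X₂ hW hW' t t'' (by
            exact (ht z hzE hW).trans ((if_pos hzE).symm.trans (ht'' z hzE' hW').symm))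
          refine ⟨V, hzV, S.X₂.obj.map (homOfLE (hVle.trans inf_le_left)).op t, fun y hy hyV => ?_⟩
          refine (germ_rs _ _ y hyV t).trans ?_
          rcases hy with hyE | hyE'
          · exact (ht y hyE _).trans (if_pos hyE).symm
          · exact (hV y hyV _ (hVle hyV).2).trans (ht'' y hyE' _)
        · obtain ⟨V, hzV, hVW, hVA⟩ := loc E' isClosed_closure hzE' W hW
          refine ⟨V, hzV, S.X₂.obj.map (homOfLE hVW).op t, fun y hy hyV => ?_⟩
          have hyE : y ∈ E := hy.resolve_right (hVA y hyV)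
          exact ((germ_rs _ _ y hyV t).trans (ht y hyE _)).trans (if_pos hyE).symm
      · have hzE' : z ∈ E' := hz.resolve_left hzE
        obtain ⟨W', hW', t', ht'⟩ := h1' z hzE'
        obtain ⟨V, hzV, hVW, hVA⟩ := loc E isClosed_closure hzE W' hW'
        refine ⟨V, hzV, S.X₂.obj.map (homOfLE hVW).op t' + S.X₂.obj.map (homOfLE (le_top : V ≤ ⊤)).op T₂,
          fun y hy hyV => ?_⟩
        have hyE' : y ∈ E' := hy.resolve_left (hVA y hyV)
        refine (map_add (TopCat.Presheaf.germ (X := Z) S.X₂.obj V y hyV).hom _ _).trans ?_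
        rw [hχ' y hyE']
        exact congrArg₂ (· + ·) ((germ_rs _ _ y hyV t').trans (ht' y hyE' _)) (germ_rs _ _ y hyV T₂)
    · rintro z (hz | hz)
      · simp only [χ, if_pos hz]; exact h2 z hz
      · rw [hχ' z hz]
        refine (map_add (st z S.g).hom _ _).trans ?_
        exact (congrArg₂ (· + ·) (h2' z hz) (hT₂ z)).trans (add_zero _)
  · intro z hz
    obtain ⟨W, hW, q, hq⟩ := h z hz
    have := hS.epi_g
    have hls := (Sheaf.isLocallySurjective_iff_epi' (φ := S.g)).mpr hS.epi_g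
    obtain ⟨V, hVW, ⟨t, ht⟩, hzV⟩ :=
      (TopCat.Presheaf.isLocallySurjective_iff S.g.hom).mp hls W q z hW
    obtain ⟨D, hD, hDc, hDV⟩ := exists_mem_nhds_isClosed_subset (V.isOpen.mem_nhds hzV)
    refine ⟨D, mem_nhdsWithin_of_mem_nhds hD,
      fun y => if hy : y ∈ V then germ S.X₂ V y hy t else 0, fun y hy => ?_, fun y hy => ?_⟩
    · exact ⟨V, hDV (hDc.closure_subset (closure_mono Set.inter_subset_left hy)), t,
        fun w _ hwV => Eq.symm ((dif_pos (c := w ∈ V) (t := fun hy => germ S.X₂ V w hy t) (e := fun _ => 0) hwV).trans rfl)⟩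
    · have hyV := hDV (hDc.closure_subset (closure_mono Set.inter_subset_left hy))
      refine (congrArg (st y S.g) (dif_pos hyV)).trans ((st_germ y S.g V hyV t).trans ?_)
      rw [ht]
      refine (TopCat.Presheaf.germ_res_apply (X := Z) S.X₃.obj _ y hyV q).trans ?_
      exact hq y (hC.closure_subset (closure_mono Set.inter_subset_right hy)) (hVW hyV)

theorem surjective_app_top [CompactSpace Z] [T2Space Z] (hsoft : IsSoft S.X₁)
    (hsoft2 : IsSoft S.X₂) : Function.Surjective (S.g.hom.app (op ⊤)) := fun q => by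
  obtain ⟨ψ, h1, h2⟩ := exists_lift hS hsoft isClosed_univ
    (φ := fun z => germ S.X₃ ⊤ z trivial q) (fun z _ => ⟨⊤, trivial, q, fun y _ _ => rfl⟩)
  obtain ⟨T, hT⟩ := hsoft2 Set.univ isClosed_univ ψ h1
  refine ⟨T, TopCat.Presheaf.section_ext (S.X₃ : TopCat.Sheaf AddCommGrpCat Z) ⊤ _ _ fun z _ => ?_⟩
  refine (st_germ z S.g ⊤ trivial T).symm.trans ?_
  rw [hT z trivial]
  exact h2 z trivial

theorem isSoft_right [CompactSpace Z] [T2Space Z] (hsoft : IsSoft S.X₁) (hsoft2 : IsSoft S.X₂) :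
    IsSoft S.X₃ := fun C hC φ hφ => by
  obtain ⟨ψ, h1, h2⟩ := exists_lift hS hsoft hC hφ
  obtain ⟨T, hT⟩ := hsoft2 C hC ψ h1
  refine ⟨S.g.hom.app (op ⊤) T, fun z hz => ?_⟩
  rw [← h2 z hz, ← hT z hz]
  exact (st_germ z S.g ⊤ trivial T).symm

end Soft

theorem subsingleton_HU_of_isSoft [CompactSpace Z] [T2Space Z] (G : QCohLib.AbSh Z) (h : IsSoft G)
    (q : ℕ) : Subsingleton (QCohLib.HU G (q + 1) ⊤) := by
  induction q generalizing G with
  | zero =>
    have hS := CechLib.gdSeq_shortExact G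
    refine subsingleton_of_forall_eq 0 fun x => ?_
    obtain ⟨y, rfl⟩ := QCohLib.delta0_surjective hS ⊤ x
    rw [QCohLib.delta0_eq_zero_iff]
    exact surjective_app_top hS h (isSoft_of_isFlasque (CechLib.gd G)) y
  | succ q ih =>
    have hS := CechLib.gdSeq_shortExact G
    haveI := ih _ (isSoft_right hS h (isSoft_of_isFlasque (CechLib.gd G)))
    exact QCohLib.subsingleton_X₁ hS

section Pull

variable (e) (F)

/-- The inverse image of a section. -/
noncomputable def pullSec (V : Opens X) (t : F.obj.obj (op V)) :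
    ((CohTop.pull e).obj F).obj.obj (op ((Opens.map e).obj V)) :=
  ((TopCat.Sheaf.pullbackPushforwardAdjunction AddCommGrpCat.{u} e).unit.app F).hom.app (op V) t

/-- The map on stalks. -/
noncomputable def pullStalk (z : Z) :
    TopCat.Presheaf.stalk (X := X) F.obj (e z) ⟶ TopCat.Presheaf.stalk (X := Z) ((CohTop.pull e).obj F).obj z :=
  (TopCat.Presheaf.stalkFunctor AddCommGrpCat.{u} (e z)).map
      ((TopCat.Sheaf.pullbackPushforwardAdjunction AddCommGrpCat.{u} e).unit.app F).hom ≫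
    TopCat.Presheaf.stalkPushforward AddCommGrpCat.{u} e ((CohTop.pull e).obj F).obj z

theorem pullStalk_germ (z : Z) (V : Opens X) (hV : e z ∈ V) (t : F.obj.obj (op V)) :
    pullStalk e F z (germ F V (e z) hV t) =
      germ ((CohTop.pull e).obj F) ((Opens.map e).obj V) z hV (pullSec e F V t) := by
  have h1 := TopCat.Presheaf.stalkFunctor_map_germ (C := AddCommGrpCat.{u}) V (e z) hV
    ((TopCat.Sheaf.pullbackPushforwardAdjunction AddCommGrpCat.{u} e).unit.app F).hom
  have h2 := TopCat.Presheaf.stalkPushforward_germ AddCommGrpCat.{u} e ((CohTop.pull e).obj F).obj V z hV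
  exact (congrArg (fun w => TopCat.Presheaf.stalkPushforward AddCommGrpCat.{u} e
    ((CohTop.pull e).obj F).obj z w) (ConcreteCategory.congr_hom h1 t)).trans
    (ConcreteCategory.congr_hom h2 _)

theorem isIso_pullStalk (z : Z) : IsIso (pullStalk e F z) := by
  let i := (Functor.sheafPullbackConstruction.sheafPullbackIso (Opens.map e) AddCommGrpCat.{u}
    (Opens.grothendieckTopology X) (Opens.grothendieckTopology Z)).app F
  let F' := (TopCat.Presheaf.pullback AddCommGrpCat.{u} e).obj F.obj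
  let η : F' ⟶ ((presheafToSheaf (Opens.grothendieckTopology Z) AddCommGrpCat.{u}).obj F').obj :=
    toSheafify (Opens.grothendieckTopology Z) F'
  have hu : ∀ (V : Opens X) (t : F.obj.obj (op V)), pullSec e F V t =
      i.inv.hom.app _ (η.app _ (((TopCat.Presheaf.pullbackPushforwardAdjunction AddCommGrpCat.{u} e).unit.app F.obj).app _ t)) :=
    fun V t => congrArg (fun m => (ConcreteCategory.hom (NatTrans.app m (op V))) t)
      (EtH0Lib.sheafPullback_unit (Opens.map e) (Opens.grothendieckTopology X) (Opens.grothendieckTopology Z) F)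
  have key : pullStalk e F z = TopCat.Presheaf.stalkPullbackHom AddCommGrpCat.{u} e F.obj z ≫
      (TopCat.Presheaf.stalkFunctor AddCommGrpCat.{u} z).map η ≫
        (TopCat.Presheaf.stalkFunctor AddCommGrpCat.{u} z).map i.inv.hom := by
    refine TopCat.Presheaf.stalk_hom_ext _ fun V hV => ?_
    ext t
    change pullStalk e F z (germ F V (e z) hV t) = _
    rw [pullStalk_germ, hu]
    have h1 := TopCat.Presheaf.germ_stalkPullbackHom (C := AddCommGrpCat.{u}) e F.obj z V hV
    refine Eq.symm ?_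
    refine (congrArg _ (congrArg _ (ConcreteCategory.congr_hom h1 t))).trans ?_
    refine (congrArg _ (TopCat.Presheaf.stalkFunctor_map_germ_apply _ z hV η _)).trans ?_
    exact TopCat.Presheaf.stalkFunctor_map_germ_apply _ z hV i.inv.hom _
  haveI : IsIso (TopCat.Presheaf.stalkPullbackHom AddCommGrpCat.{u} e F.obj z) :=
    (TopCat.Presheaf.stalkPullbackIso AddCommGrpCat.{u} e F.obj z).isIso_hom
  haveI : IsIso ((TopCat.Presheaf.stalkFunctor AddCommGrpCat.{u} z).map η) :=
    TopCat.Presheaf.stalkFunctor_map_unit_toSheafify_isIso z AddCommGrpCat.{u} F'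
  haveI : IsIso i.inv.hom := inferInstanceAs (IsIso ((sheafToPresheaf _ _).map i.inv))
  rw [key]
  infer_instance

theorem bijective_pullStalk (z : Z) : Function.Bijective (pullStalk e F z) :=
  haveI := isIso_pullStalk e F z
  ConcreteCategory.bijective_of_isIso _

/-- The germs in the base of germs of the inverse image. -/
noncomputable def down (φ : ∀ z : Z, Stk ((CohTop.pull e).obj F) z) (z : Z) :
    Stk F (e z) := ((bijective_pullStalk e F z).2 (φ z)).choose

theorem pullStalk_down (φ : ∀ z : Z, Stk ((CohTop.pull e).obj F) z) (z : Z) :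
    pullStalk e F z (down e F φ z) = φ z := ((bijective_pullStalk e F z).2 (φ z)).choose_spec

theorem isFam_down (he : IsInducing e) {C : Set Z}
    {φ : ∀ z : Z, Stk ((CohTop.pull e).obj F) z}
    (h : IsFam (𝟙 Z) ((CohTop.pull e).obj F) C φ) : IsFam e F C (down e F φ) := by
  intro z hz
  obtain ⟨U, hU, s, hs⟩ := h z hz
  obtain ⟨V, hV, t, hVt⟩ := TopCat.Presheaf.germ_exist (X := X) F.obj (down e F φ z)
  have h0 : germ ((CohTop.pull e).obj F) U z hU s =
      germ ((CohTop.pull e).obj F) ((Opens.map e).obj V) z hV (pullSec e F V t) := by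
    refine (hs z hz hU).trans ?_
    refine Eq.trans ?_ (pullStalk_germ e F z V hV t)
    exact (pullStalk_down e F φ z).symm.trans (congrArg (pullStalk e F z) hVt.symm)
  obtain ⟨U', hzU', hle, hU'⟩ := exists_eq_nhd _ hU (show z ∈ (Opens.map e).obj V from hV) s _ h0
  obtain ⟨W, hW, hWU⟩ := he.isOpen_iff.mp U'.isOpen
  refine ⟨⟨W, hW⟩ ⊓ V, ⟨(Set.ext_iff.mp hWU z).mpr hzU', hV⟩, F.obj.map (homOfLE inf_le_right).op t,
    fun y hy hyW => (bijective_pullStalk e F y).1 ?_⟩
  have hyU' : y ∈ U' := (Set.ext_iff.mp hWU y).mp hyW.1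
  rw [germ_rs, pullStalk_germ, pullStalk_down, ← hU' y hyU' (hle hyU').1 (hle hyU').2]
  exact hs y hy _

/-- Inverse images of flasque sheaves on compact separated subspaces are soft. -/
theorem isSoft_pull [CompactSpace Z] [T2Space Z] (he : IsEmbedding e) (hs : Sep (Set.range e))
    [TopCat.Sheaf.IsFlasque (F : TopCat.Sheaf AddCommGrpCat X)] : IsSoft ((CohTop.pull e).obj F) := by
  intro C hC φ hφ
  obtain ⟨T, hT⟩ := exists_global he hs hC (isFam_down e F he.isInducing hφ)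
  refine ⟨pullSec e F ⊤ T, fun z hz => ?_⟩
  exact (pullStalk_germ e F z ⊤ trivial T).symm.trans ((congrArg (pullStalk e F z) (hT z hz)).trans
    (pullStalk_down e F φ z))

theorem t2Space_of_sep (he : IsEmbedding e) (hs : Sep (Set.range e)) : T2Space Z := ⟨fun a b hab => by
  obtain ⟨U, V, hU, hV, ha, hb, hd⟩ := hs _ ⟨a, rfl⟩ _ ⟨b, rfl⟩ (he.injective.ne hab)
  exact ⟨e ⁻¹' U, e ⁻¹' V, hU.preimage e.hom.continuous, hV.preimage e.hom.continuous, ha, hb,
    hd.preimage e⟩⟩

end Pull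

end CohTopLib.GermFam
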