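import Groth.Agent.CohTopLib.GodSys
import Groth.Agent.CohTopLib.FibreCoh
import Groth.Agent.SpSeqLib.TotQI
import Groth.Agent.SpSeqLib.CosimpAug
import Mathlib.AlgebraicTopology.SimplicialObject.Basic

/-!
# The bicomplex of a simplicial space over the base, and descent from the fibres
-/

set_option autoImplicit false
set_option linter.unusedSectionVars false
set_option linter.style.haveILetI false
set_option backward.isDefEq.respectTransparency false
set_option backward.isDefEq.respectTransparency.types false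

universe u
open CategoryTheory CategoryTheory.Limits TopologicalSpace Opposite Simplicial

namespace CohTopLib.GodBi

open GodSys SpSeqLib

variable {X : TopCat.{u}} (F : QCohLib.AbSh X)

/-- Stalks preserve homology. -/
instance preservesHomology_stk (x : X) : (FlasqueRes.stk x).PreservesHomology := by
  haveI : PreservesFiniteColimits (FlasqueRes.stk x) :=
    haveI := (Adjunction.ofIsLeftAdjoint (FlasqueRes.stk x)).leftAdjoint_preservesColimits
    inferInstance
  exact Functor.preservesHomologyOfExact _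

/-- The resolutions, indexed by integers. -/
noncomputable abbrev ΦZ : (Over X)ᵒᵖ ⥤ CochainComplex (QCohLib.AbSh X) ℤ :=
  Φ F ⋙ ComplexShape.embeddingUpNat.extendFunctor (QCohLib.AbSh X)

theorem isZero_ΦZ (U : (Over X)ᵒᵖ) (q : ℤ) (hq : q < 0) : IsZero (((ΦZ F).obj U).X q) :=
  HomologicalComplex.isZero_extend_X _ _ q fun k hk => by
    change (k : ℤ) = q at hk
    omega

/-- The augmentation. -/
noncomputable def ΦZaug (U : (Over X)ᵒᵖ) :
    (CochainComplex.singleFunctor (QCohLib.AbSh X) 0).obj F ⟶ (ΦZ F).obj U :=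
  (HomologicalComplex.extendSingleIso ComplexShape.embeddingUpNat F (i := 0) (i' := (0 : ℤ)) rfl).inv ≫
    HomologicalComplex.extendMap ((CochainComplex.fromSingle₀Equiv _ _).symm ⟨Φaug F U, Φaug_d F U⟩)
      ComplexShape.embeddingUpNat

theorem ΦZaug_naturality {U V : (Over X)ᵒᵖ} (g : U ⟶ V) : ΦZaug F U ≫ (ΦZ F).map g = ΦZaug F V := by
  refine (Category.assoc _ _ _).trans (congrArg (_ ≫ ·) ?_)
  change HomologicalComplex.extendMap _ ComplexShape.embeddingUpNat ≫
    HomologicalComplex.extendMap ((Φ F).map g) ComplexShape.embeddingUpNat = _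
  rw [← HomologicalComplex.extendMap_comp]
  refine congrArg (fun φ => HomologicalComplex.extendMap φ ComplexShape.embeddingUpNat) ?_
  refine HomologicalComplex.from_single_hom_ext ?_
  rw [HomologicalComplex.comp_f, CochainComplex.fromSingle₀Equiv_symm_apply_f_zero,
    CochainComplex.fromSingle₀Equiv_symm_apply_f_zero]
  exact Φaug_naturality F g

variable (K : SimplicialObject (Over X))

/-- The cosimplicial complex. -/
noncomputable abbrev cos : CosimplicialObject (CochainComplex (QCohLib.AbSh X) ℤ) := K.rightOp ⋙ ΦZ F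

/-- The bicomplex. -/
noncomputable abbrev M : BiTotal.Bi (QCohLib.AbSh X) := CosimpAug.ext (cos F K)

theorem isZero_M (p q : ℤ) (h : p < 0 ∨ q < 0) : IsZero (((M F K).X p).X q) := by
  by_cases hp : p < 0
  · exact (HomologicalComplex.eval _ _ q).map_isZero (HomologicalComplex.isZero_extend_X _ _ p fun k hk => by
      change (k : ℤ) = p at hk
      omega)
  · obtain ⟨n, rfl⟩ := Int.eq_ofNat_of_zero_le (not_lt.mp hp)
    exact (isZero_ΦZ F _ q (h.resolve_left hp)).of_iso ((HomologicalComplex.eval _ _ q).mapIso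
      ((CosimpAug.co (cos F K)).extendXIso ComplexShape.embeddingUpNat (i := n) (i' := (n : ℤ)) rfl))

/-- The columns. -/
noncomputable def colIso (p : ℕ) :
    (M F K).X (p : ℤ) ≅ (ΦZ F).obj (op (K.obj (op (SimplexCategory.mk p)))) :=
  (CosimpAug.co (cos F K)).extendXIso ComplexShape.embeddingUpNat (i := p) (i' := (p : ℤ)) rfl

theorem ΦZaug_δ : ΦZaug F (op (K.obj (op (SimplexCategory.mk 0)))) ≫ (cos F K).δ (0 : Fin 2) =
    ΦZaug F (op (K.obj (op (SimplexCategory.mk 0)))) ≫ (cos F K).δ (1 : Fin 2) :=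
  (ΦZaug_naturality F _).trans (ΦZaug_naturality F _).symm

/-- The augmentation of the bicomplex. -/
noncomputable def ε :
    (HomologicalComplex.single (CochainComplex (QCohLib.AbSh X) ℤ) (ComplexShape.up ℤ) 0).obj
      ((CochainComplex.singleFunctor (QCohLib.AbSh X) 0).obj F) ⟶ M F K :=
  CosimpAug.augZ (cos F K) (ΦZaug F (op (K.obj (op (SimplexCategory.mk 0))))) (ΦZaug_δ F K)

variable {K}

/-- Functoriality. -/
noncomputable abbrev map {L : SimplicialObject (Over X)} (α : L ⟶ K) : M F K ⟶ M F L :=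
  CosimpAug.extMap (Functor.whiskerRight (NatTrans.rightOp α) (ΦZ F))

theorem ε_map {L : SimplicialObject (Over X)} (α : L ⟶ K) : ε F K ≫ map F α = ε F L :=
  CosimpAug.augZ_map _ _ _ _ _ _ (ΦZaug_naturality F _)

/-- A contraction of a simplicial space over the base onto a space. -/
structure Ctr (L : SimplicialObject (Over X)) (P : Over X) where
  /-- the projection -/
  a : L.obj (op (SimplexCategory.mk 0)) ⟶ P
  /-- the section -/
  s : P ⟶ L.obj (op (SimplexCategory.mk 0))
  /-- the extra degeneracies -/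
  h : ∀ n : ℕ, L.obj (op (SimplexCategory.mk n)) ⟶ L.obj (op (SimplexCategory.mk (n + 1)))
  s_a : s ≫ a = 𝟙 P
  a_δ : L.δ (0 : Fin 2) ≫ a = L.δ (1 : Fin 2) ≫ a
  h_δ_zero : ∀ n : ℕ, h n ≫ L.δ (0 : Fin (n + 2)) = 𝟙 _
  h_δ_one : h 0 ≫ L.δ (1 : Fin 2) = a ≫ s
  h_δ_succ : ∀ (n : ℕ) (i : Fin (n + 2)), h (n + 1) ≫ L.δ i.succ = L.δ i ≫ h n

variable {L : SimplicialObject (Over X)} {P : Over X} (C : Ctr L P)

section Gen

variable {A : Type*} [Category* A] [Abelian A] (G : (Over X)ᵒᵖ ⥤ A)

theorem map_op_comp {U V W : Over X} (f : U ⟶ V) (g : V ⟶ W) :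
    G.map g.op ≫ G.map f.op = G.map (f ≫ g).op := (G.map_comp _ _).symm

theorem cos_δ {n : ℕ} (i : Fin (n + 2)) :
    CosimplicialObject.δ (L.rightOp ⋙ G : CosimplicialObject A) i = G.map (L.δ i).op := rfl

theorem ctr_δ : G.map C.a.op ≫ CosimplicialObject.δ (L.rightOp ⋙ G : CosimplicialObject A) (0 : Fin 2) =
    G.map C.a.op ≫ CosimplicialObject.δ (L.rightOp ⋙ G : CosimplicialObject A) (1 : Fin 2) := by
  rw [cos_δ, cos_δ, map_op_comp G, map_op_comp G, C.a_δ]

/-- The contraction of the cosimplicial object. -/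
noncomputable def contr : CosimpAug.Contr (L.rightOp ⋙ G : CosimplicialObject A) (G.map C.a.op) where
  r := G.map C.s.op
  h n := G.map (C.h n).op
  g_r := (map_op_comp G _ _).trans ((congrArg (fun f => G.map f.op) C.s_a).trans (G.map_id _))
  δ_zero n := (congrArg (· ≫ _) (cos_δ G (0 : Fin (n + 2)))).trans ((map_op_comp G _ _).trans
    ((congrArg (fun f => G.map f.op) (C.h_δ_zero n)).trans (G.map_id _)))
  δ_one := (congrArg (· ≫ _) (cos_δ G (1 : Fin 2))).trans ((map_op_comp G _ _).trans
    ((congrArg (fun f => G.map f.op) C.h_δ_one).trans (map_op_comp G _ _).symm))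
  δ_succ n i := (congrArg (· ≫ _) (cos_δ G i.succ)).trans ((map_op_comp G _ _).trans
    ((congrArg (fun f => G.map f.op) (C.h_δ_succ n i)).trans ((map_op_comp G _ _).symm.trans
      (congrArg (_ ≫ ·) (cos_δ G i).symm))))

end Gen

/-- The augmentation of a contracted bicomplex. -/
noncomputable def εC :
    (HomologicalComplex.single (CochainComplex (QCohLib.AbSh X) ℤ) (ComplexShape.up ℤ) 0).obj ((ΦZ F).obj (op P)) ⟶
      M F L :=
  CosimpAug.augZ (cos F L) ((ΦZ F).map C.a.op) (ctr_δ C (ΦZ F))

theorem single_map_εC :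
    (HomologicalComplex.single (CochainComplex (QCohLib.AbSh X) ℤ) (ComplexShape.up ℤ) 0).map (ΦZaug F (op P)) ≫
      εC F C = ε F L :=
  CosimpAug.single_map_augZ (cos F L) ((ΦZ F).map C.a.op) (ctr_δ C (ΦZ F)) (ΦZaug F (op P))
    (ΦZaug F (op (L.obj (op (SimplexCategory.mk 0))))) (ΦZaug_δ F L) (ΦZaug_naturality F C.a.op)

theorem quasiIso_tot_εC : QuasiIso (BiTotal.tot.map (εC F C)) := by
  haveI : QuasiIso (εC F C) := (contr C (ΦZ F)).quasiIso_augZ _
  haveI : Mono (εC F C) := (contr C (ΦZ F)).mono_augZ _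
  exact BiSS.quasiIso_tot_of_row (M F L) (isZero_M F L) ((ΦZ F).obj (op P)) (εC F C) fun q => inferInstance

variable (K) in
/-- Descent at a point, seen on a contractible piece. -/
def Local (y : X) : Prop :=
  ∃ (L : SimplicialObject (Over X)) (P : Over X) (_ : Ctr L P) (α : L ⟶ K),
    (∀ (n : ℕ) (k : ℤ), IsIso ((FlasqueRes.stk y).map (HomologicalComplex.homologyMap
      ((ΦZ F).map (α.app (op (SimplexCategory.mk n))).op) k))) ∧
    ∀ k : ℤ, IsIso ((FlasqueRes.stk y).map (HomologicalComplex.homologyMap (ΦZaug F (op P)) k))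

theorem isZero_single_X {G : CochainComplex (QCohLib.AbSh X) ℤ} (hG : ∀ q : ℤ, q < 0 → IsZero (G.X q)) (p q : ℤ)
    (h : p < 0 ∨ q < 0) :
    IsZero ((((HomologicalComplex.single (CochainComplex (QCohLib.AbSh X) ℤ) (ComplexShape.up ℤ) 0).obj G).X p).X q) := by
  by_cases hp : p = 0
  · subst hp
    exact (hG q (h.resolve_left (lt_irrefl 0))).of_iso ((HomologicalComplex.eval _ _ q).mapIso
      (HomologicalComplex.singleObjXSelf (ComplexShape.up ℤ) 0 G))
  · exact (HomologicalComplex.eval _ _ q).map_isZero (HomologicalComplex.isZero_single_obj_X _ _ G p hp)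

/-- Descent from the fibres. -/
theorem quasiIso_tot_ε (h : ∀ y : X, Local F K y) : QuasiIso (BiTotal.tot.map (ε F K)) := by
  refine ⟨fun m => ?_⟩
  rw [quasiIsoAt_iff_isIso_homologyMap]
  let φ := HomologicalComplex.homologyMap (BiTotal.tot.map (ε F K)) m
  haveI : ∀ y : X, IsIso ((TopCat.Presheaf.stalkFunctor AddCommGrpCat.{u} (X := X) y).map φ.hom) := fun y => by
    obtain ⟨L, P, C, α, hα, hP⟩ := h y
    let G : BiTotal.Bi (QCohLib.AbSh X) ⥤ AddCommGrpCat.{u} := BiTotal.tot ⋙
      HomologicalComplex.homologyFunctor _ (ComplexShape.up ℤ) m ⋙ FlasqueRes.stk y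
    haveI : IsIso (G.map (map F α)) := by
      refine TotQI.isIso_map_homologyMap_tot (FlasqueRes.stk y) _ (isZero_M F K) (isZero_M F L) (fun p k => ?_) m
      let H : CochainComplex (QCohLib.AbSh X) ℤ ⥤ AddCommGrpCat.{u} :=
        HomologicalComplex.homologyFunctor _ (ComplexShape.up ℤ) k ⋙ FlasqueRes.stk y
      change IsIso (H.map ((map F α).f p))
      by_cases hp : p < 0
      · have hz : ∀ K : SimplicialObject (Over X), IsZero (H.obj ((M F K).X p)) := fun K =>
          Functor.map_isZero H (HomologicalComplex.isZero_extend_X _ _ p fun k hk => by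
            change (k : ℤ) = p at hk
            omega)
        exact ⟨⟨0, (hz K).eq_of_src _ _, (hz L).eq_of_src _ _⟩⟩
      · obtain ⟨n, rfl⟩ := Int.eq_ofNat_of_zero_le (not_lt.mp hp)
        change IsIso (H.map ((HomologicalComplex.extendMap _ ComplexShape.embeddingUpNat).f (n : ℤ)))
        rw [HomologicalComplex.extendMap_f _ ComplexShape.embeddingUpNat (i := n) (i' := (n : ℤ)) rfl, H.map_comp,
          H.map_comp]
        haveI : IsIso (H.map ((ΦZ F).map (α.app (op (SimplexCategory.mk n))).op)) := hα n k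
        exact IsIso.comp_isIso' inferInstance (IsIso.comp_isIso' ‹_› inferInstance)
    haveI : IsIso (G.map (εC F C)) := by
      haveI : IsIso (HomologicalComplex.homologyMap (BiTotal.tot.map (εC F C)) m) :=
        (quasiIsoAt_iff_isIso_homologyMap _ m).mp ((quasiIso_tot_εC F C).quasiIsoAt m)
      exact Functor.map_isIso (FlasqueRes.stk y) (HomologicalComplex.homologyMap (BiTotal.tot.map (εC F C)) m)
    let v := (HomologicalComplex.single (CochainComplex (QCohLib.AbSh X) ℤ) (ComplexShape.up ℤ) 0).map (ΦZaug F (op P))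
    haveI : IsIso (G.map v) := by
      refine TotQI.isIso_map_homologyMap_tot (FlasqueRes.stk y) v
        (isZero_single_X fun q hq => HomologicalComplex.isZero_single_obj_X _ _ _ q (by omega))
        (isZero_single_X fun q hq => isZero_ΦZ F _ q hq) (fun p k => ?_) m
      let H : CochainComplex (QCohLib.AbSh X) ℤ ⥤ AddCommGrpCat.{u} :=
        HomologicalComplex.homologyFunctor _ (ComplexShape.up ℤ) k ⋙ FlasqueRes.stk y
      change IsIso (H.map (v.f p))
      by_cases hp : p = 0
      · subst hp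
        dsimp only [v]
        rw [HomologicalComplex.single_map_f_self, H.map_comp, H.map_comp]
        haveI : IsIso (H.map (ΦZaug F (op P))) := hP k
        infer_instance
      · exact ⟨⟨0, (Functor.map_isZero H (HomologicalComplex.isZero_single_obj_X _ _ _ p hp)).eq_of_src _ _,
          (Functor.map_isZero H (HomologicalComplex.isZero_single_obj_X _ _ _ p hp)).eq_of_src _ _⟩⟩
    have e : G.map (ε F K) ≫ G.map (map F α) = G.map v ≫ G.map (εC F C) := by
      rw [← G.map_comp, ← G.map_comp, ε_map, single_map_εC]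
    haveI : IsIso (G.map (ε F K) ≫ G.map (map F α)) := by
      rw [e]
      infer_instance
    exact IsIso.of_isIso_comp_right (G.map (ε F K)) (G.map (map F α))
  exact TopCat.Presheaf.isIso_of_stalkFunctor_map_iso
    (F := (((BiTotal.tot.obj _).homology m : QCohLib.AbSh X) : TopCat.Sheaf AddCommGrpCat X))
    (G := (((BiTotal.tot.obj _).homology m : QCohLib.AbSh X) : TopCat.Sheaf AddCommGrpCat X)) φ

end CohTopLib.GodBi
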