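import Groth.Agent.CohTopLib.GodBi
import Groth.Agent.CohTopLib.LocalHomeoDesc
import Groth.Agent.SpSeqLib.MapExt

/-!
# Stalks of the resolutions, seen on the fibres
-/

set_option autoImplicit false
set_option linter.unusedSectionVars false
set_option linter.style.haveILetI false
set_option backward.isDefEq.respectTransparency false
set_option backward.isDefEq.respectTransparency.types false

universe w u
open CategoryTheory CategoryTheory.Limits TopologicalSpace Opposite Topology

namespace CohTopLib.GodFibre

open GermFam FibreCoh GodSys SpSeqLib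

variable {X : TopCat.{u}}

section Const

variable {V : Over X} {y : X} (hV : ∀ z : V.left, V.hom z = y)

include hV in
theorem top_le (W : Opens X) (hy : y ∈ W) : (⊤ : Opens V.left) ≤ (Opens.map V.hom).obj W := fun z _ =>
  show V.hom z ∈ W from (hV z).symm ▸ hy

/-- Restriction to the whole space. -/
noncomputable def constCocone (G : QCohLib.AbSh V.left) :
    Cocone ((OpenNhds.inclusion y).op ⋙ ((pushF V.hom).obj G).obj) where
  pt := (secTop V.left).obj G
  ι :=
    { app := fun W => G.obj.map (homOfLE (top_le hV W.unop.1 W.unop.2)).op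
      naturality := fun W W' i => (G.obj.map_comp _ _).symm.trans
        ((congrArg G.obj.map (Subsingleton.elim _ _)).trans (Category.comp_id _).symm) }

/-- The stalk at the common image. -/
noncomputable def E (G : QCohLib.AbSh V.left) :
    (FlasqueRes.stk y).obj ((pushF V.hom).obj G) ⟶ (secTop V.left).obj G :=
  colimit.desc _ (constCocone hV G)

theorem E_germ (G : QCohLib.AbSh V.left) (W : Opens X) (hy : y ∈ W)
    (s : G.obj.obj (op ((Opens.map V.hom).obj W))) :
    E hV G (germ ((pushF V.hom).obj G) W y hy s) = G.obj.map (homOfLE (top_le hV W hy)).op s :=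
  ConcreteCategory.congr_hom (colimit.ι_desc (constCocone hV G) (op (⟨W, hy⟩ : OpenNhds y))) s

theorem bijective_E (G : QCohLib.AbSh V.left) : Function.Bijective (E hV G) := by
  refine ⟨(injective_iff_map_eq_zero _).mpr fun a ha => ?_, fun t => ?_⟩
  · obtain ⟨W, hy, s, rfl⟩ := TopCat.Presheaf.exists_germ_eq (X := X) ((pushF V.hom).obj G).obj a
    have h := (E_germ hV G W hy s).symm.trans ha
    have hs : s = 0 := by
      refine Eq.trans ?_ ((congrArg (G.obj.map (homOfLE (le_top : (Opens.map V.hom).obj W ≤ ⊤)).op) h).trans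
        (map_zero (G.obj.map (homOfLE (le_top : (Opens.map V.hom).obj W ≤ ⊤)).op).hom))
      refine Eq.trans ?_ (ConcreteCategory.congr_hom (G.obj.map_comp _ _) s)
      exact (ConcreteCategory.congr_hom ((congrArg G.obj.map (Subsingleton.elim _ _)).trans (G.obj.map_id _)) s).symm
    rw [hs]
    exact map_zero _
  · refine ⟨germ ((pushF V.hom).obj G) ⊤ y trivial
      (G.obj.map (homOfLE (le_top : (Opens.map V.hom).obj ⊤ ≤ ⊤)).op t), (E_germ hV G ⊤ trivial _).trans ?_⟩
    refine (ConcreteCategory.congr_hom (G.obj.map_comp _ _).symm t).trans ?_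
    exact ConcreteCategory.congr_hom ((congrArg G.obj.map (Subsingleton.elim _ _)).trans (G.obj.map_id _)) t

theorem isIso_E (G : QCohLib.AbSh V.left) : IsIso (E hV G) :=
  (ConcreteCategory.isIso_iff_bijective _).mpr (bijective_E hV G)

theorem E_naturality {G G' : QCohLib.AbSh V.left} (φ : G ⟶ G') :
    (FlasqueRes.stk y).map ((pushF V.hom).map φ) ≫ E hV G' = E hV G ≫ (secTop V.left).map φ := by
  refine TopCat.Presheaf.stalk_hom_ext _ fun W hy => ?_
  ext s
  change E hV G' ((TopCat.Presheaf.stalkFunctor AddCommGrpCat.{u} y).map ((pushF V.hom).map φ).hom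
      (germ ((pushF V.hom).obj G) W y hy s)) =
    (secTop V.left).map φ (E hV G (germ ((pushF V.hom).obj G) W y hy s))
  rw [TopCat.Presheaf.stalkFunctor_map_germ_apply, E_germ]
  refine Eq.trans ?_ (congrArg ((secTop V.left).map φ) (E_germ hV G W hy s)).symm
  exact (NatTrans.naturality_apply φ.hom (homOfLE (top_le hV W hy)).op s).symm

end Const

section Map

variable (D : Sys X) {U V : Over X} (g : V ⟶ U)

/-- The adjoint of a transition map. -/
noncomputable def ψ : (CohTop.pull g.left).obj (D.obj U) ⟶ D.obj V :=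
  ((TopCat.Sheaf.pullbackPushforwardAdjunction AddCommGrpCat.{u} g.left).homEquiv (D.obj U) (D.obj V)).symm (D.map g)

theorem ψ_pullSec (W : Opens U.left) (s : (D.obj U).obj.obj (op W)) :
    (ψ D g).hom.app (op ((Opens.map g.left).obj W)) (pullSec g.left (D.obj U) W s) = (D.map g).hom.app (op W) s := by
  have h := ((TopCat.Sheaf.pullbackPushforwardAdjunction AddCommGrpCat.{u} g.left).homEquiv (D.obj U)
    (D.obj V)).apply_symm_apply (D.map g)
  rw [Adjunction.homEquiv_unit] at h
  exact ConcreteCategory.congr_hom (congrArg (fun φ => φ.hom.app (op W)) h) s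

theorem st_ψ_pullStalk (z : V.left) (a : Stk (D.obj U) (g.left z)) :
    st z (ψ D g) (pullStalk g.left (D.obj U) z a) = D.σ g z a := by
  obtain ⟨W, hz, s, rfl⟩ := TopCat.Presheaf.exists_germ_eq (X := U.left) (D.obj U).obj a
  refine (congrArg (st z (ψ D g)) (pullStalk_germ g.left (D.obj U) z W hz s)).trans ?_
  refine (st_germ (Z := V.left) z (ψ D g) _ hz _).trans ?_
  exact (congrArg (germ (D.obj V) _ z hz) (ψ_pullSec D g W s)).trans (D.σ_germ g z W hz s).symm

variable {D} in
theorem ψ_natural {D' : Sys X} (φ : SysHom D D') :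
    (CohTop.pull g.left).map (φ.app U) ≫ ψ D' g = ψ D g ≫ φ.app V := by
  refine ((TopCat.Sheaf.pullbackPushforwardAdjunction AddCommGrpCat.{u} g.left).homEquiv_naturality_left_symm
    (φ.app U) (D'.map g)).symm.trans ?_
  refine Eq.trans ?_ ((TopCat.Sheaf.pullbackPushforwardAdjunction AddCommGrpCat.{u} g.left).homEquiv_naturality_right_symm
    (D.map g) (φ.app V))
  exact congrArg _ (φ.comm g)

variable {y : X} (hV : ∀ z : V.left, V.hom z = y) (hcl : IsClosedMap U.hom)
  (hsurj : ∀ x, U.hom x = y → x ∈ Set.range g.left) (he : IsEmbedding g.left) (hs : Sep (Set.range g.left))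

include hV in
theorem hey (z : V.left) : U.hom (g.left z) = y :=
  (ConcreteCategory.congr_hom (Over.w g) z).trans (hV z)

theorem pushMap_E [CompactSpace V.left] :
    (FlasqueRes.stk y).map (D.pushMap g) ≫ E hV (D.obj V) =
      (stalkPushIso g.left U.hom y (hey g hV) hcl hsurj he hs).hom.app (D.obj U) ≫ (secTop V.left).map (ψ D g) := by
  refine TopCat.Presheaf.stalk_hom_ext _ fun W hy => ?_
  ext s
  change E hV (D.obj V) ((TopCat.Presheaf.stalkFunctor AddCommGrpCat.{u} y).map (D.pushMap g).hom
      (germ ((pushF U.hom).obj (D.obj U)) W y hy s)) =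
    (secTop V.left).map (ψ D g) (colimit.desc _ (stalkCocone g.left U.hom y (hey g hV) (D.obj U))
      (germ ((pushF U.hom).obj (D.obj U)) W y hy s))
  rw [TopCat.Presheaf.stalkFunctor_map_germ_apply]
  refine (E_germ hV (D.obj V) W hy _).trans ?_
  refine Eq.trans ?_ (congrArg ((secTop V.left).map (ψ D g))
    (ConcreteCategory.congr_hom (colimit.ι_desc (stalkCocone g.left U.hom y (hey g hV) (D.obj U))
      (op (⟨W, hy⟩ : OpenNhds y))) s)).symm
  refine Eq.trans ?_ (NatTrans.naturality_apply (ψ D g).hom _
    (pullSec g.left (D.obj U) ((Opens.map U.hom).obj W) s)).symm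
  refine Eq.trans ?_ (congrArg _ (ψ_pullSec D g ((Opens.map U.hom).obj W) s)).symm
  exact (ConcreteCategory.congr_hom ((D.obj V).obj.map_comp _ _) _).symm.trans
    (ConcreteCategory.congr_hom (congrArg (D.obj V).obj.map (Subsingleton.elim _ _)) _)

end Map

section Eval

variable (F : QCohLib.AbSh X) (U : Over X)

/-- Evaluation at a point. -/
noncomputable def evCocone (z : U.left) (x : X) (e : U.hom z = x) :
    Cocone ((OpenNhds.inclusion z).op ⋙ (famObj F U).obj) where
  pt := AddCommGrpCat.of (Stk F x)
  ι :=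
    { app := fun W => AddCommGrpCat.ofHom (AddMonoidHom.mk'
        (fun f : ((famCond F U).ok W.unop.1) => f.1 ⟨z, W.unop.2⟩ x ⟨e⟩) fun _ _ => rfl)
      naturality := fun _ _ _ => rfl }

/-- Evaluation at a point, on stalks. -/
noncomputable def ev (z : U.left) (x : X) (e : U.hom z = x) : Stk (famObj F U) z →+ Stk F x :=
  (colimit.desc _ (evCocone F U z x e)).hom

theorem ev_germ (z : U.left) (x : X) (e : U.hom z = x) (W : Opens U.left) (hz : z ∈ W)
    (f : (famObj F U).obj.obj (op W)) :
    ev F U z x e (germ (famObj F U) W z hz f) = (show (famCond F U).ok W from f).1 ⟨z, hz⟩ x ⟨e⟩ :=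
  ConcreteCategory.congr_hom (colimit.ι_desc (evCocone F U z x e) (op (⟨W, hz⟩ : OpenNhds z))) f

theorem bijective_ev (z : U.left) (x : X) (e : U.hom z = x) : Function.Bijective (ev F U z x e) := by
  subst e
  refine ⟨(injective_iff_map_eq_zero _).mpr fun a ha => ?_, fun b => ?_⟩
  · obtain ⟨W, hz, f, rfl⟩ := TopCat.Presheaf.exists_germ_eq (X := U.left) (famObj F U).obj a
    obtain ⟨A, hA, t, N, hN, ht⟩ := (show (famCond F U).ok W from f).2 z hz
    obtain ⟨A', hA', _, hA'0⟩ := exists_eq_nhd F hA hA t 0
      (((ht z hN hz _ ⟨rfl⟩ hA).symm.trans ((ev_germ F U z _ rfl W hz f).symm.trans ha)).trans (map_zero _).symm)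
    refine Eq.trans ?_ (map_zero (TopCat.Presheaf.germ (X := U.left) (famObj F U).obj W z hz).hom)
    refine TopCat.Presheaf.germ_ext (X := U.left) (famObj F U).obj ((Opens.map U.hom).obj A' ⊓ (N ⊓ W))
      ⟨hA', hN, hz⟩ (homOfLE (inf_le_right.trans inf_le_right)) (homOfLE (inf_le_right.trans inf_le_right)) ?_
    refine Subtype.ext (funext fun w => funext fun x => funext fun e => ?_)
    obtain ⟨e⟩ := e
    subst e
    have hwA : U.hom w.1 ∈ A' := w.2.1
    refine (ht w.1 w.2.2.1 w.2.2.2 _ ⟨rfl⟩ ?_).trans ((hA'0 _ hwA ?_ ?_).trans (map_zero _))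
    all_goals exact (‹A' ≤ A ⊓ A› hwA).1
  · obtain ⟨A, hA, t, rfl⟩ := TopCat.Presheaf.exists_germ_eq (X := X) F.obj b
    exact ⟨germ (famObj F U) ((Opens.map U.hom).obj A) z hA ((famAug F U).hom.app (op A) t),
      ev_germ F U z _ rfl _ hA _⟩

theorem ev_σ {V : Over X} (g : V ⟶ U) (z : V.left) (x : X) (e : V.hom z = x) (a : Stk (famObj F U) (g.left z)) :
    ev F V z x e ((famSys F).σ g z a) =
      ev F U (g.left z) x ((ConcreteCategory.congr_hom (Over.w g) z).trans e) a := by
  obtain ⟨W, hz, f, rfl⟩ := TopCat.Presheaf.exists_germ_eq (X := U.left) (famObj F U).obj a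
  refine (congrArg (ev F V z x e) ((famSys F).σ_germ g z W hz f)).trans ?_
  exact (ev_germ F V z x e _ hz _).trans (ev_germ F U (g.left z) x _ W hz f).symm

theorem isIso_ψ_famSys {V : Over X} (g : V ⟶ U) : IsIso (ψ (famSys F) g) := by
  have hb : ∀ z : V.left, Function.Bijective (st z (ψ (famSys F) g)) := fun z => by
    have hσ : Function.Bijective ((famSys F).σ g z) := by
      refine (Function.Bijective.of_comp_iff' (bijective_ev F V z _ rfl) _).mp ?_
      have h : (ev F V z (V.hom z) rfl) ∘ ((famSys F).σ g z) =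
          ev F U (g.left z) (V.hom z) (ConcreteCategory.congr_hom (Over.w g) z) := funext fun a => ev_σ F U g z _ rfl a
      rw [h]
      exact bijective_ev F U _ _ _
    refine (Function.Bijective.of_comp_iff _ (bijective_pullStalk g.left ((famSys F).obj U) z)).mp ?_
    have h : (st z (ψ (famSys F) g)) ∘ (pullStalk g.left ((famSys F).obj U) z) = (famSys F).σ g z :=
      funext fun a => st_ψ_pullStalk (famSys F) g z a
    exact h ▸ hσ
  haveI : ∀ z : V.left, IsIso ((TopCat.Presheaf.stalkFunctor AddCommGrpCat.{u} (X := V.left) z).map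
      (ψ (famSys F) g).hom) := fun z => (ConcreteCategory.isIso_iff_bijective _).mpr (hb z)
  exact TopCat.Presheaf.isIso_of_stalkFunctor_map_iso
    (F := ((CohTop.pull g.left).obj ((famSys F).obj U) : TopCat.Sheaf AddCommGrpCat V.left))
    (G := ((famSys F).obj V : TopCat.Sheaf AddCommGrpCat V.left)) (ψ (famSys F) g)

end Eval

section Cx

variable (F : QCohLib.AbSh X)

theorem Φ_d (U : (Over X)ᵒᵖ) (n : ℕ) :
    ((Φ F).obj U).d n (n + 1) = (pushF U.unop.hom).map ((dHom F n).app U.unop) :=
  CochainComplex.of_d (fun n => (syz F n).gd.pushFun.obj U) (fun n => (pushHom (dHom F n)).app U) n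

variable {U V : Over X} (g : V ⟶ U)

/-- The comparison of resolutions. -/
noncomputable def ψc :
    ((CohTop.pull g.left).mapHomologicalComplex (ComplexShape.up ℕ)).obj (res F U) ⟶ res F V where
  f n := ψ (syz F n).gd g
  comm' i j hij := by
    obtain rfl : i + 1 = j := hij
    refine (congrArg (_ ≫ ·) (res_d F V i)).trans (Eq.trans ?_ (congrArg (· ≫ _)
      (congrArg (CohTop.pull g.left).map (res_d F U i))).symm)
    exact (ψ_natural g (dHom F i)).symm

theorem quasiIso_ψc : QuasiIso (ψc F g) := by
  haveI := quasiIso_resAug F U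
  haveI := quasiIso_resAug F V
  haveI := isIso_ψ_famSys F U g
  let a := ((HomologicalComplex.singleMapHomologicalComplex (CohTop.pull g.left) (ComplexShape.up ℕ) 0).app
      (famObj F U)).inv ≫ ((CohTop.pull g.left).mapHomologicalComplex (ComplexShape.up ℕ)).map (resAug F U)
  haveI : QuasiIso a := by dsimp only [a]; infer_instance
  have e : a ≫ ψc F g = (CochainComplex.single₀ _).map (ψ (famSys F) g) ≫ resAug F V := by
    refine HomologicalComplex.from_single_hom_ext ?_
    rw [HomologicalComplex.comp_f, HomologicalComplex.comp_f]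
    have eU : (resAug F U).f 0 = (syz F 0).ι.app U := CochainComplex.fromSingle₀Equiv_symm_apply_f_zero _ _
    have eV : (resAug F V).f 0 = (syz F 0).ι.app V := CochainComplex.fromSingle₀Equiv_symm_apply_f_zero _ _
    simp [a, eU, eV, HomologicalComplex.singleMapHomologicalComplex, CochainComplex.single₀_map_f_zero]
    exact ψ_natural g (syz F 0).ι
  haveI : QuasiIso (a ≫ ψc F g) := by
    rw [e]
    infer_instance
  exact quasiIso_of_comp_left a _

variable {y : X} (hV : ∀ z : V.left, V.hom z = y) (hcl : IsClosedMap U.hom)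
  (hsurj : ∀ x, U.hom x = y → x ∈ Set.range g.left) (he : IsEmbedding g.left) (hs : Sep (Set.range g.left))
  [CompactSpace V.left]

include he hs in
theorem quasiIso_secTop_ψc : QuasiIso (((secTop V.left).mapHomologicalComplex (ComplexShape.up ℕ)).map (ψc F g)) := by
  haveI := HasDerivedCategory.standard (QCohLib.AbSh V.left)
  haveI := quasiIso_ψc F g
  rw [← MapExt.quasiIso_map_extendMap_iff]
  refine quasiIso_map_of_isSAcyclic (secTop V.left) _ 0 (fun n => ?_) fun n => ?_
  · cases n with
    | ofNat n =>
      rw [isSAcyclic_iff]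
      intro k hk
      obtain ⟨m, rfl⟩ := Nat.exists_eq_succ_of_ne_zero hk.ne'
      refine IsZero.of_iso ?_ (((secTop V.left).rightDerived (m + 1)).mapIso (HomologicalComplex.extendXIso _
        ComplexShape.embeddingUpNat (i := n) (i' := Int.ofNat n) rfl))
      obtain ⟨e⟩ := nonempty_rightDerived_secTop V.left ((CohTop.pull g.left).obj ((res F U).X n)) (m + 1)
      haveI := isFlasque_res F U n
      haveI := subsingleton_HU_pull_of_isFlasque g.left he hs ((res F U).X n) m
      exact IsZero.of_iso (@AddCommGrpCat.isZero_of_subsingleton _ ‹_›) e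
    | negSucc m =>
      exact isSAcyclic_of_isZero _ (HomologicalComplex.isZero_extend_X _ _ _ fun k hk => by
        change (k : ℤ) = Int.negSucc m at hk
        omega)
  · cases n with
    | ofNat n =>
      exact LocalHomeoDesc.isSAcyclic_of_isFlasque _ (FlasqueLocal.isFlasque_of_iso
        (HomologicalComplex.extendXIso _ ComplexShape.embeddingUpNat (i := n) (i' := Int.ofNat n) rfl).symm
        (isFlasque_res F V n))
    | negSucc m =>
      exact isSAcyclic_of_isZero _ (HomologicalComplex.isZero_extend_X _ _ _ fun k hk => by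
        change (k : ℤ) = Int.negSucc m at hk
        omega)

include hV hcl hsurj he hs in
theorem quasiIso_stk_map :
    QuasiIso (((FlasqueRes.stk y).mapHomologicalComplex (ComplexShape.up ℕ)).map ((Φ F).map g.op)) := by
  haveI := quasiIso_secTop_ψc F g he hs
  haveI := fun n => isIso_E hV ((syz F n).gd.obj V)
  let l : ((FlasqueRes.stk y).mapHomologicalComplex (ComplexShape.up ℕ)).obj ((Φ F).obj (op U)) ≅
      ((secTop V.left).mapHomologicalComplex (ComplexShape.up ℕ)).obj
        (((CohTop.pull g.left).mapHomologicalComplex (ComplexShape.up ℕ)).obj (res F U)) :=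
    HomologicalComplex.Hom.isoOfComponents
      (fun n => (stalkPushIso g.left U.hom y (hey g hV) hcl hsurj he hs).app ((syz F n).gd.obj U))
      fun i j hij => by
        obtain rfl : i + 1 = j := hij
        refine ((congrArg (_ ≫ ·) (congrArg (GZ g.left).map (res_d F U i))).trans
          ((stalkPushIso g.left U.hom y (hey g hV) hcl hsurj he hs).hom.naturality ((dHom F i).app U)).symm).trans ?_
        exact congrArg (· ≫ _) (congrArg (FlasqueRes.stk y).map (Φ_d F (op U) i)).symm
  let r : ((FlasqueRes.stk y).mapHomologicalComplex (ComplexShape.up ℕ)).obj ((Φ F).obj (op V)) ≅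
      ((secTop V.left).mapHomologicalComplex (ComplexShape.up ℕ)).obj (res F V) :=
    HomologicalComplex.Hom.isoOfComponents (fun n => asIso (E hV ((syz F n).gd.obj V)))
      fun i j hij => by
        obtain rfl : i + 1 = j := hij
        refine ((congrArg (_ ≫ ·) (congrArg (secTop V.left).map (res_d F V i))).trans
          (E_naturality hV ((dHom F i).app V)).symm).trans ?_
        exact congrArg (· ≫ _) (congrArg (FlasqueRes.stk y).map (Φ_d F (op V) i)).symm
  refine (quasiIso_iff_of_arrow_mk_iso _ _ (Arrow.isoMk l r ?_)).mpr ‹_›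
  refine HomologicalComplex.hom_ext _ _ fun n => ?_
  exact (pushMap_E (syz F n).gd g hV hcl hsurj he hs).symm

include hV hcl hsurj he hs in
theorem isIso_map_homologyMap_ΦZ (k : ℤ) :
    IsIso ((FlasqueRes.stk y).map (HomologicalComplex.homologyMap ((GodBi.ΦZ F).map g.op) k)) := by
  haveI : QuasiIso (((FlasqueRes.stk y).mapHomologicalComplex (ComplexShape.up ℤ)).map
      ((GodBi.ΦZ F).map g.op)) :=
    (MapExt.quasiIso_map_extendMap_iff (FlasqueRes.stk y) ((Φ F).map g.op)).mpr
      (quasiIso_stk_map F g hV hcl hsurj he hs)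
  exact MapExt.isIso_map_homologyMap_of_quasiIso (FlasqueRes.stk y) _ k

end Cx

section Point

variable (F : QCohLib.AbSh X) {P : Over X} (z₀ : P.left) (huniq : ∀ z : P.left, z = z₀)

include huniq in
theorem isFlasque_of_unique (G : QCohLib.AbSh P.left) :
    TopCat.Sheaf.IsFlasque (G : TopCat.Sheaf AddCommGrpCat P.left) := by
  refine ⟨fun {A B} i => ?_⟩
  by_cases h : z₀ ∈ B.unop
  · have hAB : A = B := congrArg op (le_antisymm (fun z _ => huniq z ▸ h) (leOfHom i.unop))
    subst hAB
    rw [show i = 𝟙 A from Subsingleton.elim _ _, CategoryTheory.Functor.map_id]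
    infer_instance
  · refine (AddCommGrpCat.epi_iff_surjective _).mpr fun b => ⟨0, ?_⟩
    refine TopCat.Presheaf.section_ext (G : TopCat.Sheaf AddCommGrpCat P.left) _ _ _ fun z hz => ?_
    exact (h (huniq z ▸ hz)).elim

include huniq in
theorem isIso_map_homologyMap_ΦZaug {y : X} (hy : P.hom z₀ = y) (k : ℤ) :
    IsIso ((FlasqueRes.stk y).map (HomologicalComplex.homologyMap (GodBi.ΦZaug F (op P)) k)) := by
  have hV : ∀ z : P.left, P.hom z = y := fun z => huniq z ▸ hy
  let aug := (CochainComplex.fromSingle₀Equiv _ _).symm ⟨Φaug F (op P), Φaug_d F (op P)⟩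
  let θ : (FlasqueRes.stk y).obj F ⟶ (secTop P.left).obj (famObj F P) :=
    (FlasqueRes.stk y).map (famAug F P) ≫ E hV (famObj F P)
  haveI : IsIso θ := by
    refine (ConcreteCategory.isIso_iff_bijective _).mpr ?_
    let evTop : (secTop P.left).obj (famObj F P) → Stk F y := fun f =>
      (show (famCond F P).ok ⊤ from f).1 ⟨z₀, trivial⟩ y ⟨hy⟩
    have h1 : ∀ a : Stk F y, evTop (θ a) = a := fun a => by
      obtain ⟨W, hW, t, rfl⟩ := TopCat.Presheaf.exists_germ_eq (X := X) F.obj a
      refine (congrArg evTop ((congrArg (E hV (famObj F P))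
        (TopCat.Presheaf.stalkFunctor_map_germ_apply (X := X) W y hW (famAug F P).hom t)).trans
          (E_germ hV (famObj F P) W hW _))).trans ?_
      rfl
    have h2 : Function.Injective evTop := fun f f' h => by
      refine Subtype.ext (funext fun z => funext fun x => funext fun e => ?_)
      obtain ⟨z, hz⟩ := z
      obtain rfl := huniq z
      obtain ⟨e⟩ := e
      obtain rfl : y = x := hy.symm.trans e
      exact h
    exact ⟨Function.LeftInverse.injective h1, fun f => ⟨evTop f, h2 (h1 _)⟩⟩
  haveI : QuasiIso (((FlasqueRes.stk y).mapHomologicalComplex (ComplexShape.up ℕ)).map aug) := by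
    haveI : QuasiIso (((secTop P.left).mapHomologicalComplex (ComplexShape.up ℕ)).map (resAug F P)) := by
      haveI := HasDerivedCategory.standard (QCohLib.AbSh P.left)
      haveI := quasiIso_resAug F P
      rw [← MapExt.quasiIso_map_extendMap_iff]
      exact quasiIso_map_of_isSAcyclic (secTop P.left) _ 0
        (fun n => LocalHomeoDesc.isSAcyclic_of_isFlasque _ (isFlasque_of_unique z₀ huniq _))
        fun n => LocalHomeoDesc.isSAcyclic_of_isFlasque _ (isFlasque_of_unique z₀ huniq _)
    haveI := fun n => isIso_E hV ((syz F n).gd.obj P)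
    let l : ((FlasqueRes.stk y).mapHomologicalComplex (ComplexShape.up ℕ)).obj
        ((CochainComplex.single₀ (QCohLib.AbSh X)).obj F) ≅
        ((secTop P.left).mapHomologicalComplex (ComplexShape.up ℕ)).obj
          ((CochainComplex.single₀ (QCohLib.AbSh P.left)).obj (famObj F P)) :=
      (HomologicalComplex.singleMapHomologicalComplex (FlasqueRes.stk y) (ComplexShape.up ℕ) 0).app F ≪≫
        (CochainComplex.single₀ AddCommGrpCat.{u}).mapIso (asIso θ) ≪≫
          ((HomologicalComplex.singleMapHomologicalComplex (secTop P.left) (ComplexShape.up ℕ) 0).app (famObj F P)).symm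
    let r : ((FlasqueRes.stk y).mapHomologicalComplex (ComplexShape.up ℕ)).obj ((Φ F).obj (op P)) ≅
        ((secTop P.left).mapHomologicalComplex (ComplexShape.up ℕ)).obj (res F P) :=
      HomologicalComplex.Hom.isoOfComponents (fun n => asIso (E hV ((syz F n).gd.obj P)))
        fun i j hij => by
          obtain rfl : i + 1 = j := hij
          refine ((congrArg (_ ≫ ·) (congrArg (secTop P.left).map (res_d F P i))).trans
            (E_naturality hV ((dHom F i).app P)).symm).trans ?_
          exact congrArg (· ≫ _) (congrArg (FlasqueRes.stk y).map (Φ_d F (op P) i)).symm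
    refine (quasiIso_iff_of_arrow_mk_iso _ _ (Arrow.isoMk l r ?_)).mpr ‹_›
    refine HomologicalComplex.hom_ext _ _ fun n => ?_
    cases n with
    | zero =>
      have eP : (resAug F P).f 0 = (syz F 0).ι.app P := CochainComplex.fromSingle₀Equiv_symm_apply_f_zero _ _
      have eA : aug.f 0 = Φaug F (op P) := CochainComplex.fromSingle₀Equiv_symm_apply_f_zero _ _
      simp [l, r, eP, eA, θ, Φaug, HomologicalComplex.singleMapHomologicalComplex, CochainComplex.single₀_map_f_zero]
      exact congrArg (_ ≫ ·) (E_naturality hV ((syz F 0).ι.app P)).symm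
    | succ m =>
      exact (Functor.map_isZero (FlasqueRes.stk y)
        (HomologicalComplex.isZero_single_obj_X (ComplexShape.up ℕ) 0 F (m + 1) m.succ_ne_zero)).eq_of_src _ _
  haveI : QuasiIso (((FlasqueRes.stk y).mapHomologicalComplex (ComplexShape.up ℤ)).map
      (GodBi.ΦZaug F (op P))) := by
    haveI := (MapExt.quasiIso_map_extendMap_iff (FlasqueRes.stk y) aug).mpr ‹_›
    rw [GodBi.ΦZaug, Functor.map_comp]
    infer_instance
  exact MapExt.isIso_map_homologyMap_of_quasiIso (FlasqueRes.stk y) _ k

end Point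

end CohTopLib.GodFibre
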