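import Groth.Agent.CechLib.Cartan
import Mathlib.Topology.Sheaves.SheafCondition.UniqueGluing

/-!
# Subsheaves cut out by local conditions on sections
-/

set_option autoImplicit false
set_option linter.unusedSectionVars false
set_option backward.isDefEq.respectTransparency false

universe u
open CategoryTheory CategoryTheory.Limits TopologicalSpace Opposite

namespace CohTopLib.SubSheaf

variable {X : TopCat.{u}} (G : QCohLib.AbSh X)

/-- A local condition on sections, additive in the section. -/
structure Cond where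
  /-- The admissible sections. -/
  ok : ∀ U : Opens X, AddSubgroup (G.obj.obj (op U))
  res : ∀ {U V : Opens X} (h : V ≤ U) (s : G.obj.obj (op U)), s ∈ ok U → G.obj.map (homOfLE h).op s ∈ ok V
  loc : ∀ (U : Opens X) (s : G.obj.obj (op U)),
    (∀ x ∈ U, ∃ (V : Opens X) (h : V ≤ U), x ∈ V ∧ G.obj.map (homOfLE h).op s ∈ ok V) → s ∈ ok U

variable {G} (c : Cond G)

/-- The subpresheaf. -/
noncomputable def pre : TopCat.Presheaf AddCommGrpCat.{u} X where
  obj U := AddCommGrpCat.of (c.ok U.unop)
  map {U V} i := AddCommGrpCat.ofHom (((G.obj.map i).hom.comp (c.ok U.unop).subtype).codRestrict (c.ok V.unop)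
    fun s => c.res (leOfHom i.unop) s.1 s.2)
  map_id U := by
    ext s
    exact ConcreteCategory.congr_hom (G.obj.map_id U) s.1
  map_comp f g := by
    ext s
    exact ConcreteCategory.congr_hom (G.obj.map_comp f g) s.1

theorem pre_isSheaf : (pre c).IsSheaf := by
  rw [TopCat.Presheaf.isSheaf_iff_isSheafUniqueGluing]
  intro ι U sf hsf
  obtain ⟨s, hs, huniq⟩ := TopCat.Sheaf.existsUnique_gluing (G : TopCat.Sheaf AddCommGrpCat X) U
    (fun i => (show c.ok (U i) from sf i).1) (fun i j => congrArg Subtype.val (hsf i j))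
  refine ⟨⟨s, c.loc _ s fun x hx => ?_⟩, fun i => Subtype.ext (hs i), fun t ht => Subtype.ext ?_⟩
  · obtain ⟨i, hi⟩ := Opens.mem_iSup.mp hx
    refine ⟨U i, le_iSup U i, hi, ?_⟩
    exact (hs i).symm ▸ (show c.ok (U i) from sf i).2
  · exact huniq _ fun i => congrArg Subtype.val (ht i)

/-- The subsheaf. -/
noncomputable def sh : QCohLib.AbSh X := ⟨pre c, pre_isSheaf c⟩

/-- The inclusion. -/
noncomputable def incl : sh c ⟶ G :=
  ⟨{ app := fun U => AddCommGrpCat.ofHom (c.ok U.unop).subtype
     naturality := fun _ _ _ => rfl }⟩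

theorem incl_injective (U : Opens X) : Function.Injective ((incl c).hom.app (op U)) := Subtype.val_injective

instance mono_incl : Mono (incl c) := by
  have : ∀ U, Mono ((incl c).hom.app U) := fun U => by
    rw [AddCommGrpCat.mono_iff_injective]
    exact incl_injective c U.unop
  have : Mono ((sheafToPresheaf _ _).map (incl c)) := NatTrans.mono_of_mono_app (incl c).hom
  exact (sheafToPresheaf _ _).mono_of_mono_map this

/-- Factor a map through the subsheaf. -/
noncomputable def lift {H : QCohLib.AbSh X} (φ : H ⟶ G)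
    (h : ∀ (U : Opens X) (s : H.obj.obj (op U)), φ.hom.app (op U) s ∈ c.ok U) : H ⟶ sh c :=
  ⟨{ app := fun U => AddCommGrpCat.ofHom ((φ.hom.app U).hom.codRestrict (c.ok U.unop) (h U.unop))
     naturality := fun U V i => by
      ext s
      exact Subtype.ext (ConcreteCategory.congr_hom (φ.hom.naturality i) s) }⟩

theorem lift_incl {H : QCohLib.AbSh X} (φ : H ⟶ G)
    (h : ∀ (U : Opens X) (s : H.obj.obj (op U)), φ.hom.app (op U) s ∈ c.ok U) : lift c φ h ≫ incl c = φ := rfl

/-- Inclusions between subsheaves. -/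
noncomputable def map {c' : Cond G} (h : ∀ U, c.ok U ≤ c'.ok U) : sh c ⟶ sh c' :=
  lift c' (incl c) fun U s => h U (show c.ok U from s).2

theorem map_incl {c' : Cond G} (h : ∀ U, c.ok U ≤ c'.ok U) : map c h ≫ incl c' = incl c := rfl

end CohTopLib.SubSheaf
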