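import Groth.Agent.CohTopLib.GermFam
import Groth.Agent.CohTopLib.SubSheaf
import Groth.Agent.CechLib.Godement
import Mathlib.CategoryTheory.Comma.Over.Basic
import Mathlib.Algebra.Homology.Single

/-!
# A resolution of inverse images, functorial in the space over the base
-/

set_option autoImplicit false
set_option linter.unusedSectionVars false
set_option linter.style.haveILetI false
set_option backward.isDefEq.respectTransparency false
set_option backward.isDefEq.respectTransparency.types false

universe u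
open CategoryTheory CategoryTheory.Limits TopologicalSpace Opposite

namespace CohTopLib.GodSys

open GermFam

variable {X : TopCat.{u}}

/-- The direct image. -/
noncomputable abbrev pushF {Z T : TopCat.{u}} (f : Z ⟶ T) : QCohLib.AbSh Z ⥤ QCohLib.AbSh T := CohTop.push f

/-- Direct image along an identity. -/
noncomputable def idPush {Z : TopCat.{u}} (G : QCohLib.AbSh Z) : G ⟶ (pushF (𝟙 Z)).obj G :=
  ⟨{ app := fun W => G.obj.map (homOfLE (le_refl W.unop)).op
     naturality := fun W W' i => (G.obj.map_comp _ _).symm.trans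
       ((congrArg G.obj.map (Subsingleton.elim _ _)).trans (G.obj.map_comp _ _)) }⟩

theorem idPush_app {Z : TopCat.{u}} (G : QCohLib.AbSh Z) (W : Opens Z) (s : G.obj.obj (op W)) :
    (idPush G).hom.app (op W) s = s :=
  ConcreteCategory.congr_hom ((congrArg G.obj.map (Subsingleton.elim _ (𝟙 (op W)))).trans (G.obj.map_id (op W))) s

/-- A system of sheaves on the spaces over the base. -/
structure Sys (X : TopCat.{u}) where
  /-- the sheaves -/
  obj : ∀ U : Over X, QCohLib.AbSh U.left
  /-- the transition maps -/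
  map : ∀ {U V : Over X} (g : U ⟶ V), obj V ⟶ (pushF g.left).obj (obj U)
  map_id : ∀ (U : Over X), map (𝟙 U) = idPush (obj U)
  map_comp : ∀ {U V T : Over X} (g : U ⟶ V) (k : V ⟶ T),
    map (g ≫ k) = map k ≫ (pushF k.left).map (map g)

/-- Maps of systems. -/
structure SysHom (D E : Sys X) where
  /-- the components -/
  app : ∀ U : Over X, D.obj U ⟶ E.obj U
  comm : ∀ {U V : Over X} (g : U ⟶ V), app V ≫ E.map g = D.map g ≫ (pushF g.left).map (app U)

namespace Sys

variable (D : Sys X)

theorem map_id_app (U : Over X) (W : Opens U.left) (s : (D.obj U).obj.obj (op W)) :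
    (D.map (𝟙 U)).hom.app (op W) s = s := by
  rw [D.map_id]
  exact idPush_app _ W s

theorem map_comp_app {U V T : Over X} (g : U ⟶ V) (k : V ⟶ T) (W : Opens T.left)
    (s : (D.obj T).obj.obj (op W)) :
    (D.map (g ≫ k)).hom.app (op W) s =
      (D.map g).hom.app (op ((Opens.map k.left).obj W)) ((D.map k).hom.app (op W) s) := by
  rw [D.map_comp]
  rfl

/-- The transition maps on stalks. -/
noncomputable def σ {U V : Over X} (g : U ⟶ V) (z : U.left) : Stk (D.obj V) (g.left z) →+ Stk (D.obj U) z :=
  ((TopCat.Presheaf.stalkFunctor AddCommGrpCat.{u} (X := V.left) (g.left z)).map (D.map g).hom ≫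
    TopCat.Presheaf.stalkPushforward AddCommGrpCat.{u} g.left (D.obj U).obj z).hom

theorem σ_germ {U V : Over X} (g : U ⟶ V) (z : U.left) (W : Opens V.left) (hz : g.left z ∈ W)
    (s : (D.obj V).obj.obj (op W)) :
    D.σ g z (germ (D.obj V) W (g.left z) hz s) =
      germ (D.obj U) ((Opens.map g.left).obj W) z hz ((D.map g).hom.app (op W) s) := by
  have h1 := TopCat.Presheaf.stalkFunctor_map_germ (C := AddCommGrpCat.{u}) (X := V.left) W (g.left z) hz (D.map g).hom
  have h2 := TopCat.Presheaf.stalkPushforward_germ AddCommGrpCat.{u} g.left (D.obj U).obj W z hz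
  exact (congrArg (fun w => TopCat.Presheaf.stalkPushforward AddCommGrpCat.{u} g.left (D.obj U).obj z w)
    (ConcreteCategory.congr_hom h1 s)).trans (ConcreteCategory.congr_hom h2 _)

theorem σ_id (U : Over X) (z : U.left) (a : Stk (D.obj U) z) : D.σ (𝟙 U) z a = a := by
  obtain ⟨W, hz, s, rfl⟩ := TopCat.Presheaf.exists_germ_eq (X := U.left) (D.obj U).obj a
  refine (D.σ_germ (𝟙 U) z W hz s).trans ?_
  rw [map_id_app]
  rfl

theorem σ_comp {U V T : Over X} (g : U ⟶ V) (k : V ⟶ T) (z : U.left) (a : Stk (D.obj T) (k.left (g.left z))) :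
    D.σ (g ≫ k) z a = D.σ g z (D.σ k (g.left z) a) := by
  obtain ⟨W, hz, s, rfl⟩ := TopCat.Presheaf.exists_germ_eq (X := T.left) (D.obj T).obj a
  refine (D.σ_germ (g ≫ k) z W hz s).trans ?_
  refine Eq.trans ?_ (congrArg (D.σ g z) (D.σ_germ k (g.left z) W hz s)).symm
  refine Eq.trans ?_ (D.σ_germ g z _ hz _).symm
  rw [map_comp_app]
  rfl

/-- Discontinuous sections of a system. -/
noncomputable def gd : Sys X where
  obj U := CechLib.gd (D.obj U)
  map {U V} g :=
    ⟨{ app := fun W => AddCommGrpCat.ofHom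
        (AddMonoidHom.mk' (fun (φ : ∀ v : W.unop, Stk (D.obj V) v.1) =>
            (fun z => D.σ g z.1 (φ ⟨g.left z.1, z.2⟩) :
              ∀ z : ((Opens.map g.left).obj W.unop : Opens U.left), Stk (D.obj U) z.1))
          fun φ ψ => funext fun z => map_add (D.σ g z.1) _ _)
       naturality := fun _ _ _ => rfl }⟩
  map_id U := by
    refine Sheaf.hom_ext (NatTrans.ext (funext fun W => ?_))
    ext φ
    refine (funext fun z => ?_ : _)
    exact (D.σ_id U z.1 _).trans (congrFun (idPush_app (CechLib.gd (D.obj U)) W.unop φ).symm z)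
  map_comp g k := by
    refine Sheaf.hom_ext (NatTrans.ext (funext fun W => ?_))
    ext φ
    exact funext fun z => D.σ_comp g k z.1 _

/-- The germ map. -/
noncomputable def ι : SysHom D D.gd where
  app U := CechLib.gdι (D.obj U)
  comm {U V} g := by
    refine Sheaf.hom_ext (NatTrans.ext (funext fun W => ?_))
    ext s
    exact funext fun z => D.σ_germ g z.1 W.unop z.2 s

instance mono_ι_app (U : Over X) : Mono (D.ι.app U) := CechLib.mono_gdι _

/-- The transition maps of the quotient. -/
noncomputable def quotMap {U V : Over X} (g : U ⟶ V) :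
    cokernel (D.ι.app V) ⟶ (pushF g.left).obj (cokernel (D.ι.app U)) :=
  cokernel.desc _ (D.gd.map g ≫ (pushF g.left).map (cokernel.π (D.ι.app U))) (by
    rw [← Category.assoc, D.ι.comm, Category.assoc, ← Functor.map_comp, cokernel.condition,
      Functor.map_zero, comp_zero])

/-- The quotient of discontinuous sections by sections. -/
noncomputable def quot : Sys X where
  obj U := cokernel (D.ι.app U)
  map g := D.quotMap g
  map_id U := by
    rw [← cancel_epi (cokernel.π (D.ι.app U))]
    refine (cokernel.π_desc _ _ _).trans ?_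
    rw [D.gd.map_id]
    refine Sheaf.hom_ext (NatTrans.ext (funext fun W => ?_))
    ext s
    exact (congrArg ((cokernel.π (D.ι.app U)).hom.app (op W.unop)) (idPush_app _ W.unop s)).trans
      (idPush_app _ W.unop _).symm
  map_comp {U V T} g k := by
    rw [← cancel_epi (cokernel.π (D.ι.app T))]
    refine (cokernel.π_desc _ _ _).trans ?_
    rw [D.gd.map_comp, quotMap, cokernel.π_desc_assoc]
    simp only [Category.assoc]
    rw [← Functor.map_comp, quotMap, cokernel.π_desc]
    rw [Functor.map_comp]
    rfl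

/-- The projection to the quotient. -/
noncomputable def π : SysHom D.gd D.quot where
  app U := cokernel.π (D.ι.app U)
  comm _ := cokernel.π_desc _ _ _

theorem shortExact (U : Over X) :
    (ShortComplex.mk (D.ι.app U) (D.π.app U) (cokernel.condition _)).ShortExact :=
  { exact := ShortComplex.exact_of_g_is_cokernel _ (cokernelIsCokernel _)
    mono_f := D.mono_ι_app U
    epi_g := inferInstanceAs (Epi (cokernel.π (D.ι.app U))) }

theorem pre_le {U V : Over X} (g : U ⟶ V) (W : Opens X) :
    (Opens.map U.hom).obj W ≤ (Opens.map g.left).obj ((Opens.map V.hom).obj W) := fun z hz => by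
  change V.hom (g.left z) ∈ W
  rw [show V.hom (g.left z) = U.hom z from ConcreteCategory.congr_hom (Over.w g) z]
  exact hz

/-- The transition maps of the direct images. -/
noncomputable def pushMap {U V : Over X} (g : U ⟶ V) :
    (pushF V.hom).obj (D.obj V) ⟶ (pushF U.hom).obj (D.obj U) :=
  ⟨{ app := fun W => (D.map g).hom.app (op ((Opens.map V.hom).obj W.unop)) ≫
       (D.obj U).obj.map (homOfLE (pre_le g W.unop)).op
     naturality := fun W W' i => by
       ext s
       refine (congrArg ((D.obj U).obj.map _) (NatTrans.naturality_apply (D.map g).hom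
         ((Opens.map V.hom).map i.unop).op s)).trans ?_
       exact ((ConcreteCategory.congr_hom ((D.obj U).obj.map_comp _ _) _).symm).trans
         ((ConcreteCategory.congr_hom (congrArg (D.obj U).obj.map (Subsingleton.elim _ _)) _).trans
           (ConcreteCategory.congr_hom ((D.obj U).obj.map_comp _ _) _)) }⟩

theorem pushMap_app {U V : Over X} (g : U ⟶ V) (W : Opens X)
    (s : (D.obj V).obj.obj (op ((Opens.map V.hom).obj W))) :
    (D.pushMap g).hom.app (op W) s =
      (D.obj U).obj.map (homOfLE (pre_le g W)).op ((D.map g).hom.app (op ((Opens.map V.hom).obj W)) s) := rfl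

/-- The direct images, as a functor of the space. -/
noncomputable def pushFun : (Over X)ᵒᵖ ⥤ QCohLib.AbSh X where
  obj U := (pushF U.unop.hom).obj (D.obj U.unop)
  map g := D.pushMap g.unop
  map_id U := by
    refine Sheaf.hom_ext (NatTrans.ext (funext fun W => ?_))
    ext s
    refine (congrArg ((D.obj U.unop).obj.map _) (D.map_id_app U.unop _ s)).trans ?_
    exact ConcreteCategory.congr_hom ((D.obj U.unop).obj.map_id _) s
  map_comp {U V T} g k := by
    refine Sheaf.hom_ext (NatTrans.ext (funext fun W => ?_))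
    ext s
    refine (congrArg ((D.obj T.unop).obj.map _) (D.map_comp_app k.unop g.unop _ s)).trans ?_
    refine Eq.trans ?_ (congrArg ((D.obj T.unop).obj.map (homOfLE (pre_le k.unop W.unop)).op)
      (NatTrans.naturality_apply (D.map k.unop).hom (homOfLE (pre_le g.unop W.unop)).op _)).symm
    exact ConcreteCategory.congr_hom ((D.obj T.unop).obj.map_comp _ _) _

end Sys

/-- Direct images of maps of systems. -/
noncomputable def pushHom {D E : Sys X} (φ : SysHom D E) : D.pushFun ⟶ E.pushFun where
  app U := (pushF U.unop.hom).map (φ.app U.unop)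
  naturality {U V} g := by
    refine Sheaf.hom_ext (NatTrans.ext (funext fun W => ?_))
    ext s
    refine (NatTrans.naturality_apply (φ.app V.unop).hom (homOfLE (Sys.pre_le g.unop W.unop)).op _).trans ?_
    exact congrArg ((E.obj V.unop).obj.map (homOfLE (Sys.pre_le g.unop W.unop)).op)
      (ConcreteCategory.congr_hom (congrArg (fun ψ => ψ.hom.app (op ((Opens.map U.unop.hom).obj W.unop)))
        (φ.comm g.unop)) s).symm

section Fam

variable (F : QCohLib.AbSh X)

/-- Families of germs on a space over the base. -/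
noncomputable def famPre (U : Over X) : (Opens U.left)ᵒᵖ ⥤ AddCommGrpCat.{u} where
  obj W := AddCommGrpCat.of (∀ z : W.unop, ∀ x : X, PLift (U.hom z.1 = x) → Stk F x)
  map {W W'} i := AddCommGrpCat.ofHom
    (AddMonoidHom.pi fun z : W'.unop =>
      Pi.evalAddMonoidHom (fun y : W.unop => ∀ x : X, PLift (U.hom y.1 = x) → Stk F x)
        (⟨z.1, leOfHom i.unop z.2⟩ : W.unop))

/-- Families of germs, as a sheaf. -/
noncomputable def fam₀ (U : Over X) : QCohLib.AbSh U.left :=
  ⟨famPre F U, (TopCat.Presheaf.isSheaf_iff_isSheaf_comp (CategoryTheory.forget AddCommGrpCat.{u})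
    (famPre F U)).mpr (TopCat.Presheaf.toTypes_isSheaf U.left fun z => ∀ x : X, PLift (U.hom z = x) → Stk F x)⟩

/-- A family given locally by sections downstairs. -/
def IsLoc (U : Over X) (W : Opens U.left) (f : ∀ z : W, ∀ x : X, PLift (U.hom z.1 = x) → Stk F x) : Prop :=
  ∀ z ∈ W, ∃ (A : Opens X) (_ : U.hom z ∈ A) (t : F.obj.obj (op A)) (N : Opens U.left), z ∈ N ∧
    ∀ z' ∈ N, ∀ (hz : z' ∈ W) (x : X) (e : PLift (U.hom z' = x)) (hA : x ∈ A),
      f ⟨z', hz⟩ x e = germ F A x hA t

/-- The condition. -/
noncomputable def famCond (U : Over X) : SubSheaf.Cond (fam₀ F U) where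
  ok W :=
    { carrier := {f | IsLoc F U W f}
      zero_mem' := fun z hz => ⟨⊤, trivial, 0, ⊤, trivial, fun z' _ hz x e hA => (map_zero _).symm⟩
      add_mem' := fun {f g} hf hg z hz => by
        obtain ⟨A, hA, t, N, hN, ht⟩ := hf z hz
        obtain ⟨A', hA', t', N', hN', ht'⟩ := hg z hz
        refine ⟨A ⊓ A', ⟨hA, hA'⟩, F.obj.map (homOfLE (inf_le_left : A ⊓ A' ≤ A)).op t +
          F.obj.map (homOfLE (inf_le_right : A ⊓ A' ≤ A')).op t', N ⊓ N', ⟨hN, hN'⟩, fun z' h1 h2 x e h3 => ?_⟩
        refine Eq.trans ?_ (map_add (TopCat.Presheaf.germ (X := X) F.obj (A ⊓ A') x h3).hom _ _).symm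
        exact congrArg₂ (· + ·)
          ((ht z' h1.1 h2 x e h3.1).trans (germ_rs F (inf_le_left : A ⊓ A' ≤ A) x h3 t).symm)
          ((ht' z' h1.2 h2 x e h3.2).trans (germ_rs F (inf_le_right : A ⊓ A' ≤ A') x h3 t').symm)
      neg_mem' := fun {f} hf z hz => by
        obtain ⟨A, hA, t, N, hN, ht⟩ := hf z hz
        exact ⟨A, hA, -t, N, hN, fun z' h1 h2 x e h3 => (congrArg Neg.neg (ht z' h1 h2 x e h3)).trans
          (map_neg (TopCat.Presheaf.germ (X := X) F.obj A x h3).hom t).symm⟩ }
  res {W W'} h f hf z hz := by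
    obtain ⟨A, hA, t, N, hN, ht⟩ := hf z (h hz)
    exact ⟨A, hA, t, N, hN, fun z' h1 h2 x e h3 => ht z' h1 (h h2) x e h3⟩
  loc W f h z hz := by
    obtain ⟨V, hle, hzV, hf⟩ := h z hz
    obtain ⟨A, hA, t, N, hN, ht⟩ := hf z hzV
    exact ⟨A, hA, t, N ⊓ V, ⟨hN, hzV⟩, fun z' h1 _ x e h3 => ht z' h1.1 h1.2 x e h3⟩

/-- The inverse image, as families of germs. -/
noncomputable abbrev famObj (U : Over X) : QCohLib.AbSh U.left := SubSheaf.sh (famCond F U)

/-- Precomposition. -/
noncomputable def famPull {U V : Over X} (g : U ⟶ V) : fam₀ F V ⟶ (pushF g.left).obj (fam₀ F U) :=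
  ⟨{ app := fun W => AddCommGrpCat.ofHom
      (AddMonoidHom.mk' (fun (f : ∀ v : W.unop, ∀ x : X, PLift (V.hom v.1 = x) → Stk F x) =>
          (fun z x e => f ⟨g.left z.1, z.2⟩ x ⟨(ConcreteCategory.congr_hom (Over.w g) z.1).trans e.down⟩ :
            ∀ z : ((Opens.map g.left).obj W.unop : Opens U.left), ∀ x : X, PLift (U.hom z.1 = x) → Stk F x))
        fun _ _ => rfl)
     naturality := fun _ _ _ => rfl }⟩

theorem isLoc_famPull {U V : Over X} (g : U ⟶ V) (W : Opens V.left) (s : (famObj F V).obj.obj (op W)) :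
    (SubSheaf.incl (famCond F V) ≫ famPull F g).hom.app (op W) s ∈
      (famCond F U).ok ((Opens.map g.left).obj W) := fun z hz => by
  obtain ⟨A, hA, t, N, hN, ht⟩ := (show (famCond F V).ok W from s).2 (g.left z) hz
  exact ⟨A, (show V.hom (g.left z) = U.hom z from ConcreteCategory.congr_hom (Over.w g) z) ▸ hA, t,
    (Opens.map g.left).obj N, hN, fun z' h1 h2 x e h3 => ht (g.left z') h1 h2 x _ h3⟩

/-- The system of inverse images. -/
noncomputable def famSys : Sys X where
  obj U := famObj F U
  map {U V} g :=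
    ⟨{ app := fun W => AddCommGrpCat.ofHom
        ((((SubSheaf.incl (famCond F V) ≫ famPull F g).hom.app W).hom).codRestrict
          ((famCond F U).ok ((Opens.map g.left).obj W.unop)) (isLoc_famPull F g W.unop))
       naturality := fun _ _ _ => rfl }⟩
  map_id U := by
    refine Sheaf.hom_ext (NatTrans.ext (funext fun W => ?_))
    ext s
    exact (idPush_app (famObj F U) W.unop s).symm
  map_comp g k := rfl

/-- The augmentation. -/
noncomputable def famAug (U : Over X) : F ⟶ (pushF U.hom).obj (famObj F U) :=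
  ⟨{ app := fun W => AddCommGrpCat.ofHom
      (AddMonoidHom.mk' (fun t => (⟨fun z x e => germ F W.unop x (e.down ▸ z.2) t,
          fun z hz => ⟨W.unop, hz, t, ⊤, trivial, fun _ _ _ _ _ _ => rfl⟩⟩ :
            (famCond F U).ok ((Opens.map U.hom).obj W.unop)))
        fun a b => Subtype.ext (funext fun z => funext fun x => funext fun e =>
          map_add (TopCat.Presheaf.germ (X := X) F.obj W.unop x _).hom a b))
     naturality := fun W W' i => by
      ext t
      refine Subtype.ext (funext fun z => funext fun x => funext fun e => ?_)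
      exact TopCat.Presheaf.germ_res_apply (X := X) F.obj i.unop x (e.down ▸ z.2) t }⟩

theorem famAug_pushMap {U V : Over X} (g : U ⟶ V) : famAug F V ≫ (famSys F).pushMap g = famAug F U := rfl

/-- The comparison with the inverse image. -/
noncomputable def ofPull (U : Over X) : (CohTop.pull U.hom).obj F ⟶ famObj F U :=
  ((TopCat.Sheaf.pullbackPushforwardAdjunction AddCommGrpCat.{u} U.hom).homEquiv F (famObj F U)).symm (famAug F U)

theorem ofPull_pullSec (U : Over X) (A : Opens X) (t : F.obj.obj (op A)) :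
    (ofPull F U).hom.app (op ((Opens.map U.hom).obj A)) (pullSec U.hom F A t) = (famAug F U).hom.app (op A) t := by
  have h := ((TopCat.Sheaf.pullbackPushforwardAdjunction AddCommGrpCat.{u} U.hom).homEquiv F
    (famObj F U)).apply_symm_apply (famAug F U)
  rw [Adjunction.homEquiv_unit] at h
  exact ConcreteCategory.congr_hom (congrArg (fun ψ => ψ.hom.app (op A)) h) t

theorem bijective_st_ofPull (U : Over X) (z : U.left) : Function.Bijective (st z (ofPull F U)) := by
  have key : ∀ (A : Opens X) (hA : U.hom z ∈ A) (t : F.obj.obj (op A)),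
      st z (ofPull F U) (pullStalk U.hom F z (germ F A (U.hom z) hA t)) =
        germ (famObj F U) ((Opens.map U.hom).obj A) z hA ((famAug F U).hom.app (op A) t) := by
    intro A hA t
    refine (congrArg (st z (ofPull F U)) (pullStalk_germ U.hom F z A hA t)).trans ?_
    refine (st_germ (Z := U.left) z (ofPull F U) _ hA _).trans ?_
    exact congrArg (germ (famObj F U) ((Opens.map U.hom).obj A) z hA) (ofPull_pullSec F U A t)
  constructor
  · rw [injective_iff_map_eq_zero]
    intro a ha
    obtain ⟨b, rfl⟩ := (bijective_pullStalk U.hom F z).2 a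
    obtain ⟨A, hA, t, rfl⟩ := TopCat.Presheaf.exists_germ_eq (X := X) F.obj b
    have hA' : z ∈ (Opens.map U.hom).obj A := hA
    obtain ⟨W, hzW, i, i', e⟩ := TopCat.Presheaf.germ_eq (X := U.left) (famObj F U).obj z hA' hA' _ 0
      (((key A hA t).symm.trans ha).trans (map_zero _).symm)
    rw [map_zero] at e
    have h := congrFun (congrFun (congrFun (congrArg Subtype.val e) ⟨z, hzW⟩) (U.hom z)) ⟨rfl⟩
    exact (congrArg (pullStalk U.hom F z).hom h).trans (map_zero _)
  · intro a
    obtain ⟨W, hzW, f, rfl⟩ := TopCat.Presheaf.exists_germ_eq (X := U.left) (famObj F U).obj a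
    obtain ⟨A, hA, t, N, hN, ht⟩ := (show (famCond F U).ok W from f).2 z hzW
    refine ⟨pullStalk U.hom F z (germ F A (U.hom z) hA t), (key A hA t).trans ?_⟩
    refine TopCat.Presheaf.germ_ext (X := U.left) (famObj F U).obj ((Opens.map U.hom).obj A ⊓ (N ⊓ W))
      ⟨hA, hN, hzW⟩ (homOfLE inf_le_left) (homOfLE (inf_le_right.trans inf_le_right)) ?_
    refine Subtype.ext (funext fun w => funext fun x => funext fun e => ?_)
    exact (ht w.1 w.2.2.1 w.2.2.2 x e (e.down ▸ w.2.1)).symm

/-- Families compute the inverse image. -/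
theorem isIso_ofPull (U : Over X) : IsIso (ofPull F U) := by
  haveI : ∀ z : U.left, IsIso ((TopCat.Presheaf.stalkFunctor AddCommGrpCat.{u} (X := U.left) z).map (ofPull F U).hom) :=
    fun z => (ConcreteCategory.isIso_iff_bijective _).mpr (bijective_st_ofPull F U z)
  exact (TopCat.Presheaf.isIso_iff_stalkFunctor_map_iso
    (F := ((CohTop.pull U.hom).obj F : TopCat.Sheaf AddCommGrpCat U.left))
    (G := (famObj F U : TopCat.Sheaf AddCommGrpCat U.left)) (ofPull F U)).mpr this

end Fam

section Res

variable (F : QCohLib.AbSh X)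

/-- The cosyzygies. -/
noncomputable def syz : ℕ → Sys X
  | 0 => famSys F
  | n + 1 => (syz n).quot

/-- The differentials. -/
noncomputable def dHom (n : ℕ) : SysHom (syz F n).gd (syz F (n + 1)).gd where
  app U := (syz F n).π.app U ≫ (syz F (n + 1)).ι.app U
  comm {U V} g := by
    rw [Category.assoc]
    refine (congrArg (_ ≫ ·) ((syz F (n + 1)).ι.comm g)).trans ?_
    refine ((Category.assoc _ _ _).symm.trans (congrArg (· ≫ _) ((syz F n).π.comm g))).trans ?_
    rw [Category.assoc, ← Functor.map_comp]

theorem dHom_comp (n : ℕ) (U : Over X) : (dHom F n).app U ≫ (dHom F (n + 1)).app U = 0 := by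
  change ((syz F n).π.app U ≫ (syz F (n + 1)).ι.app U) ≫ (syz F (n + 1)).π.app U ≫ _ = 0
  rw [Category.assoc, ← Category.assoc ((syz F (n + 1)).ι.app U)]
  erw [cokernel.condition]
  rw [zero_comp, comp_zero]

/-- The resolution on one space. -/
noncomputable def res (U : Over X) : CochainComplex (QCohLib.AbSh U.left) ℕ :=
  CochainComplex.of (fun n => (syz F n).gd.obj U) (fun n => (dHom F n).app U) (fun n => dHom_comp F n U)

theorem res_d (U : Over X) (n : ℕ) : (res F U).d n (n + 1) = (dHom F n).app U :=
  CochainComplex.of_d (fun n => (syz F n).gd.obj U) (fun n => (dHom F n).app U) n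

theorem ι_d (U : Over X) : (syz F 0).ι.app U ≫ (res F U).d 0 1 = 0 := by
  rw [res_d]
  change (syz F 0).ι.app U ≫ (syz F 0).π.app U ≫ _ = 0
  rw [← Category.assoc]
  erw [cokernel.condition]
  rw [zero_comp]

/-- The augmentation of the resolution. -/
noncomputable def resAug (U : Over X) :
    (CochainComplex.single₀ (QCohLib.AbSh U.left)).obj (famObj F U) ⟶ res F U :=
  (CochainComplex.fromSingle₀Equiv _ _).symm ⟨(syz F 0).ι.app U, ι_d F U⟩

theorem quasiIso_resAug (U : Over X) : QuasiIso (resAug F U) := by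
  have hex : ∀ n, (ShortComplex.mk ((syz F n).ι.app U) ((dHom F n).app U) (by
      change _ ≫ (syz F n).π.app U ≫ _ = 0
      rw [← Category.assoc]
      erw [cokernel.condition]
      rw [zero_comp])).Exact := fun n => by
    let S₁ := ShortComplex.mk ((syz F n).ι.app U) ((syz F n).π.app U) (cokernel.condition _)
    let S₂ := ShortComplex.mk ((syz F n).ι.app U) ((dHom F n).app U) (by
      change _ ≫ (syz F n).π.app U ≫ _ = 0
      rw [← Category.assoc]
      erw [cokernel.condition]
      rw [zero_comp])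
    let φ : S₁ ⟶ S₂ :=
      { τ₁ := 𝟙 _, τ₂ := 𝟙 _, τ₃ := (syz F (n + 1)).ι.app U
        comm₁₂ := (Category.id_comp _).trans (Category.comp_id _).symm
        comm₂₃ := Category.id_comp _ }
    haveI : Epi φ.τ₁ := inferInstanceAs (Epi (𝟙 _))
    haveI : IsIso φ.τ₂ := inferInstanceAs (IsIso (𝟙 _))
    haveI : Mono φ.τ₃ := (syz F (n + 1)).mono_ι_app U
    exact (ShortComplex.exact_iff_of_epi_of_isIso_of_mono φ).1 ((syz F n).shortExact U).exact
  refine ⟨fun n => ?_⟩
  cases n with
  | zero =>
    rw [CochainComplex.quasiIsoAt₀_iff,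
      ShortComplex.quasiIso_iff_of_zeros _ rfl rfl ((res F U).shape 0 0 (Nat.succ_ne_zero 0))]
    have e : (resAug F U).f 0 = (syz F 0).ι.app U := CochainComplex.fromSingle₀Equiv_symm_apply_f_zero _ _
    refine ⟨ShortComplex.exact_of_iso (ShortComplex.isoMk (Iso.refl _) (Iso.refl _) (Iso.refl _) ?_ ?_) (hex 0),
      show Mono ((resAug F U).f 0) from e.symm ▸ (syz F 0).mono_ι_app U⟩
    · exact (Category.id_comp _).trans (e.trans (Category.comp_id _).symm)
    · exact (Category.id_comp _).trans ((res_d F U 0).trans (Category.comp_id _).symm)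
  | succ n =>
    rw [quasiIsoAt_iff_exactAt _ _ (CochainComplex.exactAt_succ_single_obj (famObj F U) n),
      HomologicalComplex.exactAt_iff' _ n (n + 1) (n + 2) (by simp) (by simp)]
    let S₂ := ShortComplex.mk ((syz F (n + 1)).ι.app U) ((dHom F (n + 1)).app U) (by
      change _ ≫ (syz F (n + 1)).π.app U ≫ _ = 0
      rw [← Category.assoc]
      erw [cokernel.condition]
      rw [zero_comp])
    let φ : (res F U).sc' n (n + 1) (n + 2) ⟶ S₂ :=
      { τ₁ := (syz F n).π.app U, τ₂ := 𝟙 _, τ₃ := 𝟙 _
        comm₁₂ := ((res_d F U n).trans (rfl : _ = (syz F n).π.app U ≫ (syz F (n + 1)).ι.app U)).symm.trans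
          (Category.comp_id _).symm
        comm₂₃ := (Category.id_comp _).trans ((res_d F U (n + 1)).symm.trans (Category.comp_id _).symm) }
    haveI : Epi φ.τ₁ := ((syz F n).shortExact U).epi_g
    haveI : IsIso φ.τ₂ := inferInstanceAs (IsIso (𝟙 _))
    haveI : Mono φ.τ₃ := inferInstanceAs (Mono (𝟙 _))
    exact (ShortComplex.exact_iff_of_epi_of_isIso_of_mono φ).2 (hex (n + 1))

theorem isFlasque_res (U : Over X) (n : ℕ) :
    TopCat.Sheaf.IsFlasque ((res F U).X n : TopCat.Sheaf AddCommGrpCat U.left) :=
  CechLib.isFlasque_gd.{u} ((syz F n).obj U)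

/-- The direct images of the resolutions, as a functor of the space. -/
noncomputable def Φ : (Over X)ᵒᵖ ⥤ CochainComplex (QCohLib.AbSh X) ℕ where
  obj U := CochainComplex.of (fun n => (syz F n).gd.pushFun.obj U) (fun n => (pushHom (dHom F n)).app U)
    (fun n => ((pushF U.unop.hom).map_comp _ _).symm.trans
      ((congrArg (pushF U.unop.hom).map (dHom_comp F n U.unop)).trans ((pushF U.unop.hom).map_zero _ _)))
  map {U V} g := CochainComplex.ofHom (fun n => (syz F n).gd.pushFun.map g) fun n => by
    refine (congrArg (_ ≫ ·) (CochainComplex.of_d (fun n => (syz F n).gd.pushFun.obj V)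
      (fun n => (pushHom (dHom F n)).app V) n)).trans (Eq.trans ?_ (congrArg (· ≫ _)
      (CochainComplex.of_d (fun n => (syz F n).gd.pushFun.obj U) (fun n => (pushHom (dHom F n)).app U) n)).symm)
    exact (pushHom (dHom F n)).naturality g
  map_id U := HomologicalComplex.hom_ext _ _ fun n => (syz F n).gd.pushFun.map_id U
  map_comp g k := HomologicalComplex.hom_ext _ _ fun n => (syz F n).gd.pushFun.map_comp g k

/-- The augmentation in degree zero. -/
noncomputable def Φaug (U : (Over X)ᵒᵖ) : F ⟶ ((Φ F).obj U).X 0 :=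
  famAug F U.unop ≫ (pushF U.unop.hom).map ((syz F 0).ι.app U.unop)

theorem Φaug_d (U : (Over X)ᵒᵖ) : Φaug F U ≫ ((Φ F).obj U).d 0 1 = 0 := by
  refine (congrArg (Φaug F U ≫ ·) (CochainComplex.of_d (fun n => (syz F n).gd.pushFun.obj U)
    (fun n => (pushHom (dHom F n)).app U) 0)).trans ?_
  refine (Category.assoc _ _ _).trans ?_
  refine (congrArg (famAug F U.unop ≫ ·) (((pushF U.unop.hom).map_comp _ _).symm.trans
    ((congrArg (pushF U.unop.hom).map ?_).trans ((pushF U.unop.hom).map_zero _ _)))).trans comp_zero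
  change (syz F 0).ι.app U.unop ≫ (syz F 0).π.app U.unop ≫ _ = 0
  rw [← Category.assoc]
  erw [cokernel.condition]
  rw [zero_comp]

theorem Φaug_naturality {U V : (Over X)ᵒᵖ} (g : U ⟶ V) : Φaug F U ≫ ((Φ F).map g).f 0 = Φaug F V := by
  change (famAug F U.unop ≫ (pushHom (syz F 0).ι).app U) ≫ (syz F 0).gd.pushFun.map g = _
  rw [Category.assoc, ← (pushHom (syz F 0).ι).naturality g, ← Category.assoc]
  exact congrArg (· ≫ (pushHom (syz F 0).ι).app V) (famAug_pushMap F g.unop)

/-- The complex on one space is the direct image of the resolution. -/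
noncomputable def ΦIso (U : (Over X)ᵒᵖ) :
    (Φ F).obj U ≅ ((pushF U.unop.hom).mapHomologicalComplex (ComplexShape.up ℕ)).obj (res F U.unop) :=
  HomologicalComplex.Hom.isoOfComponents (fun _ => Iso.refl _) fun i j hij => by
    obtain rfl : i + 1 = j := hij
    refine (Category.id_comp _).trans (Eq.trans ?_ (Category.comp_id _).symm)
    exact (congrArg (pushF U.unop.hom).map (res_d F U.unop i)).trans
      (CochainComplex.of_d (fun n => (syz F n).gd.pushFun.obj U) (fun n => (pushHom (dHom F n)).app U) i).symm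

end Res

end CohTopLib.GodSys
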