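import Groth.Agent.QCohLib.AbPush
import Groth.Agent.CechLib.Cartan
import Mathlib.Topology.Sheaves.SheafCondition.UniqueGluing
import Mathlib.Topology.LocallyConstant.Basic
import Mathlib.Data.Nat.Factorization.Basic
import Mathlib.RingTheory.Int.Basic
import Mathlib.GroupTheory.Archimedean

/-!
# Subsheaves of the constant sheaf `ℤ` cut out by pointwise subgroups
-/

set_option linter.unusedSectionVars false
set_option linter.style.haveILetI false
set_option backward.isDefEq.respectTransparency false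

universe u
open CategoryTheory CategoryTheory.Limits TopologicalSpace Opposite
open Filter Topology

namespace CohTopLib.LocConstSub

variable {X : TopCat.{u}}

/-- Locally constant integer functions with values in given subgroups. -/
def sec (S : X → AddSubgroup ℤ) (U : Opens X) : AddSubgroup (U → ℤ) where
  carrier := {f | IsLocallyConstant f ∧ ∀ x : U, f x ∈ S x.1}
  zero_mem' := ⟨IsLocallyConstant.const 0, fun x => (S x.1).zero_mem⟩
  add_mem' hf hg := ⟨hf.1.add hg.1, fun x => (S x.1).add_mem (hf.2 x) (hg.2 x)⟩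
  neg_mem' hf := ⟨hf.1.neg, fun x => (S x.1).neg_mem (hf.2 x)⟩

/-- Restriction. -/
def secRes (S : X → AddSubgroup ℤ) {U V : Opens X} (h : V ≤ U) : sec S U →+ sec S V where
  toFun f := ⟨fun x => f.1 ⟨x.1, h x.2⟩, f.2.1.comp_continuous (Opens.isOpenEmbedding_of_le h).continuous,
    fun x => f.2.2 ⟨x.1, h x.2⟩⟩
  map_zero' := rfl
  map_add' _ _ := rfl

/-- The presheaf. -/
noncomputable def pre (S : X → AddSubgroup ℤ) : TopCat.Presheaf AddCommGrpCat.{u} X where
  obj U := AddCommGrpCat.of (sec S U.unop)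
  map i := AddCommGrpCat.ofHom (secRes S (leOfHom i.unop))

theorem pre_isSheaf (S : X → AddSubgroup ℤ) : (pre S).IsSheaf := by
  rw [TopCat.Presheaf.isSheaf_iff_isSheafUniqueGluing]
  intro ι U sf hsf
  have heq : ∀ (i j : ι) (x : X) (hi : x ∈ U i) (hj : x ∈ U j),
      (show sec S (U i) from sf i).1 ⟨x, hi⟩ = (show sec S (U j) from sf j).1 ⟨x, hj⟩ := fun i j x hi hj =>
    congrFun (congrArg Subtype.val (hsf i j)) ⟨x, hi, hj⟩
  have hmem : ∀ x : (iSup U : Opens X), ∃ i, x.1 ∈ U i := fun x => Opens.mem_iSup.mp x.2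
  choose k hk using hmem
  let f : ↥(iSup U : Opens X) → ℤ := fun x => (show sec S (U (k x)) from sf (k x)).1 ⟨x.1, hk x⟩
  have hf : IsLocallyConstant f := by
    refine (IsLocallyConstant.iff_eventually_eq f).mpr fun x => ?_
    have h1 := ((IsLocallyConstant.iff_eventually_eq _).mp
      (show sec S (U (k x)) from sf (k x)).2.1) ⟨x.1, hk x⟩
    rw [nhds_subtype_eq_comap, eventually_comap] at h1
    have h2 : ∀ᶠ y in 𝓝 x.1, y ∈ U (k x) := (U (k x)).isOpen.mem_nhds (hk x)
    rw [nhds_subtype_eq_comap, eventually_comap]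
    filter_upwards [h1, h2] with y hy hy2 z hz
    subst hz
    exact (heq (k z) (k x) z.1 (hk z) hy2).trans (hy ⟨z.1, hy2⟩ rfl)
  refine ⟨⟨f, hf, fun x => (show sec S (U (k x)) from sf (k x)).2.2 ⟨x.1, hk x⟩⟩, fun i => ?_, fun g hg => ?_⟩
  · exact Subtype.ext (funext fun x => heq (k _) i x.1 (hk _) x.2)
  · refine Subtype.ext (funext fun x => ?_)
    exact congrFun (congrArg Subtype.val (hg (k x))) ⟨x.1, hk x⟩

/-- The subsheaf of the constant sheaf. -/
noncomputable def L (S : X → AddSubgroup ℤ) : QCohLib.AbSh X := ⟨pre S, pre_isSheaf S⟩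

/-- Inclusions. -/
noncomputable def incl {S T : X → AddSubgroup ℤ} (h : S ≤ T) : L S ⟶ L T :=
  ⟨{ app := fun U => AddCommGrpCat.ofHom
      (AddSubgroup.inclusion (fun _ hf => ⟨hf.1, fun x => h x.1 (hf.2 x)⟩ : sec S U.unop ≤ sec T U.unop))
     naturality := fun _ _ _ => rfl }⟩

theorem incl_injective {S T : X → AddSubgroup ℤ} (h : S ≤ T) (U : Opens X) :
    Function.Injective ((incl h).hom.app (op U)) :=
  fun (a b : sec S U) hab => Subtype.ext (congrArg (fun w : sec T U => w.1) hab)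

theorem mono_incl {S T : X → AddSubgroup ℤ} (h : S ≤ T) : Mono (incl h) := by
  have : ∀ U, Mono ((incl h).hom.app U) := fun U =>
    (AddCommGrpCat.mono_iff_injective _).mpr (incl_injective h U.unop)
  have : Mono ((sheafToPresheaf _ _).map (incl h)) := NatTrans.mono_of_mono_app (incl h).hom
  exact (sheafToPresheaf _ _).mono_of_mono_map this

/-- Subgroups that only grow nearby. -/
def IsOpenFam (S : X → AddSubgroup ℤ) : Prop :=
  ∀ (n : ℤ) (x : X), n ∈ S x → ∀ᶠ y in 𝓝 x, n ∈ S y

theorem IsOpenFam.sup {S T : X → AddSubgroup ℤ} (hS : IsOpenFam S) (hT : IsOpenFam T) :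
    IsOpenFam (S ⊔ T) := by
  intro n x hn
  rw [Pi.sup_apply, AddSubgroup.mem_sup] at hn
  obtain ⟨a, ha, b, hb, rfl⟩ := hn
  filter_upwards [hS a x ha, hT b x hb] with y ha hb
  exact AddSubgroup.mem_sup.mpr ⟨a, ha, b, hb, rfl⟩

theorem isOpenFam_bot : IsOpenFam (⊥ : X → AddSubgroup ℤ) := fun n x hn =>
  Filter.Eventually.of_forall fun _ => hn

/-- Near a point a section is a given constant. -/
theorem exists_const {S : X → AddSubgroup ℤ} {U : Opens X} (f : sec S U) {x : X} (hx : x ∈ U) :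
    ∀ᶠ y in 𝓝 x, ∃ hy : y ∈ U, f.1 ⟨y, hy⟩ = f.1 ⟨x, hx⟩ := by
  have h1 := ((IsLocallyConstant.iff_eventually_eq _).mp f.2.1) ⟨x, hx⟩
  rw [nhds_subtype_eq_comap, eventually_comap] at h1
  filter_upwards [h1, U.isOpen.mem_nhds hx] with y hy hyU
  exact ⟨hyU, hy ⟨y, hyU⟩ rfl⟩

/-- An open neighbourhood from an eventual property. -/
theorem exists_opens {x : X} {p : X → Prop} (h : ∀ᶠ y in 𝓝 x, p y) :
    ∃ W : Opens X, x ∈ W ∧ ∀ y ∈ W, p y := by
  obtain ⟨s, hs, hso, hx⟩ := eventually_nhds_iff.mp h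
  exact ⟨⟨s, hso⟩, hx, hs⟩

/-- A constant section. -/
def const (S : X → AddSubgroup ℤ) (U : Opens X) (n : ℤ) (h : ∀ x ∈ U, n ∈ S x) : sec S U :=
  ⟨fun _ => n, IsLocallyConstant.const n, fun x => h x.1 x.2⟩

/-- The family of one multiple of an open. -/
noncomputable def single (n : ℤ) (V : Opens X) : X → AddSubgroup ℤ := fun x =>
  haveI := Classical.dec (x ∈ V)
  if x ∈ V then AddSubgroup.zmultiples n else ⊥

theorem single_of_mem {n : ℤ} {V : Opens X} {x : X} (h : x ∈ V) :
    single n V x = AddSubgroup.zmultiples n := if_pos h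

theorem single_of_not_mem {n : ℤ} {V : Opens X} {x : X} (h : x ∉ V) : single n V x = ⊥ := if_neg h

theorem isOpenFam_single (n : ℤ) (V : Opens X) : IsOpenFam (single n V) := by
  intro k x hk
  by_cases hx : x ∈ V
  · rw [single_of_mem hx] at hk
    filter_upwards [V.isOpen.mem_nhds hx] with y hy
    rwa [single_of_mem hy]
  · rw [single_of_not_mem hx, AddSubgroup.mem_bot] at hk
    subst hk
    exact Filter.Eventually.of_forall fun y => zero_mem _

theorem single_zero (V : Opens X) : single 0 V = ⊥ := by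
  funext x
  by_cases hx : x ∈ V
  · rw [single_of_mem hx, AddSubgroup.zmultiples_zero_eq_bot]; rfl
  · rw [single_of_not_mem hx]; rfl

theorem isZero_L_bot : IsZero (L (⊥ : X → AddSubgroup ℤ)) := by
  rw [IsZero.iff_id_eq_zero]
  apply Sheaf.hom_ext
  ext U f
  exact Subtype.ext (funext fun x => AddSubgroup.mem_bot.mp ((show sec ⊥ U.unop from f).2.2 x))

/-- The map from the free presheaf. -/
noncomputable def singlePre (n : ℤ) (V : Opens X) :
    (yoneda.obj V ⋙ AddCommGrpCat.free : (Opens X)ᵒᵖ ⥤ _) ⟶ (L (single n V)).obj :=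
  QCohLib.liftPre (L (single n V)).obj (const (single n V) V n fun x hx => by
    rw [single_of_mem hx]; exact AddSubgroup.mem_zmultiples n)

theorem singlePre_smul (n : ℤ) (V : Opens X) {W : Opens X} (i : W ⟶ V) (k : ℤ) (y : W) :
    (show sec (single n V) W from (singlePre n V).app (op W) (k • FreeAbelianGroup.of i)).1 y = k * n := by
  have h : (singlePre n V).app (op W) (FreeAbelianGroup.of i) =
      (L (single n V)).obj.map i.op (const (single n V) V n fun x hx => by
        rw [single_of_mem hx]; exact AddSubgroup.mem_zmultiples n) := FreeAbelianGroup.lift_apply_of _ i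
  rw [show (singlePre n V).app (op W) (k • FreeAbelianGroup.of i) =
    k • (singlePre n V).app (op W) (FreeAbelianGroup.of i) from map_zsmul _ _ _, h]
  exact smul_eq_mul k n

theorem free_eq_zero {V W : Opens X} (h : IsEmpty (W ⟶ V)) (z : FreeAbelianGroup (W ⟶ V)) : z = 0 := by
  induction z using FreeAbelianGroup.induction_on with
  | zero => rfl
  | of i => exact h.elim i
  | neg i hi => rw [hi, neg_zero]
  | add a b ha hb => rw [ha, hb, add_zero]

theorem free_eq_smul {V W : Opens X} (i : W ⟶ V) (z : FreeAbelianGroup (W ⟶ V)) :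
    ∃ k : ℤ, z = k • FreeAbelianGroup.of i := by
  induction z using FreeAbelianGroup.induction_on with
  | zero => exact ⟨0, (zero_smul ℤ _).symm⟩
  | of j => exact ⟨1, by rw [one_smul, Subsingleton.elim j i]⟩
  | neg j hj => obtain ⟨k, hk⟩ := hj; exact ⟨-k, by rw [hk, neg_smul]⟩
  | add a b ha hb => obtain ⟨k, hk⟩ := ha; obtain ⟨l, hl⟩ := hb; exact ⟨k + l, by rw [hk, hl, add_smul]⟩

/-- A nonzero multiple of an open is the free sheaf. -/
noncomputable def singleMap (n : ℤ) (V : Opens X) : QCohLib.zsh V ⟶ L (single n V) :=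
  (presheafToSheaf _ _).map (singlePre n V) ≫
    (sheafificationAdjunction (Opens.grothendieckTopology X) AddCommGrpCat.{u}).counit.app (L (single n V))

theorem isIso_singleMap {n : ℤ} (hn : n ≠ 0) (V : Opens X) : IsIso (singleMap n V) := by
  have : IsIso ((presheafToSheaf (Opens.grothendieckTopology X) AddCommGrpCat.{u}).map (singlePre n V)) := by
    rw [← GrothendieckTopology.W_iff, GrothendieckTopology.W_iff_isLocallyBijective]
    refine ⟨⟨fun {W} z z' h => ?_⟩, ⟨fun {W} f => ?_⟩⟩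
    · intro x hx
      refine ⟨W.unop, 𝟙 _, ?_, hx⟩
      change (yoneda.obj V ⋙ AddCommGrpCat.free).map (𝟙 _) z = (yoneda.obj V ⋙ AddCommGrpCat.free).map (𝟙 _) z'
      refine congrArg _ ?_
      have h0 : (singlePre n V).app W (z - z') = 0 := by rw [map_sub, h, sub_self]
      rw [← sub_eq_zero]
      rcases isEmpty_or_nonempty (W.unop ⟶ V) with he | ⟨⟨i⟩⟩
      · exact free_eq_zero he _
      · obtain ⟨k, hk⟩ := free_eq_smul i (show FreeAbelianGroup (W.unop ⟶ V) from z - z')
        have h2 := singlePre_smul n V i k ⟨x, hx⟩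
        have h3 : (show sec (single n V) W.unop from (singlePre n V).app W (z - z')).1 ⟨x, hx⟩ = k * n := by
          rw [show z - z' = k • FreeAbelianGroup.of i from hk]; exact h2
        rw [h0] at h3
        obtain rfl : k = 0 := (mul_eq_zero.mp h3.symm).resolve_right hn
        exact hk.trans (zero_smul ℤ _)
    · intro x hx
      obtain ⟨W', hxW', hW'⟩ := exists_opens (exists_const (show sec (single n V) W from f) hx)
      have hle : W' ≤ W := fun y hy => (hW' y hy).1
      have hv := (show sec (single n V) W from f).2.2 ⟨x, hx⟩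
      by_cases hxV : x ∈ V
      · rw [single_of_mem hxV, AddSubgroup.mem_zmultiples_iff] at hv
        obtain ⟨k, hk⟩ := hv
        let i : W' ⊓ V ⟶ V := homOfLE inf_le_right
        refine ⟨W' ⊓ V, homOfLE (inf_le_left.trans hle), ⟨k • FreeAbelianGroup.of i, ?_⟩, hxW', hxV⟩
        refine Subtype.ext (funext fun y => ?_)
        refine (singlePre_smul n V i k y).trans ?_
        exact ((hW' y.1 y.2.1).2.trans (hk.symm.trans (smul_eq_mul k n))).symm
      · rw [single_of_not_mem hxV, AddSubgroup.mem_bot] at hv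
        refine ⟨W', homOfLE hle, ⟨0, (map_zero _).trans (Subtype.ext (funext fun y => ?_))⟩, hxW'⟩
        exact ((hW' y.1 y.2).2.trans hv).symm
  unfold singleMap
  infer_instance

theorem lcm_gcd_distrib (a b c : ℕ) : Nat.lcm a (Nat.gcd b c) = Nat.gcd (Nat.lcm a b) (Nat.lcm a c) := by
  rcases Nat.eq_zero_or_pos a with ha | ha
  · subst ha; simp
  rcases Nat.eq_zero_or_pos b with hb | hb
  · subst hb; simp
  rcases Nat.eq_zero_or_pos c with hc | hc
  · subst hc; simp
  have hbc : Nat.gcd b c ≠ 0 := (Nat.gcd_pos_of_pos_left c hb).ne'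
  have hab : Nat.lcm a b ≠ 0 := Nat.lcm_ne_zero ha.ne' hb.ne'
  have hac : Nat.lcm a c ≠ 0 := Nat.lcm_ne_zero ha.ne' hc.ne'
  refine Nat.eq_of_factorization_eq (Nat.lcm_ne_zero ha.ne' hbc) (Nat.gcd_ne_zero_left hab) fun p => ?_
  rw [Nat.factorization_lcm ha.ne' hbc, Nat.factorization_gcd hb.ne' hc.ne', Nat.factorization_gcd hab hac,
    Nat.factorization_lcm ha.ne' hb.ne', Nat.factorization_lcm ha.ne' hc.ne']
  simp only [Finsupp.sup_apply, Finsupp.inf_apply]
  exact max_min_distrib_left _ _ _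

theorem exists_zmultiples (H : AddSubgroup ℤ) : ∃ a : ℕ, H = AddSubgroup.zmultiples (a : ℤ) := by
  obtain ⟨a, rfl⟩ := Int.subgroup_cyclic H
  refine ⟨a.natAbs, ?_⟩
  rw [← AddSubgroup.zmultiples_eq_closure]
  rcases Int.natAbs_eq a with h | h <;> conv_lhs => rw [h]
  exact AddSubgroup.zmultiples_neg

theorem zmultiples_inf (a b : ℕ) : AddSubgroup.zmultiples (a : ℤ) ⊓ AddSubgroup.zmultiples (b : ℤ) =
    AddSubgroup.zmultiples (Nat.lcm a b : ℤ) := by
  ext x
  simp only [AddSubgroup.mem_inf, Int.mem_zmultiples_iff, Int.natCast_dvd]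
  exact Nat.lcm_dvd_iff.symm

theorem zmultiples_sup (a b : ℕ) : AddSubgroup.zmultiples (a : ℤ) ⊔ AddSubgroup.zmultiples (b : ℤ) =
    AddSubgroup.zmultiples (Nat.gcd a b : ℤ) := by
  refine le_antisymm (sup_le ?_ ?_) ?_
  · rw [AddSubgroup.zmultiples_le, Int.mem_zmultiples_iff]; exact Int.natCast_dvd_natCast.mpr (Nat.gcd_dvd_left a b)
  · rw [AddSubgroup.zmultiples_le, Int.mem_zmultiples_iff]; exact Int.natCast_dvd_natCast.mpr (Nat.gcd_dvd_right a b)
  · rw [AddSubgroup.zmultiples_le, AddSubgroup.mem_sup]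
    refine ⟨a * Nat.gcdA a b, ?_, b * Nat.gcdB a b, ?_, (Nat.gcd_eq_gcd_ab a b).symm⟩ <;>
      rw [Int.mem_zmultiples_iff] <;> exact dvd_mul_right _ _

/-- Subgroups of `ℤ` form a distributive lattice. -/
theorem inf_sup_subgroup (A B C : AddSubgroup ℤ) : A ⊓ (B ⊔ C) = (A ⊓ B) ⊔ (A ⊓ C) := by
  obtain ⟨a, rfl⟩ := exists_zmultiples A
  obtain ⟨b, rfl⟩ := exists_zmultiples B
  obtain ⟨c, rfl⟩ := exists_zmultiples C
  rw [zmultiples_sup, zmultiples_inf, zmultiples_inf, zmultiples_inf, zmultiples_sup, lcm_gcd_distrib]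

theorem single_inf (n m : ℤ) (V W : Opens X) :
    single n V ⊓ single m W = single ((Nat.lcm n.natAbs m.natAbs : ℕ) : ℤ) (V ⊓ W) := by
  funext x
  rw [Pi.inf_apply]
  by_cases hV : x ∈ V
  · by_cases hW : x ∈ W
    · rw [single_of_mem hV, single_of_mem hW, single_of_mem (show x ∈ V ⊓ W from ⟨hV, hW⟩),
        ← Int.zmultiples_natAbs n, ← Int.zmultiples_natAbs m, zmultiples_inf]
    · rw [single_of_not_mem hW, single_of_not_mem (fun h : x ∈ V ⊓ W => hW h.2), inf_bot_eq]
  · rw [single_of_not_mem hV, single_of_not_mem (fun h : x ∈ V ⊓ W => hV h.1), bot_inf_eq]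

end CohTopLib.LocConstSub
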