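import Mathlib
import Groth.Prelude.Def_CohCx

/-!
# Cohomology of a termwise limit of an inverse system of complexes of abelian groups
-/

set_option linter.unusedSectionVars false
set_option linter.style.haveILetI false
set_option backward.isDefEq.respectTransparency false

universe u

open CategoryTheory Limits HomologicalComplex
open Opposite (op unop)

namespace Groth.Agent.CohTopLib.MilnorCx

abbrev Cx : Type (u + 1) := CochainComplex AddCommGrpCat.{u} ℤ

/-- The element `x` is a cycle representing the class `h`. -/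
def Rep (K : Cx.{u}) (j : ℤ) (x : K.X j) (h : K.homology j) : Prop :=
  ∃ z : K.cycles j, K.iCycles j z = x ∧ K.homologyπ j z = h

variable {K K' : Cx.{u}} {j : ℤ}

theorem d_d_apply (i i' j' : ℤ) (y : K.X i) : K.d i' j' (K.d i i' y) = 0 :=
  (ConcreteCategory.congr_hom (K.d_comp_d i i' j') y).trans rfl

theorem exists_cycle (x : K.X j) (hx : K.d j (j + 1) x = 0) : ∃ z : K.cycles j, K.iCycles j z = x :=
  (ShortComplex.ab_exact_iff _).1
    (ShortComplex.exact_of_f_is_kernel (ShortComplex.mk _ _ (K.iCycles_d j (j + 1)))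
      (K.cyclesIsKernel j (j + 1) (by simp))) x hx

theorem iCycles_inj : Function.Injective (K.iCycles j) :=
  (AddCommGrpCat.mono_iff_injective _).1 inferInstance

theorem homologyπ_surj : Function.Surjective (K.homologyπ j) :=
  (AddCommGrpCat.epi_iff_surjective _).1 inferInstance

theorem exists_rep (h : K.homology j) : ∃ x : K.X j, K.d j (j + 1) x = 0 ∧ Rep K j x h := by
  obtain ⟨z, rfl⟩ := homologyπ_surj h
  exact ⟨_, (ConcreteCategory.congr_hom (K.iCycles_d j (j + 1)) z).trans rfl, z, rfl, rfl⟩

theorem exists_class (x : K.X j) (hx : K.d j (j + 1) x = 0) : ∃ h, Rep K j x h :=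
  let ⟨z, hz⟩ := exists_cycle x hx
  ⟨_, z, hz, rfl⟩

theorem Rep.sub {x x' : K.X j} {h h'} (r : Rep K j x h) (r' : Rep K j x' h') :
    Rep K j (x - x') (h - h') := by
  obtain ⟨z, hz, hh⟩ := r
  obtain ⟨z', hz', hh'⟩ := r'
  exact ⟨z - z', by rw [map_sub, hz, hz'], by rw [map_sub, hh, hh']⟩

theorem Rep.map {x : K.X j} {h} (r : Rep K j x h) (φ : K ⟶ K') :
    Rep K' j (φ.f j x) (homologyMap φ j h) := by
  obtain ⟨z, hz, hh⟩ := r
  refine ⟨cyclesMap φ j z, ?_, ?_⟩
  · rw [← hz]
    exact ConcreteCategory.congr_hom (cyclesMap_i φ j) z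
  · rw [← hh]
    exact (ConcreteCategory.congr_hom (homologyπ_naturality φ j) z).symm

theorem Rep.unique {x : K.X j} {h h'} (r : Rep K j x h) (r' : Rep K j x h') : h = h' := by
  obtain ⟨z, hz, rfl⟩ := r
  obtain ⟨z', hz', rfl⟩ := r'
  rw [iCycles_inj (hz.trans hz'.symm)]

theorem Rep.eq_zero_iff (i : ℤ) (hi : i + 1 = j) {x : K.X j} {h} (r : Rep K j x h) :
    h = 0 ↔ ∃ y, K.d i j y = x := by
  subst hi
  obtain ⟨z, hz, rfl⟩ := r
  constructor
  · intro h
    obtain ⟨y, hy⟩ := (ShortComplex.ab_exact_iff _).1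
      (ShortComplex.exact_of_g_is_cokernel (ShortComplex.mk _ _ (K.toCycles_comp_homologyπ i (i + 1)))
        (K.homologyIsCokernel i (i + 1) (by simp))) z h
    exact ⟨y, (ConcreteCategory.congr_hom (K.toCycles_i i (i + 1)) y).symm.trans
      ((congrArg (K.iCycles _) hy).trans hz)⟩
  · rintro ⟨y, hy⟩
    have : K.toCycles i (i + 1) y = z := iCycles_inj
      (((ConcreteCategory.congr_hom (K.toCycles_i i (i + 1)) y).trans hy).trans hz.symm)
    rw [← this]
    exact ConcreteCategory.congr_hom (K.toCycles_comp_homologyπ i (i + 1)) y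

theorem Rep.d_cycle {x : K.X j} {h} (r : Rep K j x h) : K.d j (j + 1) x = 0 := by
  obtain ⟨z, hz, -⟩ := r
  rw [← hz]
  exact (ConcreteCategory.congr_hom (K.iCycles_d j (j + 1)) z).trans rfl

section Tower

variable (A : ℕ → Cx.{u}) (t : ∀ n, A (n + 1) ⟶ A n)

theorem map_transition (n k : ℕ) :
    (CohCx.opSequence A t).map (homOfLE (Nat.le_add_right n k)).op = CohCx.transition A t n k := by
  induction k with
  | zero => exact (CategoryTheory.Functor.map_id _ _).trans rfl
  | succ k ih =>
    have : (homOfLE (Nat.le_add_right n (k + 1))).op =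
        (homOfLE (Nat.le_succ (n + k))).op ≫ (homOfLE (Nat.le_add_right n k)).op := rfl
    rw [this, CategoryTheory.Functor.map_comp, Functor.ofOpSequence_map_homOfLE_succ, ih]
    rfl

/-- Cohomology of the termwise limit of a tower of complexes of abelian groups. -/
theorem isIso_homologyMap_of_milnor {L : Cx.{u}} (P : ∀ n, L ⟶ A n) (hP : ∀ n, P (n + 1) ≫ t n = P n)
    (hext : ∀ (j : ℤ) (s s' : L.X j), (∀ n, (P n).f j s = (P n).f j s') → s = s')
    (hex : ∀ (j : ℤ) (v : ∀ n, (A n).X j), (∀ n, (t n).f j (v (n + 1)) = v n) →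
      ∃ s : L.X j, ∀ n, (P n).f j s = v n)
    (m : ℤ) (n₀ : ℕ)
    (ha : ∀ j : ℤ, (j = m - 2 ∨ j = m - 1) →
      CohCx.LimOneIsZero (fun n => (A n).X j) (fun n => ((t n).f j).hom))
    (hb : CohCx.LimOneIsZero (fun n => (A n).homology (m - 1))
      (fun n => (homologyMap (t n) (m - 1)).hom))
    (hc : ∀ k : ℕ, IsIso (homologyMap (CohCx.transition A t n₀ k) m)) :
    IsIso (homologyMap (P n₀) m) := by
  have hP' : ∀ n j (s : L.X j), (t n).f j ((P (n + 1)).f j s) = (P n).f j s := fun n j s => by
    rw [← hP n, HomologicalComplex.comp_f]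
    rfl
  let F := CohCx.opSequence A t
  have hPF : ∀ (n N : ℕ) (h : n ≤ N), P N ≫ F.map (homOfLE h).op = P n := by
    intro n N h
    obtain ⟨k, rfl⟩ := Nat.le.dest h
    rw [map_transition A t n k]
    induction k with
    | zero => exact Category.comp_id _
    | succ k ih =>
      refine (Category.assoc _ _ _).symm.trans ?_
      exact (congrArg (· ≫ CohCx.transition A t n k) (hP (n + k))).trans (ih (Nat.le_add_right n k))
  have hbij : ∀ k, Function.Bijective (homologyMap (CohCx.transition A t n₀ k) m) := fun k =>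
    haveI := hc k
    ConcreteCategory.bijective_of_isIso _
  refine (ConcreteCategory.isIso_iff_bijective _).mpr ⟨(injective_iff_map_eq_zero _).mpr fun h hh => ?_, ?_⟩
  · obtain ⟨x, hx, r⟩ := exists_rep h
    have hbound : ∀ n, ∃ y : (A n).X (m - 1), (A n).d (m - 1) m y = (P n).f m x := by
      intro n
      refine ((r.map (P n)).eq_zero_iff (m - 1) (by omega)).mp ?_
      rcases le_total n₀ n with hn | hn
      · obtain ⟨k, rfl⟩ := Nat.le.dest hn
        refine (hbij k).1 ?_
        rw [map_zero]
        refine Eq.trans ?_ hh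
        rw [← hPF n₀ (n₀ + k) hn, map_transition, homologyMap_comp]
        rfl
      · rw [← hPF n n₀ hn, homologyMap_comp]
        exact (congrArg (homologyMap (F.map (homOfLE hn).op) m) hh).trans (map_zero _)
    choose y hy using hbound
    have hδ : ∀ n, (A n).d (m - 1) (m - 1 + 1) (y n - (t n).f (m - 1) (y (n + 1))) = 0 := by
      intro n
      rw [show m - 1 + 1 = m by omega, map_sub, hy, sub_eq_zero, ← hP' n m x, ← hy (n + 1)]
      exact (ConcreteCategory.congr_hom ((t n).comm (m - 1) m) (y (n + 1))).symm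
    choose g hg using fun n => exists_class _ (hδ n)
    obtain ⟨c, hcc⟩ := hb g
    choose cz hcz hcr using fun n => exists_rep (c n)
    have hrest : ∀ n, ∃ e : (A n).X (m - 2), (A n).d (m - 2) (m - 1) e =
        (y n - (t n).f (m - 1) (y (n + 1))) - (cz n - (t n).f (m - 1) (cz (n + 1))) := fun n =>
      (((hg n).sub ((hcr n).sub ((hcr (n + 1)).map (t n)))).eq_zero_iff (m - 2) (by omega)).mp
        (sub_eq_zero.mpr (congrFun hcc n).symm)
    choose e he using hrest
    obtain ⟨f, hf⟩ := ha (m - 2) (Or.inl rfl) e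
    let v := fun n => y n - cz n - (A n).d (m - 2) (m - 1) (f n)
    have hv : ∀ n, (t n).f (m - 1) (v (n + 1)) = v n := fun n => by
      have h1 := he n
      rw [← congrFun hf n] at h1
      rw [map_sub] at h1
      have h2 : (A n).d (m - 2) (m - 1) ((t n).f (m - 2) (f (n + 1))) =
          (t n).f (m - 1) ((A (n + 1)).d (m - 2) (m - 1) (f (n + 1))) :=
        ConcreteCategory.congr_hom ((t n).comm (m - 2) (m - 1)) (f (n + 1))
      change _ - (A n).d (m - 2) (m - 1) ((t n).f (m - 2) (f (n + 1))) = _ at h1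
      rw [h2] at h1
      refine sub_eq_zero.mp ?_
      simp only [v, map_sub]
      rw [← sub_eq_zero] at h1
      rw [← h1]
      abel
    obtain ⟨s, hs⟩ := hex (m - 1) v hv
    refine (r.eq_zero_iff (m - 1) (by omega)).mpr ⟨s, hext m _ _ fun n => ?_⟩
    refine (ConcreteCategory.congr_hom ((P n).comm (m - 1) m) s).symm.trans ?_
    refine (congrArg ((A n).d (m - 1) m) (hs n)).trans ?_
    have hczn : (A n).d (m - 1) m (cz n) = 0 := by
      have := hcz n
      rwa [show m - 1 + 1 = m by omega] at this
    rw [map_sub, map_sub, hy, hczn, d_d_apply, sub_zero, sub_zero]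
  · intro h₀
    choose g hg using fun k => (hbij k).2 h₀
    have hgc : ∀ k, homologyMap (t (n₀ + k)) m (g (k + 1)) = g k := fun k => (hbij k).1 (by
      rw [hg k, ← hg (k + 1)]
      exact ((congrArg (fun f => (ConcreteCategory.hom f) (g (k + 1)))
        (homologyMap_comp (t (n₀ + k)) (CohCx.transition A t n₀ k) m))).symm)
    have hnle : ∀ n, n ≤ n₀ + n := fun n => Nat.le_add_left n n₀
    let hcl : ∀ n, (A n).homology m := fun n => homologyMap (F.map (homOfLE (hnle n)).op) m (g n)
    have hclc : ∀ n, homologyMap (t n) m (hcl (n + 1)) = hcl n := by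
      intro n
      have e1 : F.map (homOfLE (hnle (n + 1))).op ≫ t n =
          t (n₀ + n) ≫ F.map (homOfLE (hnle n)).op := by
        have e2 : (homOfLE (hnle (n + 1))).op ≫ (homOfLE (Nat.le_succ n)).op =
            (homOfLE (Nat.le_succ (n₀ + n))).op ≫ (homOfLE (hnle n)).op := rfl
        have e3 := congrArg F.map e2
        rw [CategoryTheory.Functor.map_comp, CategoryTheory.Functor.map_comp,
          Functor.ofOpSequence_map_homOfLE_succ, Functor.ofOpSequence_map_homOfLE_succ] at e3
        exact e3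
      have e4 := congrArg (fun f => (ConcreteCategory.hom (homologyMap f m)) (g (n + 1))) e1
      simp only [homologyMap_comp, ConcreteCategory.comp_apply] at e4
      exact e4.trans (congrArg (homologyMap (F.map (homOfLE (hnle n)).op) m) (hgc n))
    have h₀' : hcl n₀ = h₀ := (congrArg (fun f => (ConcreteCategory.hom (homologyMap f m)) (g n₀))
      (map_transition A t n₀ n₀)).trans (hg n₀)
    choose z hz hr using fun n => exists_rep (hcl n)
    have hrest : ∀ n, ∃ e : (A n).X (m - 1), (A n).d (m - 1) m e = z n - (t n).f m (z (n + 1)) := fun n =>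
      (((hr n).sub ((hr (n + 1)).map (t n))).eq_zero_iff (m - 1) (by omega)).mp (by rw [hclc, sub_self])
    choose e he using hrest
    obtain ⟨f, hf⟩ := ha (m - 1) (Or.inr rfl) e
    let v := fun n => z n - (A n).d (m - 1) m (f n)
    have hv : ∀ n, (t n).f m (v (n + 1)) = v n := fun n => by
      have h1 := he n
      rw [← congrFun hf n, map_sub] at h1
      have h2 : (A n).d (m - 1) m ((t n).f (m - 1) (f (n + 1))) =
          (t n).f m ((A (n + 1)).d (m - 1) m (f (n + 1))) :=
        ConcreteCategory.congr_hom ((t n).comm (m - 1) m) (f (n + 1))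
      change _ - (A n).d (m - 1) m ((t n).f (m - 1) (f (n + 1))) = _ at h1
      rw [h2] at h1
      refine sub_eq_zero.mp ?_
      simp only [v, map_sub]
      rw [← sub_eq_zero] at h1
      rw [← h1]
      abel
    obtain ⟨x, hx⟩ := hex m v hv
    have hxd : L.d m (m + 1) x = 0 := hext (m + 1) _ _ fun n => by
      refine (ConcreteCategory.congr_hom ((P n).comm m (m + 1)) x).symm.trans ?_
      refine (congrArg ((A n).d m (m + 1)) (hx n)).trans ?_
      rw [map_zero, map_sub, hz, d_d_apply, sub_zero]
    obtain ⟨h, hrx⟩ := exists_class x hxd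
    refine ⟨h, ?_⟩
    have r1 := (hr n₀).sub (hrx.map (P n₀))
    refine (sub_eq_zero.mp ((r1.eq_zero_iff (m - 1) (by omega)).mpr ⟨f n₀, ?_⟩)).symm.trans h₀'
    rw [hx n₀]
    simp only [v, sub_sub_cancel]

end Tower

section Lim

variable {D : Type*} [Category D] (G : D ⥤ AddCommGrpCat.{u}) (A : ℕ → D) (t : ∀ n, A (n + 1) ⟶ A n)
  [HasLimit (CohCx.opSequence A t)] [PreservesLimitsOfShape ℕᵒᵖ G]

theorem exists_map_limit (s : ∀ n, G.obj (A n)) (hs : ∀ n, G.map (t n) (s (n + 1)) = s n) :
    ∃ x : G.obj (limit (CohCx.opSequence A t)),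
      ∀ n, G.map (limit.π (CohCx.opSequence A t) (op n)) x = s n := by
  let M := CohCx.opSequence A t
  let hc := isLimitOfPreserves (forget AddCommGrpCat.{u}) (isLimitOfPreserves G (limit.isLimit M))
  have key : ∀ d (m n : ℕ) (h : n + d = m),
      G.map (M.map (homOfLE (h ▸ Nat.le_add_right n d)).op) (s m) = s n := by
    intro d
    induction d with
    | zero =>
      intro m n h
      obtain rfl : n = m := h
      refine (ConcreteCategory.congr_hom (congrArg G.map (M.map_id (op n))) (s n)).trans ?_
      exact ConcreteCategory.congr_hom (G.map_id (A n)) (s n)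
    | succ d ih =>
      intro m n h
      have e : M.map (homOfLE (h ▸ Nat.le_add_right n (d + 1))).op =
          M.map (homOfLE (show n + 1 ≤ m by omega)).op ≫ M.map (homOfLE (Nat.le_succ n)).op := by
        rw [← CategoryTheory.Functor.map_comp, ← op_comp]
        rfl
      rw [Functor.ofOpSequence_map_homOfLE_succ] at e
      refine (ConcreteCategory.congr_hom ((congrArg G.map e).trans (G.map_comp _ _)) (s m)).trans ?_
      exact (congrArg (G.map (t n)) (ih m (n + 1) (by omega))).trans (hs n)
  let σ : ((M ⋙ G) ⋙ forget AddCommGrpCat.{u}).sections :=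
    ⟨fun n => s n.unop, fun {m n} f => by
      obtain ⟨d, hd⟩ := Nat.le.dest (leOfHom f.unop)
      exact key d m.unop n.unop hd⟩
  exact ⟨(Types.isLimitEquivSections hc).symm σ, fun n =>
    Types.isLimitEquivSections_symm_apply hc σ (op n)⟩

theorem map_limit_ext (s s' : G.obj (limit (CohCx.opSequence A t)))
    (h : ∀ n, G.map (limit.π (CohCx.opSequence A t) (op n)) s =
      G.map (limit.π (CohCx.opSequence A t) (op n)) s') : s = s' :=
  Concrete.isLimit_ext _ (isLimitOfPreserves G (limit.isLimit (CohCx.opSequence A t))) s s' fun n => h n.unop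

end Lim

end Groth.Agent.CohTopLib.MilnorCx
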