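import Groth.Prelude.Def_CohTop
import Groth.Agent.CohLib.CohPresheaf
import Groth.Agent.LocSuppLib.ExtNat
import Groth.Agent.RightDerCompLib.Basic

/-!
# Higher direct images and colimits, on a basis
-/

set_option linter.unusedSectionVars false
set_option linter.style.haveILetI false
set_option backward.isDefEq.respectTransparency false

universe u
open CategoryTheory CategoryTheory.Limits TopologicalSpace Opposite CategoryTheory.Abelian

namespace CohTopLib.RpushColim

variable {X Y : TopCat.{u}} (f : X ⟶ Y)

/-- `V ↦ ℤ_{f⁻¹V}`. -/
noncomputable abbrev Zf : Opens Y ⥤ CohTop.Ab X :=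
  Opens.map f ⋙ yoneda ⋙ (Functor.whiskeringRight _ _ _).obj AddCommGrpCat.free.{u} ⋙
    presheafToSheaf (Opens.grothendieckTopology X) AddCommGrpCat.{u}

/-- Sections of the direct image are maps out of free sheaves. -/
noncomputable def secIso : LocSuppLib.homPre (Zf f) ≅
    CohTop.push f ⋙ sheafToPresheaf (Opens.grothendieckTopology Y) AddCommGrpCat.{u} :=
  NatIso.ofComponents (fun F => NatIso.ofComponents (fun V =>
      (CohLib.secAddEquiv (Opens.grothendieckTopology X) ((Opens.map f).obj V.unop) F).toAddCommGrpIso)
    (fun {V W} i => by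
      ext t
      exact CohLib.secEquiv_precomp ((Opens.map f).map i.unop) F t))
    (fun {F G} φ => by
      ext V t
      exact CohLib.secEquiv_comp ((Opens.map f).obj V.unop) φ t)

/-- The direct image as a composite with sheafification. -/
noncomputable def pushIso :
    LocSuppLib.homPre (Zf f) ⋙ presheafToSheaf (Opens.grothendieckTopology Y) AddCommGrpCat.{u} ≅
      CohTop.push f :=
  Functor.isoWhiskerRight (secIso f) _ ≪≫ Functor.associator _ _ _ ≪≫
    Functor.isoWhiskerLeft (CohTop.push f)
      (asIso (sheafificationAdjunction (Opens.grothendieckTopology Y) AddCommGrpCat.{u}).counit) ≪≫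
    Functor.rightUnitor _

theorem preservesColimit_Rpush {ι : Type u} [SmallCategory ι] (F : ι ⥤ CohTop.Ab X) (p : ℕ)
    (h : Opens.IsBasis {V : Opens Y | PreservesColimit F
        ((Sheaf.cohomologyPresheafFunctor (Opens.grothendieckTopology X) p).flip.obj
          (op ((Opens.map f).obj V)))}) :
    PreservesColimit F (CohTop.Rpush f p) := by
  let a := presheafToSheaf (Opens.grothendieckTopology Y) AddCommGrpCat.{u}
  haveI : a.Additive := (sheafificationAdjunction _ AddCommGrpCat.{u}).left_adjoint_additive
  let Q := (LocSuppLib.homPre (Zf f)).rightDerived p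
  haveI : PreservesColimit F (Q ⋙ a) := by
    let ev := fun V : Opens Y => (evaluation (Opens Y)ᵒᵖ AddCommGrpCat.{u}).obj (op V)
    have hev : ∀ V ∈ {V : Opens Y | PreservesColimit F
        ((Sheaf.cohomologyPresheafFunctor (Opens.grothendieckTopology X) p).flip.obj
          (op ((Opens.map f).obj V)))}, IsIso ((colimit.post F Q).app (op V)) := by
      intro V hV
      haveI : PreservesColimit F (Q ⋙ ev V) := by
        haveI : PreservesColimit F ((extFunctor.{u} p).obj (op ((Zf f).obj V))) := hV
        exact preservesColimit_of_natIso F ((LocSuppLib.rightDerivedHomIso (Zf f) (op V) p).symm ≪≫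
          Groth.Agent.RightDerCompLib.rightDerivedCompExact (LocSuppLib.homPre (Zf f)) (ev V) p)
      have h2 := colimit.post_post F Q (ev V)
      haveI : IsIso (colimit.post F (Q ⋙ ev V)) := inferInstance
      haveI : IsIso (colimit.post (F ⋙ Q) (ev V)) := inferInstance
      haveI : IsIso (colimit.post (F ⋙ Q) (ev V) ≫ (ev V).map (colimit.post F Q)) := by
        rw [h2]; infer_instance
      exact IsIso.of_isIso_comp_left (colimit.post (F ⋙ Q) (ev V)) ((ev V).map (colimit.post F Q))
    haveI : IsIso (a.map (colimit.post F Q)) := by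
      rw [← GrothendieckTopology.W_iff]
      rw [GrothendieckTopology.W_iff_isLocallyBijective]
      refine ⟨⟨fun {U} s s' hs => ?_⟩, ⟨fun {U} s => ?_⟩⟩
      · intro y hy
        obtain ⟨V, hV, hyV, hVU⟩ := Opens.isBasis_iff_nbhd.mp h hy
        haveI := hev V hV
        refine ⟨V, homOfLE hVU, ((AddCommGrpCat.mono_iff_injective ((colimit.post F Q).app (op V))).mp inferInstance) ?_, hyV⟩
        exact (NatTrans.naturality_apply _ _ _).trans ((congrArg _ hs).trans (NatTrans.naturality_apply _ _ _).symm)
      · intro y hy
        obtain ⟨V, hV, hyV, hVU⟩ := Opens.isBasis_iff_nbhd.mp h hy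
        haveI := hev V hV
        exact ⟨V, homOfLE hVU, (AddCommGrpCat.epi_iff_surjective ((colimit.post F Q).app (op V))).mp inferInstance _, hyV⟩
    haveI : PreservesColimit (F ⋙ Q) a :=
      haveI := (sheafificationAdjunction (Opens.grothendieckTopology Y) AddCommGrpCat.{u}).leftAdjoint_preservesColimits
      inferInstance
    haveI : IsIso (colimit.post F (Q ⋙ a)) := by
      rw [← colimit.post_post]
      infer_instance
    exact preservesColimit_of_isIso_post _ _
  exact preservesColimit_of_natIso F
    ((Groth.Agent.RightDerCompLib.rightDerivedCompExact (LocSuppLib.homPre (Zf f)) a p).symm ≪≫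
      Groth.Agent.RightDerCompLib.rightDerivedCongr (pushIso f) p)

end CohTopLib.RpushColim
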